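import Groth.Agent.Lib.Helper62.SmoothReg6
import Groth.Agent.S0558

/-! Smooth over an arbitrary field implies regular (helper62). -/

set_option linter.style.haveILetI false

universe u

open TensorProduct Function IsLocalRing KaehlerDifferential

noncomputable section

namespace Groth.Agent.Lib.Helper62.SmoothReg

section L

variable {k : Type u} [CommRing k] (T : Type u) [CommRing T] [IsRegularLocalRing T] [Algebra k T]
  [Algebra.FormallySmooth k T] [Module.Free T Ω[T⁄k]] [Module.Finite T Ω[T⁄k]]
  (A : Type u) [CommRing A] [IsLocalRing A] [Algebra k A] [Algebra T A] [IsScalarTower k T A]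

include T in
/-- a formally smooth local quotient of a formally smooth regular local ring (with free finite
differentials) is regular; no assumption on the residue field. -/
theorem isRegularLocalRing_of_formallySmooth_of_surjective (hs : Surjective (algebraMap T A))
    [Algebra.FormallySmooth k A] : IsRegularLocalRing A := by
  have hsK : Surjective (algebraMap T (ResidueField A)) := by
    rw [IsScalarTower.algebraMap_eq T A (ResidueField A)]
    exact residue_surjective.comp hs
  have hn : RingHom.ker (algebraMap T (ResidueField A)) = maximalIdeal T :=
    IsLocalRing.ker_eq_maximalIdeal _ hsK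
  have hle : RingHom.ker (algebraMap T A) ≤ RingHom.ker (algebraMap T (ResidueField A)) := by
    intro x hx
    rw [RingHom.mem_ker] at hx ⊢
    rw [IsScalarTower.algebraMap_apply T A (ResidueField A), hx, map_zero]
  have h1 := (Algebra.FormallySmooth.iff_injective_cotangentComplexBaseChange_residueField (R := k)
    T hs (IsNoetherian.noetherian _)).mp inferInstance
  have hcomp : ∀ z, cotangentComplexBaseChange k A T (ResidueField A) z =
      cotangentComplexBaseChange k (ResidueField A) T (ResidueField A)
        (LinearMap.lTensor (ResidueField A) (Submodule.inclusion hle) z) := by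
    intro z
    induction z using TensorProduct.induction_on with
    | zero => simp only [map_zero]
    | tmul a b => rfl
    | add x y hx hy => simp only [map_add, hx, hy]
  have h3 : Injective (LinearMap.lTensor (ResidueField A) (Submodule.inclusion hle)) := by
    have h4 : Injective ((cotangentComplexBaseChange k (ResidueField A) T (ResidueField A)) ∘
        (LinearMap.lTensor (ResidueField A) (Submodule.inclusion hle))) := by
      have : (cotangentComplexBaseChange k (ResidueField A) T (ResidueField A)) ∘
          (LinearMap.lTensor (ResidueField A) (Submodule.inclusion hle)) =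
          cotangentComplexBaseChange k A T (ResidueField A) := funext fun z => (hcomp z).symm
      rw [this]
      exact h1
    exact Function.Injective.of_comp h4
  rw [injective_lTensor_inclusion_iff hsK _ hle, hn,
    ← isRegularLocalRing_quotient_iff T _ (hn ▸ hle)] at h3
  exact IsRegularLocalRing.of_ringEquiv (RingHom.quotientKerEquivOfSurjective hs)

end L

/-- over any field, smooth at `q` implies regular at `q`. -/
theorem isRegularLocalRing_of_isSmoothAt (k : Type u) [Field k]
    (S : Type u) [CommRing S] [Algebra k S] [Algebra.FiniteType k S] (q : Ideal S) [q.IsPrime]
    (h : Algebra.IsSmoothAt k q) : IsRegularLocalRing (Localization.AtPrime q) := by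
  obtain ⟨n, f₀, hf₀⟩ := Algebra.FiniteType.iff_quotient_mvPolynomial''.mp
    (inferInstance : Algebra.FiniteType k S)
  let Q : Ideal (MvPolynomial (Fin n) k) := q.comap f₀.toRingHom
  let T := Localization.AtPrime Q
  let fP : T →+* Localization.AtPrime q := Localization.localRingHom Q q f₀.toRingHom rfl
  have hfP : Function.Surjective fP :=
    RingHom.surjective_localRingHom_of_surjective f₀.toRingHom hf₀ q
  algebraize [fP]
  have : IsScalarTower k T (Localization.AtPrime q) := by
    refine IsScalarTower.of_algebraMap_eq fun x => ?_
    rw [IsScalarTower.algebraMap_apply k (MvPolynomial (Fin n) k) T, RingHom.algebraMap_toAlgebra]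
    change _ = Localization.localRingHom Q q f₀.toRingHom rfl _
    rw [Localization.localRingHom_to_map]
    change _ = algebraMap S _ (f₀ _)
    rw [f₀.commutes, ← IsScalarTower.algebraMap_apply]
  have : Algebra.FormallyEtale (MvPolynomial (Fin n) k) T := .of_isLocalization Q.primeCompl
  have : Algebra.FormallySmooth k T := .comp _ (MvPolynomial (Fin n) k) _
  have : Module.Free T Ω[T⁄k] :=
    .of_equiv (KaehlerDifferential.tensorKaehlerEquivOfFormallyEtale k (MvPolynomial (Fin n) k) T)
  haveI : Algebra.FormallySmooth k (Localization.AtPrime q) := h
  exact isRegularLocalRing_of_formallySmooth_of_surjective (k := k) T (Localization.AtPrime q) hfP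

/-- the local rings of a smooth algebra over a field are domains. -/
theorem isDomain_localization_of_smooth (k : Type u) [Field k]
    (S : Type u) [CommRing S] [Algebra k S] [Algebra.Smooth k S] (q : Ideal S) [q.IsPrime] :
    IsDomain (Localization.AtPrime q) := by
  haveI : Algebra.FiniteType k S := inferInstance
  haveI : IsRegularLocalRing (Localization.AtPrime q) :=
    isRegularLocalRing_of_isSmoothAt k S q (inferInstanceAs
      (Algebra.FormallySmooth k (Localization.AtPrime q)))
  exact Groth.Agent.S0558.result _

end Groth.Agent.Lib.Helper62.SmoothReg

end
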