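import Mathlib

/-! Stalks of a base change `X ×_k K` as localizations of `K ⊗[k] O_{X,x}` (helper62). -/

set_option autoImplicit false
set_option linter.style.haveILetI false

universe u

open CategoryTheory CategoryTheory.Limits AlgebraicGeometry TensorProduct

noncomputable section

namespace Groth.Agent.Lib.Helper62.BCStalk

variable {k : Type u} [CommRing k] {X : Scheme.{u}} (f : X ⟶ Spec (CommRingCat.of k))
  (K : Type u) [CommRing K] [Algebra k K]

/-- the base change. -/
abbrev bc : Scheme.{u} := pullback f (Spec.map (CommRingCat.ofHom (algebraMap k K)))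

/-- first projection -/
abbrev bcπ : bc f K ⟶ X := pullback.fst f (Spec.map (CommRingCat.ofHom (algebraMap k K)))

/-- second projection -/
abbrev bcσ : bc f K ⟶ Spec (CommRingCat.of K) :=
  pullback.snd f (Spec.map (CommRingCat.ofHom (algebraMap k K)))

instance : IsAffineHom (bcπ f K) :=
  MorphismProperty.pullback_fst (P := @IsAffineHom) _ _ inferInstance

/-- structure map `k → Γ(X, U)`. -/
def toSection (U : X.Opens) : k →+* Γ(X, U) :=
  (f.appLE ⊤ U le_top).hom.comp (Scheme.ΓSpecIso (CommRingCat.of k)).inv.hom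

/-- structure map `K → Γ(X_K, V)`. -/
def toSectionK (V : (bc f K).Opens) : K →+* Γ(bc f K, V) :=
  ((bcσ f K).appLE ⊤ V le_top).hom.comp (Scheme.ΓSpecIso (CommRingCat.of K)).inv.hom

variable {f} in
theorem isPushout_sections {U : X.Opens} (hU : IsAffineOpen U) :
    IsPushout (CommRingCat.ofHom (toSection f U)) (CommRingCat.ofHom (algebraMap k K))
      ((bcπ f K).appLE U ((bcπ f K) ⁻¹ᵁ U) le_rfl)
      (CommRingCat.ofHom (toSectionK f K ((bcπ f K) ⁻¹ᵁ U))) := by
  have H : IsPullback (bcπ f K) (bcσ f K) f (Spec.map (CommRingCat.ofHom (algebraMap k K))) :=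
    IsPullback.of_hasPullback _ _
  have hUY : (bcπ f K) ⁻¹ᵁ U = (bcπ f K) ⁻¹ᵁ U ⊓ (bcσ f K) ⁻¹ᵁ ⊤ := by simp
  have h1 := isIso_pushoutSection_of_isAffineOpen H (US := ⊤) (UT := ⊤) (UX := U) le_top le_top hUY
    (isAffineOpen_top _) (isAffineOpen_top _) hU
  rw [isIso_pushoutSection_iff] at h1
  refine IsPushout.of_iso h1 (Scheme.ΓSpecIso (CommRingCat.of k)) (Iso.refl _)
    (Scheme.ΓSpecIso (CommRingCat.of K)) (Iso.refl _) ?_ ?_ ?_ ?_
  · simp [toSection]
  · exact Scheme.ΓSpecIso_naturality (CommRingCat.ofHom (algebraMap k K))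
  · simp
  · simp [toSectionK]

variable {f} in
/-- sections of the base change over the preimage of an affine open are a tensor product. -/
theorem exists_ringEquiv_sections {U : X.Opens} (hU : IsAffineOpen U) :
    letI := (toSection f U).toAlgebra
    ∃ φ : K ⊗[k] Γ(X, U) ≃+* Γ(bc f K, (bcπ f K) ⁻¹ᵁ U),
      (∀ a : Γ(X, U), φ (1 ⊗ₜ a) = ((bcπ f K).appLE U ((bcπ f K) ⁻¹ᵁ U) le_rfl).hom a) ∧
      (∀ c : K, φ (c ⊗ₜ 1) = toSectionK f K ((bcπ f K) ⁻¹ᵁ U) c) := by
  have h := isPushout_sections (f := f) K hU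
  letI : Algebra k Γ(X, U) := (toSection f U).toAlgebra
  letI : Algebra Γ(X, U) Γ(bc f K, (bcπ f K) ⁻¹ᵁ U) :=
    ((bcπ f K).appLE U ((bcπ f K) ⁻¹ᵁ U) le_rfl).hom.toAlgebra
  letI : Algebra K Γ(bc f K, (bcπ f K) ⁻¹ᵁ U) := (toSectionK f K ((bcπ f K) ⁻¹ᵁ U)).toAlgebra
  letI : Algebra k Γ(bc f K, (bcπ f K) ⁻¹ᵁ U) :=
    ((algebraMap Γ(X, U) Γ(bc f K, (bcπ f K) ⁻¹ᵁ U)).comp (algebraMap k Γ(X, U))).toAlgebra
  haveI : IsScalarTower k Γ(X, U) Γ(bc f K, (bcπ f K) ⁻¹ᵁ U) :=
    IsScalarTower.of_algebraMap_eq fun _ => rfl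
  haveI : IsScalarTower k K Γ(bc f K, (bcπ f K) ⁻¹ᵁ U) := by
    refine IsScalarTower.of_algebraMap_eq fun c => ?_
    have := congr($(h.w).hom c)
    exact this
  have h2 : Algebra.IsPushout k Γ(X, U) K Γ(bc f K, (bcπ f K) ⁻¹ᵁ U) :=
    CommRingCat.isPushout_iff_isPushout.mp h
  have h3 : Algebra.IsPushout k K Γ(X, U) Γ(bc f K, (bcπ f K) ⁻¹ᵁ U) := h2.symm
  refine ⟨(Algebra.IsPushout.equiv k K Γ(X, U) Γ(bc f K, (bcπ f K) ⁻¹ᵁ U)).toRingEquiv, ?_, ?_⟩
  · intro a
    change Algebra.IsPushout.equiv k K Γ(X, U) Γ(bc f K, (bcπ f K) ⁻¹ᵁ U) (1 ⊗ₜ a) = _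
    rw [Algebra.IsPushout.equiv_tmul, map_one, one_mul]
    rfl
  · intro c
    change Algebra.IsPushout.equiv k K Γ(X, U) Γ(bc f K, (bcπ f K) ⁻¹ᵁ U) (c ⊗ₜ 1) = _
    rw [Algebra.IsPushout.equiv_tmul, map_one, mul_one]
    rfl

section Ring

theorem nonempty_of_eq {R : Type*} [CommRing R] {I J : Ideal R} [I.IsPrime] [J.IsPrime]
    (h : I = J) {T : Type*} [CommRing T] (e : Nonempty (Localization.AtPrime I ≃+* T)) :
    Nonempty (Localization.AtPrime J ≃+* T) := by
  subst h
  exact e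

variable (k K A : Type u) [CommRing k] [CommRing K] [Algebra k K] [CommRing A] [Algebra k A]
  (q : Ideal A) [q.IsPrime] (O : Type u) [CommRing O] [Algebra k O] [Algebra A O]
  [IsScalarTower k A O]

/-- `K ⊗ A → K ⊗ O`. -/
def tmap : K ⊗[k] A →ₐ[K] K ⊗[k] O :=
  Algebra.TensorProduct.map (AlgHom.id K K) (IsScalarTower.toAlgHom k A O)

theorem tmap_one_tmul (a : A) : tmap k K A O (1 ⊗ₜ a) = 1 ⊗ₜ algebraMap A O a := by
  rw [tmap, Algebra.TensorProduct.map_tmul]
  rfl

variable [IsLocalization.AtPrime O q]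

theorem isLocalization_tensor :
    @IsLocalization _ _ (q.primeCompl.map
      (Algebra.TensorProduct.includeRight (R := k) (A := K) (B := A)))
      (K ⊗[k] O) _ (tmap k K A O).toRingHom.toAlgebra := by
  letI := (tmap k K A O).toRingHom.toAlgebra
  haveI : IsScalarTower K (K ⊗[k] A) (K ⊗[k] O) :=
    IsScalarTower.of_algebraMap_eq' (tmap k K A O).comp_algebraMap.symm
  apply IsLocalization.tensorProduct_tensorProduct_right k K q.primeCompl O
  ext a
  change tmap k K A O ((1 : K) ⊗ₜ[k] a) = _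
  rw [tmap_one_tmul]
  rfl

include q in
/-- the localization of `K ⊗ O` at a prime is the localization of `K ⊗ A` at its contraction. -/
theorem nonempty_ringEquiv_atPrime (M : Ideal (K ⊗[k] O)) [M.IsPrime] :
    Nonempty (Localization.AtPrime (M.comap (tmap k K A O).toRingHom) ≃+*
      Localization.AtPrime M) := by
  letI := (tmap k K A O).toRingHom.toAlgebra
  haveI := isLocalization_tensor k K A q O
  haveI : IsLocalization.AtPrime (Localization.AtPrime M)
      (M.comap (algebraMap (K ⊗[k] A) (K ⊗[k] O))) :=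
    IsLocalization.isLocalization_isLocalization_atPrime_isLocalization (q.primeCompl.map
      (Algebra.TensorProduct.includeRight (R := k) (A := K) (B := A))) (Localization.AtPrime M) M
  exact ⟨(IsLocalization.algEquiv (M.comap (algebraMap (K ⊗[k] A) (K ⊗[k] O))).primeCompl
    (Localization.AtPrime (M.comap (algebraMap (K ⊗[k] A) (K ⊗[k] O))))
    (Localization.AtPrime M)).toRingEquiv⟩

theorem comap_comap_tmap (M : Ideal (K ⊗[k] O)) :
    (M.comap (tmap k K A O).toRingHom).comap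
      (Algebra.TensorProduct.includeRight (R := k) (A := K) (B := A)).toRingHom =
    (M.comap (Algebra.TensorProduct.includeRight (R := k) (A := K) (B := O)).toRingHom).comap
      (algebraMap A O) := by
  ext a
  simp only [Ideal.mem_comap]
  change tmap k K A O (1 ⊗ₜ a) ∈ M ↔ (1 : K) ⊗ₜ[k] (algebraMap A O a) ∈ M
  rw [tmap_one_tmul]

variable [IsLocalRing O]

include q in
theorem eq_maximalIdeal_iff (N : Ideal O) :
    N.comap (algebraMap A O) = q ↔ N = IsLocalRing.maximalIdeal O := by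
  constructor
  · intro h
    rw [← IsLocalization.AtPrime.map_eq_maximalIdeal q O, ← h]
    exact (IsLocalization.map_under q.primeCompl O N).symm
  · rintro rfl
    exact IsLocalization.AtPrime.under_maximalIdeal O q

/-- from a prime of `K ⊗ O` over the maximal ideal to a prime of `K ⊗ A` over `q`. -/
theorem exists_prime_of_prime_tensor (M : Ideal (K ⊗[k] O)) [M.IsPrime]
    (hM : M.comap (Algebra.TensorProduct.includeRight (R := k) (A := K) (B := O)).toRingHom =
      IsLocalRing.maximalIdeal O) :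
    ∃ (P' : Ideal (K ⊗[k] A)) (_ : P'.IsPrime),
      P'.comap (Algebra.TensorProduct.includeRight (R := k) (A := K) (B := A)).toRingHom = q ∧
      Nonempty (Localization.AtPrime P' ≃+* Localization.AtPrime M) := by
  refine ⟨M.comap (tmap k K A O).toRingHom, inferInstance, ?_,
    nonempty_ringEquiv_atPrime k K A q O M⟩
  rw [comap_comap_tmap, hM]
  exact (eq_maximalIdeal_iff A q O _).mpr rfl

/-- from a prime of `K ⊗ A` over `q` to a prime of `K ⊗ O` over the maximal ideal. -/
theorem exists_prime_tensor_of_prime (P' : Ideal (K ⊗[k] A)) [P'.IsPrime]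
    (hP' : P'.comap (Algebra.TensorProduct.includeRight (R := k) (A := K) (B := A)).toRingHom =
      q) :
    ∃ (M : Ideal (K ⊗[k] O)) (_ : M.IsPrime),
      M.comap (Algebra.TensorProduct.includeRight (R := k) (A := K) (B := O)).toRingHom =
        IsLocalRing.maximalIdeal O ∧
      Nonempty (Localization.AtPrime P' ≃+* Localization.AtPrime M) := by
  letI := (tmap k K A O).toRingHom.toAlgebra
  haveI := isLocalization_tensor k K A q O
  have hdisj : Disjoint ((q.primeCompl.map
      (Algebra.TensorProduct.includeRight (R := k) (A := K) (B := A)) : Submonoid _) :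
        Set (K ⊗[k] A)) (P' : Set (K ⊗[k] A)) := by
    rw [Set.disjoint_left]
    rintro _ ⟨a, ha, rfl⟩ hmem
    apply ha
    rw [← hP']
    exact hmem
  have hprime : (P'.map (algebraMap (K ⊗[k] A) (K ⊗[k] O))).IsPrime :=
    IsLocalization.isPrime_of_isPrime_disjoint _ _ _ inferInstance hdisj
  have hcomap : (P'.map (algebraMap (K ⊗[k] A) (K ⊗[k] O))).comap
      (algebraMap (K ⊗[k] A) (K ⊗[k] O)) = P' :=
    IsLocalization.under_map_of_isPrime_disjoint _ _ inferInstance hdisj
  have hcomap' : (P'.map (algebraMap (K ⊗[k] A) (K ⊗[k] O))).comap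
      (tmap k K A O).toRingHom = P' := hcomap
  refine ⟨P'.map (algebraMap (K ⊗[k] A) (K ⊗[k] O)), hprime, ?_, ?_⟩
  · rw [← eq_maximalIdeal_iff A q O, ← comap_comap_tmap, hcomap', hP']
  · exact nonempty_of_eq hcomap'
      (nonempty_ringEquiv_atPrime k K A q O (P'.map (algebraMap (K ⊗[k] A) (K ⊗[k] O))))

end Ring

section Geom

variable {k : Type u} [CommRing k] {X : Scheme.{u}} (f : X ⟶ Spec (CommRingCat.of k))
  (K : Type u) [CommRing K] [Algebra k K]

/-- structure map `k → O_{X,x}`. -/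
def stalkStr (x : X) : k →+* X.presheaf.stalk x :=
  (X.presheaf.germ ⊤ x trivial).hom.comp
    ((f.appTop).hom.comp (Scheme.ΓSpecIso (CommRingCat.of k)).inv.hom)

theorem germ_comp_toSection (U : X.Opens) (x : X) (hx : x ∈ U) :
    (X.presheaf.germ U x hx).hom.comp (toSection f U) = stalkStr f x := by
  ext c
  simp only [toSection, stalkStr, RingHom.comp_apply]
  rw [Scheme.Hom.appLE]
  simp only [CommRingCat.hom_comp, RingHom.comp_apply]
  rw [← CommRingCat.comp_apply, X.presheaf.germ_res]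
  rfl

/-- chart data at a point `x ∈ U`, `U` affine. -/
theorem chart_aux {U : X.Opens} (x : X) (hxU : x ∈ U)
    [Algebra k (X.presheaf.stalk x)] (halg : algebraMap k (X.presheaf.stalk x) = stalkStr f x) :
    letI : Algebra k Γ(X, U) := (toSection f U).toAlgebra
    letI : Algebra Γ(X, U) (X.presheaf.stalk x) := X.presheaf.algebra_section_stalk ⟨x, hxU⟩
    IsScalarTower k Γ(X, U) (X.presheaf.stalk x) := by
  letI : Algebra k Γ(X, U) := (toSection f U).toAlgebra
  letI : Algebra Γ(X, U) (X.presheaf.stalk x) := X.presheaf.algebra_section_stalk ⟨x, hxU⟩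
  refine IsScalarTower.of_algebraMap_eq fun c => ?_
  rw [halg, ← germ_comp_toSection f U x hxU]
  rfl

/-- the local ring of the base change at a point `x'` is a localization of `K ⊗ O_{X,x}` at a
prime over the maximal ideal. -/
theorem exists_prime_of_point (x' : bc f K) (x : X) (hx : (bcπ f K).base x' = x)
    [Algebra k (X.presheaf.stalk x)] (halg : algebraMap k (X.presheaf.stalk x) = stalkStr f x) :
    ∃ (M : Ideal (K ⊗[k] X.presheaf.stalk x)) (_ : M.IsPrime),
      M.comap (Algebra.TensorProduct.includeRight (R := k) (A := K)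
        (B := X.presheaf.stalk x)).toRingHom = IsLocalRing.maximalIdeal (X.presheaf.stalk x) ∧
      Nonempty ((bc f K).presheaf.stalk x' ≃+* Localization.AtPrime M) := by
  obtain ⟨_, ⟨U, hU, rfl⟩, hxU, -⟩ :=
    X.isBasis_affineOpens.exists_subset_of_mem_open (Set.mem_univ x) isOpen_univ
  letI : Algebra k Γ(X, U) := (toSection f U).toAlgebra
  letI : Algebra Γ(X, U) (X.presheaf.stalk x) := X.presheaf.algebra_section_stalk ⟨x, hxU⟩
  haveI : IsScalarTower k Γ(X, U) (X.presheaf.stalk x) := chart_aux f x hxU halg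
  haveI := hU.isLocalization_stalk ⟨x, hxU⟩
  have hV : IsAffineOpen ((bcπ f K) ⁻¹ᵁ U) := hU.preimage (bcπ f K)
  have hx'V : x' ∈ (bcπ f K) ⁻¹ᵁ U := by
    change (bcπ f K).base x' ∈ U
    rw [hx]
    exact hxU
  obtain ⟨φ, hφ1, hφ2⟩ := exists_ringEquiv_sections (f := f) K hU
  letI : Algebra Γ(bc f K, (bcπ f K) ⁻¹ᵁ U) ((bc f K).presheaf.stalk x') :=
    (bc f K).presheaf.algebra_section_stalk ⟨x', hx'V⟩
  haveI := hV.isLocalization_stalk ⟨x', hx'V⟩
  set PB := (hV.primeIdealOf ⟨x', hx'V⟩).asIdeal with hPB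
  set q := (hU.primeIdealOf ⟨x, hxU⟩).asIdeal with hq
  have hPBq : PB.comap ((bcπ f K).appLE U ((bcπ f K) ⁻¹ᵁ U) le_rfl).hom = q := by
    have := IsAffineOpen.comap_primeIdealOf_appLE (f := bcπ f K) U hU _ hV le_rfl hx'V
    have h2 := congr($(this).asIdeal)
    rw [PrimeSpectrum.comap_asIdeal] at h2
    rw [hPB, h2, hq]
    congr 3
  let P' : Ideal (K ⊗[k] Γ(X, U)) := PB.comap φ.toRingHom
  haveI : P'.IsPrime := Ideal.comap_isPrime _ _
  have hP' : P'.comap (Algebra.TensorProduct.includeRight (R := k) (A := K)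
      (B := Γ(X, U))).toRingHom = q := by
    rw [← hPBq]
    ext a
    simp only [Ideal.mem_comap, P']
    change φ (1 ⊗ₜ a) ∈ PB ↔ _
    rw [hφ1]
  obtain ⟨M, hM, hMc, ⟨e⟩⟩ := exists_prime_tensor_of_prime k K Γ(X, U) q (X.presheaf.stalk x) P' hP'
  refine ⟨M, hM, hMc, ⟨RingEquiv.trans ?_ e⟩⟩
  have e1 : (bc f K).presheaf.stalk x' ≃+* Localization.AtPrime PB :=
    (IsLocalization.algEquiv PB.primeCompl _ _).toRingEquiv
  refine e1.trans ?_
  exact (IsLocalization.ringEquivOfRingEquiv (M := P'.primeCompl) (T := PB.primeCompl)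
    (Localization.AtPrime P') (Localization.AtPrime PB) φ (by
      ext b
      simp only [Submonoid.mem_map, P']
      constructor
      · rintro ⟨a, ha, rfl⟩
        exact ha
      · intro hb
        exact ⟨φ.symm b, by simpa [Ideal.primeCompl, Ideal.mem_comap] using hb, by simp⟩)).symm

/-- every prime of `K ⊗ O_{X,x}` over the maximal ideal comes from a point of the base change
over `x`, whose local ring is the localization at that prime. -/
theorem exists_point_of_prime (x : X)
    [Algebra k (X.presheaf.stalk x)] (halg : algebraMap k (X.presheaf.stalk x) = stalkStr f x)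
    (M : Ideal (K ⊗[k] X.presheaf.stalk x)) [M.IsPrime]
    (hM : M.comap (Algebra.TensorProduct.includeRight (R := k) (A := K)
        (B := X.presheaf.stalk x)).toRingHom = IsLocalRing.maximalIdeal (X.presheaf.stalk x)) :
    ∃ x' : bc f K, (bcπ f K).base x' = x ∧
      Nonempty ((bc f K).presheaf.stalk x' ≃+* Localization.AtPrime M) := by
  obtain ⟨_, ⟨U, hU, rfl⟩, hxU, -⟩ :=
    X.isBasis_affineOpens.exists_subset_of_mem_open (Set.mem_univ x) isOpen_univ
  letI : Algebra k Γ(X, U) := (toSection f U).toAlgebra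
  letI : Algebra Γ(X, U) (X.presheaf.stalk x) := X.presheaf.algebra_section_stalk ⟨x, hxU⟩
  haveI : IsScalarTower k Γ(X, U) (X.presheaf.stalk x) := chart_aux f x hxU halg
  haveI := hU.isLocalization_stalk ⟨x, hxU⟩
  have hV : IsAffineOpen ((bcπ f K) ⁻¹ᵁ U) := hU.preimage (bcπ f K)
  obtain ⟨φ, hφ1, hφ2⟩ := exists_ringEquiv_sections (f := f) K hU
  set q := (hU.primeIdealOf ⟨x, hxU⟩).asIdeal with hq
  obtain ⟨P', hP'prime, hP', ⟨e⟩⟩ :=
    exists_prime_of_prime_tensor k K Γ(X, U) q (X.presheaf.stalk x) M hM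
  let PB : Ideal Γ(bc f K, (bcπ f K) ⁻¹ᵁ U) := P'.comap φ.symm.toRingHom
  haveI : PB.IsPrime := Ideal.comap_isPrime _ _
  let y : PrimeSpectrum Γ(bc f K, (bcπ f K) ⁻¹ᵁ U) := ⟨PB, inferInstance⟩
  let x'' : ((bcπ f K) ⁻¹ᵁ U : (bc f K).Opens) := hV.isoSpec.inv y
  have hx''y : hV.primeIdealOf x'' = y := by
    change hV.isoSpec.hom (hV.isoSpec.inv y) = y
    rw [← Scheme.Hom.comp_apply, Iso.inv_hom_id]
    rfl
  have hx''U : (bcπ f K).base x''.1 ∈ U := x''.2
  have hPBq : PB.comap ((bcπ f K).appLE U ((bcπ f K) ⁻¹ᵁ U) le_rfl).hom = q := by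
    rw [← hP']
    ext a
    simp only [Ideal.mem_comap, PB]
    change φ.symm _ ∈ P' ↔ _
    rw [← hφ1, RingEquiv.symm_apply_apply]
    rfl
  have hπ : (bcπ f K).base x''.1 = x := by
    have h1 := IsAffineOpen.comap_primeIdealOf_appLE (f := bcπ f K) U hU _ hV le_rfl x''.2
    have h2 : hU.primeIdealOf ⟨(bcπ f K).base x''.1, hx''U⟩ = hU.primeIdealOf ⟨x, hxU⟩ := by
      rw [← h1]
      ext1
      rw [PrimeSpectrum.comap_asIdeal]
      have : hV.primeIdealOf ⟨x''.1, x''.2⟩ = y := hx''y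
      rw [this]
      exact hPBq
    have h3 := congr(hU.fromSpec $h2)
    rw [hU.fromSpec_primeIdealOf, hU.fromSpec_primeIdealOf] at h3
    exact h3
  refine ⟨x''.1, hπ, ⟨RingEquiv.trans ?_ e⟩⟩
  letI : Algebra Γ(bc f K, (bcπ f K) ⁻¹ᵁ U) ((bc f K).presheaf.stalk x''.1) :=
    (bc f K).presheaf.algebra_section_stalk x''
  haveI := hV.isLocalization_stalk x''
  rw [hx''y] at this
  have e1 : (bc f K).presheaf.stalk x''.1 ≃+* Localization.AtPrime PB :=
    (IsLocalization.algEquiv PB.primeCompl _ _).toRingEquiv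
  refine e1.trans ?_
  exact (IsLocalization.ringEquivOfRingEquiv (M := P'.primeCompl) (T := PB.primeCompl)
    (Localization.AtPrime P') (Localization.AtPrime PB) φ (by
      ext b
      simp only [Submonoid.mem_map, PB]
      constructor
      · rintro ⟨a, ha, rfl⟩
        simpa [Ideal.primeCompl, Ideal.mem_comap] using ha
      · intro hb
        exact ⟨φ.symm b, by simpa [Ideal.primeCompl, Ideal.mem_comap] using hb, by simp⟩)).symm

end Geom

end Groth.Agent.Lib.Helper62.BCStalk

end
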