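import Groth.Agent.Lib.Helper62.DimLoc7
import Mathlib.RingTheory.Nilpotent.GeometricallyReduced
import Mathlib.RingTheory.Smooth.Field
import Mathlib.RingTheory.Etale.Descent
import Mathlib.RingTheory.LocalProperties.Reduced
import Mathlib.RingTheory.Spectrum.Prime.FreeLocus
import Mathlib.RingTheory.Ideal.GoingDown
import Mathlib.RingTheory.Localization.BaseChange
import Mathlib.RingTheory.KrullDimension.Zero

/-! Smoothness over a field in terms of projectivity of the differentials and geometric
reducedness at the generic points (helper62). -/

set_option linter.style.haveILetI false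

universe u

open Function KaehlerDifferential TensorProduct

noncomputable section

namespace Groth.Agent.Lib.Helper62.GenRed

section Loc

variable (k K A : Type u) [Field k] [Field K] [Algebra k K] [CommRing A] [Algebra k A]
  (p : Ideal A) [p.IsPrime]

/-- `K ⊗ A → K ⊗ A_p`. -/
def tmap : K ⊗[k] A →ₐ[K] K ⊗[k] Localization.AtPrime p :=
  Algebra.TensorProduct.map (AlgHom.id K K) (IsScalarTower.toAlgHom k A (Localization.AtPrime p))

/-- the corresponding algebra structure. -/
@[instance_reducible]
def tAlg : Algebra (K ⊗[k] A) (K ⊗[k] Localization.AtPrime p) :=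
  (tmap k K A p).toRingHom.toAlgebra

theorem isLocalization_tensor :
    @IsLocalization _ _ (p.primeCompl.map
      (Algebra.TensorProduct.includeRight (R := k) (A := K) (B := A)))
      (K ⊗[k] Localization.AtPrime p) _ (tAlg k K A p) := by
  letI := tAlg k K A p
  haveI : IsScalarTower K (K ⊗[k] A) (K ⊗[k] Localization.AtPrime p) :=
    IsScalarTower.of_algebraMap_eq' (tmap k K A p).comp_algebraMap.symm
  apply IsLocalization.tensorProduct_tensorProduct_right k K p.primeCompl (Localization.AtPrime p)
  ext a
  change tmap k K A p ((1 : K) ⊗ₜ[k] a) = _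
  rw [tmap, Algebra.TensorProduct.map_tmul]
  rfl

/-- reducedness passes from `K ⊗ A` to `K ⊗ A_p`. -/
theorem isReduced_tensor_localization (h : IsReduced (K ⊗[k] A)) :
    IsReduced (K ⊗[k] Localization.AtPrime p) := by
  letI := tAlg k K A p
  haveI := isLocalization_tensor k K A p
  exact isReduced_localizationPreserves (p.primeCompl.map
      (Algebra.TensorProduct.includeRight (R := k) (A := K) (B := A))) _ h

/-- reducedness of `K ⊗ A_p` gives reducedness of `K ⊗ A` at the primes above `p`. -/
theorem isReduced_localization_of_tensor (h : IsReduced (K ⊗[k] Localization.AtPrime p))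
    (P : Ideal (K ⊗[k] A)) [P.IsPrime]
    (hP : P.comap (Algebra.TensorProduct.includeRight (R := k) (A := K) (B := A)).toRingHom = p) :
    IsReduced (Localization.AtPrime P) := by
  letI := tAlg k K A p
  haveI := isLocalization_tensor k K A p
  have hle : p.primeCompl.map (Algebra.TensorProduct.includeRight (R := k) (A := K) (B := A)) ≤
      P.primeCompl := by
    rintro _ ⟨a, ha, rfl⟩
    intro hmem
    apply ha
    rw [← hP]
    exact hmem
  have hunit : ∀ y : p.primeCompl.map
      (Algebra.TensorProduct.includeRight (R := k) (A := K) (B := A)),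
      IsUnit (algebraMap (K ⊗[k] A) (Localization.AtPrime P) y) := fun y =>
    IsLocalization.map_units (Localization.AtPrime P) (⟨y.1, hle y.2⟩ : P.primeCompl)
  letI : Algebra (K ⊗[k] Localization.AtPrime p) (Localization.AtPrime P) :=
    (IsLocalization.lift (M := p.primeCompl.map
      (Algebra.TensorProduct.includeRight (R := k) (A := K) (B := A))) hunit).toAlgebra
  haveI : IsScalarTower (K ⊗[k] A) (K ⊗[k] Localization.AtPrime p) (Localization.AtPrime P) :=
    IsScalarTower.of_algebraMap_eq fun x => (IsLocalization.lift_eq hunit x).symm
  haveI := IsLocalization.isLocalization_of_submonoid_le (K ⊗[k] Localization.AtPrime p)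
    (Localization.AtPrime P) _ _ hle
  exact isReduced_localizationPreserves (P.primeCompl.map
    (algebraMap (K ⊗[k] A) (K ⊗[k] Localization.AtPrime p))) _ h

end Loc

section Forward

variable (k A : Type u) [Field k] [CommRing A] [Algebra k A] [Algebra.Smooth k A]

include k in
/-- a smooth algebra over a field is reduced. -/
theorem isReduced_of_smooth : IsReduced A := by
  apply isReduced_ofLocalizationMaximal
  intro J hJ
  haveI := Groth.Agent.Lib.Helper62.SmoothReg.isDomain_localization_of_smooth k A J
  infer_instance

/-- the local rings of a smooth algebra over a field are geometrically reduced. -/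
theorem isGeometricallyReduced_localization_of_smooth (p : Ideal A) [p.IsPrime] :
    Algebra.IsGeometricallyReduced k (Localization.AtPrime p) := by
  rw [Algebra.isGeometricallyReduced_field_iff]
  haveI : Algebra.Smooth (AlgebraicClosure k) (AlgebraicClosure k ⊗[k] A) := inferInstance
  exact isReduced_tensor_localization k (AlgebraicClosure k) A p
    (isReduced_of_smooth (AlgebraicClosure k) _)

end Forward

section Backward

open Groth.Agent.Lib.Helper62.DimLoc

variable (K B : Type u) [Field K] [PerfectField K] [CommRing B] [Algebra K B]
  [Algebra.FiniteType K B]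

/-- over a perfect field: projective differentials and reducedness at the generic points give
smoothness. -/
theorem smooth_of_projective_of_isReduced_minimal [Module.Projective B Ω[B⁄K]]
    (hred : ∀ (P : Ideal B) [P.IsPrime], P ∈ minimalPrimes B →
      IsReduced (Localization.AtPrime P)) : Algebra.Smooth K B := by
  haveI : Algebra.FinitePresentation K B := Algebra.FinitePresentation.of_finiteType.mp inferInstance
  haveI : IsNoetherianRing B := Algebra.FiniteType.isNoetherianRing K B
  refine ⟨?_, inferInstance⟩
  rw [← Algebra.smoothLocus_eq_univ_iff, Set.eq_univ_iff_forall]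
  intro Q
  change Algebra.IsSmoothAt K Q.asIdeal
  apply isSmoothAt_of_finrank_le K B Q.asIdeal
  obtain ⟨P, hPmin, hPQ, hdim⟩ := exists_minimalPrimes_eq_compDim Q.asIdeal
  haveI : P.IsPrime := hPmin.1.1
  haveI : IsReduced (Localization.AtPrime P) := hred P hPmin
  haveI : Ring.KrullDimLE 0 (Localization.AtPrime P) :=
    Ring.KrullDimLE.of_isLocalization P hPmin _
  have hfield : IsField (Localization.AtPrime P) := Ring.KrullDimLE.isField_of_isReduced
  haveI : Algebra.IsSmoothAt K P := by
    letI := hfield.toField
    haveI : Algebra.EssFiniteType K (Localization.AtPrime P) :=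
      Algebra.EssFiniteType.comp K B _
    exact Algebra.FormallySmooth.of_perfectField
  have h1 := localDim_eq_finrank_of_isSmoothAt K B P
  have h2 : FlatMor.localDim (PrimeSpectrum B) ⟨P, inferInstance⟩ =
      FlatMor.localDim (PrimeSpectrum B) Q := by
    rw [localDim_eq_compDim K B, localDim_eq_compDim K B, ← hdim]
    apply le_antisymm
    · rw [compDim_le_iff]
      intro Q' hQ' hQ'P
      have hle : P ≤ Q' := hPmin.2 ⟨hQ'.1.1, bot_le⟩ hQ'P
      have : Q' = P := le_antisymm hQ'P hle
      rw [this]
    · exact le_compDim hPmin le_rfl
  have h3 := Module.rankAtStalk_eq_of_le_of_finite_of_flat' Ω[B⁄K] hPQ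
  rw [Module.rankAtStalk_eq, Module.rankAtStalk_eq] at h3
  change Module.finrank P.ResidueField (P.ResidueField ⊗[B] Ω[B⁄K]) =
    Module.finrank Q.asIdeal.ResidueField (Q.asIdeal.ResidueField ⊗[B] Ω[B⁄K]) at h3
  rw [← h3, ← h1, h2]

end Backward

section Main

variable (k A : Type u) [Field k] [CommRing A] [Algebra k A] [Algebra.FiniteType k A]

attribute [local instance] Algebra.TensorProduct.rightAlgebra in
/-- projective differentials and geometric reducedness at the generic points give smoothness. -/
theorem smooth_of_projective_of_geomReduced [Module.Projective A Ω[A⁄k]]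
    (hred : ∀ (p : Ideal A) [p.IsPrime], p ∈ minimalPrimes A →
      Algebra.IsGeometricallyReduced k (Localization.AtPrime p)) : Algebra.Smooth k A := by
  haveI : Algebra.FiniteType (AlgebraicClosure k) (AlgebraicClosure k ⊗[k] A) := inferInstance
  haveI : Module.Projective (AlgebraicClosure k ⊗[k] A)
      Ω[AlgebraicClosure k ⊗[k] A⁄AlgebraicClosure k] :=
    Module.Projective.of_equiv
      (KaehlerDifferential.tensorKaehlerEquiv k (AlgebraicClosure k) A (AlgebraicClosure k ⊗[k] A))
  haveI : Algebra.IsPushout k A (AlgebraicClosure k) (AlgebraicClosure k ⊗[k] A) :=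
    Algebra.IsPushout.symm inferInstance
  haveI : Module.Flat A (AlgebraicClosure k ⊗[k] A) :=
    Module.Flat.of_linearEquiv
      (Algebra.IsPushout.equiv k A (AlgebraicClosure k) (AlgebraicClosure k ⊗[k] A)).symm.toLinearEquiv
  haveI : Algebra.Smooth (AlgebraicClosure k) (AlgebraicClosure k ⊗[k] A) := by
    apply smooth_of_projective_of_isReduced_minimal
    intro P hP hPmin
    haveI : (P.comap (Algebra.TensorProduct.includeRight (R := k) (A := AlgebraicClosure k)
        (B := A)).toRingHom).IsPrime := Ideal.comap_isPrime _ _
    have hpmin : P.comap (Algebra.TensorProduct.includeRight (R := k) (A := AlgebraicClosure k)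
        (B := A)).toRingHom ∈ minimalPrimes A := by
      refine ⟨⟨inferInstance, bot_le⟩, ?_⟩
      rintro p' ⟨hp', -⟩ hp'le
      haveI := hp'
      haveI : P.LiesOver (P.comap (Algebra.TensorProduct.includeRight (R := k)
          (A := AlgebraicClosure k) (B := A)).toRingHom) := ⟨rfl⟩
      obtain ⟨P', hP'le, hP'prime, hP'over⟩ :=
        Ideal.exists_ideal_le_liesOver_of_le (p := p') P hp'le
      have hPP' : P ≤ P' := hPmin.2 ⟨hP'prime, bot_le⟩ hP'le
      have : P' = P := le_antisymm hP'le hPP'
      rw [this] at hP'over
      rw [hP'over.over]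
      exact le_rfl
    have h := hred _ hpmin
    rw [Algebra.isGeometricallyReduced_field_iff] at h
    exact isReduced_localization_of_tensor k (AlgebraicClosure k) A _ h P rfl
  exact Algebra.Smooth.of_smooth_tensorProduct_of_faithfullyFlat (AlgebraicClosure k)

end Main

end Groth.Agent.Lib.Helper62.GenRed

end
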