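import Mathlib
import Groth.Agent.Lib.Helper62.BCStalk
import Groth.Agent.Lib.Helper62.SmoothReg7
import Groth.Agent.Lib.Helper62.GenRed

/-! Local rings of smooth schemes over a field (helper62). -/

set_option autoImplicit false
set_option linter.style.haveILetI false

universe u

open CategoryTheory CategoryTheory.Limits AlgebraicGeometry TensorProduct

noncomputable section

namespace Groth.Agent.Lib.Helper62.SmoothStalk

variable {K : Type u} [Field K] {Y : Scheme.{u}} (g : Y ⟶ Spec (CommRingCat.of K))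

/-- sections of a smooth `K`-scheme over an affine open form a smooth `K`-algebra. -/
theorem smooth_sections [Smooth g] {V : Y.Opens} (hV : IsAffineOpen V) :
    letI := (BCStalk.toSection g V).toAlgebra
    Algebra.Smooth K Γ(Y, V) := by
  have h1 : RingHom.Smooth (g.appLE ⊤ V le_top).hom :=
    HasRingHomProperty.appLE @Smooth g inferInstance ⟨⊤, isAffineOpen_top _⟩ ⟨V, hV⟩ le_top
  let e : Γ(Spec (CommRingCat.of K), ⊤) ≃+* K :=
    (Scheme.ΓSpecIso (CommRingCat.of K)).commRingCatIsoToRingEquiv
  have h2 : RingHom.Smooth ((g.appLE ⊤ V le_top).hom.comp e.symm.toRingHom) :=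
    RingHom.Smooth.respectsIso.2 _ e.symm h1
  exact h2

/-- local rings of a smooth scheme over a field are regular. -/
theorem isRegularLocalRing_stalk [Smooth g] (y : Y) : IsRegularLocalRing (Y.presheaf.stalk y) := by
  obtain ⟨_, ⟨V, hV, rfl⟩, hyV, -⟩ :=
    Y.isBasis_affineOpens.exists_subset_of_mem_open (Set.mem_univ y) isOpen_univ
  letI : Algebra K Γ(Y, V) := (BCStalk.toSection g V).toAlgebra
  haveI : Algebra.Smooth K Γ(Y, V) := smooth_sections g hV
  letI : Algebra Γ(Y, V) (Y.presheaf.stalk y) := Y.presheaf.algebra_section_stalk ⟨y, hyV⟩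
  haveI := hV.isLocalization_stalk ⟨y, hyV⟩
  set q := (hV.primeIdealOf ⟨y, hyV⟩).asIdeal
  haveI : Algebra.FormallyEtale Γ(Y, V) (Localization.AtPrime q) :=
    .of_isLocalization q.primeCompl
  have hsm : Algebra.IsSmoothAt K q :=
    Algebra.FormallySmooth.comp K Γ(Y, V) (Localization.AtPrime q)
  haveI := Groth.Agent.Lib.Helper62.SmoothReg.isRegularLocalRing_of_isSmoothAt K Γ(Y, V) q hsm
  let e : Localization.AtPrime q ≃ₐ[Γ(Y, V)] Y.presheaf.stalk y :=
    IsLocalization.algEquiv q.primeCompl _ _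
  exact IsRegularLocalRing.of_ringEquiv e.toRingEquiv

/-- local rings of a smooth scheme over a field are geometrically reduced. -/
theorem isGeometricallyReduced_stalk [Smooth g] (y : Y) [Algebra K (Y.presheaf.stalk y)]
    (halg : algebraMap K (Y.presheaf.stalk y) = BCStalk.stalkStr g y) :
    Algebra.IsGeometricallyReduced K (Y.presheaf.stalk y) := by
  obtain ⟨_, ⟨V, hV, rfl⟩, hyV, -⟩ :=
    Y.isBasis_affineOpens.exists_subset_of_mem_open (Set.mem_univ y) isOpen_univ
  letI : Algebra K Γ(Y, V) := (BCStalk.toSection g V).toAlgebra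
  haveI : Algebra.Smooth K Γ(Y, V) := smooth_sections g hV
  letI : Algebra Γ(Y, V) (Y.presheaf.stalk y) := Y.presheaf.algebra_section_stalk ⟨y, hyV⟩
  haveI : IsScalarTower K Γ(Y, V) (Y.presheaf.stalk y) := BCStalk.chart_aux g y hyV halg
  haveI := hV.isLocalization_stalk ⟨y, hyV⟩
  set q := (hV.primeIdealOf ⟨y, hyV⟩).asIdeal
  haveI := Groth.Agent.Lib.Helper62.GenRed.isGeometricallyReduced_localization_of_smooth
    K Γ(Y, V) q
  let e : Localization.AtPrime q ≃ₐ[Γ(Y, V)] Y.presheaf.stalk y :=
    IsLocalization.algEquiv q.primeCompl _ _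
  exact Algebra.IsGeometricallyReduced.of_injective (e.symm.toAlgHom.restrictScalars K)
    e.symm.injective

end Groth.Agent.Lib.Helper62.SmoothStalk

end
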