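import Groth.Agent.Lib.Helper62.DimLoc3

/-! Local dimension and open embeddings; localization away from an element (helper62). -/

set_option linter.style.haveILetI false

universe u

open Function Topology

noncomputable section

namespace Groth.Agent.Lib.Helper62.DimLoc

/-- the local dimension is invariant under open embeddings. -/
theorem localDim_eq_of_isOpenEmbedding {Y X : Type*} [TopologicalSpace Y] [TopologicalSpace X]
    (j : Y → X) (hj : IsOpenEmbedding j) (y : Y) :
    FlatMor.localDim Y y = FlatMor.localDim X (j y) := by
  have himg : ∀ V : Set Y, topologicalKrullDim V = topologicalKrullDim (j '' V) := fun V =>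
    IsHomeomorph.topologicalKrullDim_eq _ (hj.isEmbedding.homeomorphImage V).isHomeomorph
  unfold FlatMor.localDim
  apply le_antisymm
  · refine le_iInf fun U => ?_
    let V : TopologicalSpace.Opens Y := ⟨j ⁻¹' (U.1 : Set X), U.1.2.preimage hj.continuous⟩
    refine le_trans (iInf_le _ ⟨V, U.2⟩) ?_
    change topologicalKrullDim (j ⁻¹' (U.1 : Set X)) ≤ _
    rw [himg]
    exact Groth.Agent.Lib.Helper29.dim_mono_of_subset (Set.image_preimage_subset _ _)
  · refine le_iInf fun V => ?_
    let U : TopologicalSpace.Opens X := ⟨j '' (V.1 : Set Y), hj.isOpenMap _ V.1.2⟩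
    refine le_trans (iInf_le _ ⟨U, ⟨y, V.2, rfl⟩⟩) ?_
    change topologicalKrullDim (j '' (V.1 : Set Y)) ≤ _
    rw [← himg]

/-- the local dimension of `Spec A_f` at a prime not containing `f`. -/
theorem localDim_away (A : Type u) [CommRing A] (f : A) (q : PrimeSpectrum (Localization.Away f)) :
    FlatMor.localDim (PrimeSpectrum (Localization.Away f)) q =
      FlatMor.localDim (PrimeSpectrum A)
        (PrimeSpectrum.comap (algebraMap A (Localization.Away f)) q) :=
  localDim_eq_of_isOpenEmbedding _
    (PrimeSpectrum.localization_away_isOpenEmbedding (Localization.Away f) f) q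

end Groth.Agent.Lib.Helper62.DimLoc

end
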