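import Groth.Agent.Lib.Helper62.SmoothReg5
import Mathlib.RingTheory.EssentialFiniteness

/-! Local essentially-of-finite-type algebras over a field are quotients of localizations of
polynomial rings (regular local rings); regular => formally smooth over a perfect field
(helper62). -/

set_option linter.style.haveILetI false

universe u

open TensorProduct Function IsLocalRing

noncomputable section

namespace Groth.Agent.Lib.Helper62.SmoothReg

/-- a local ring essentially of finite type over a field `k` is a quotient (as a `k`-algebra) of the
localization of a polynomial ring at a prime. -/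
theorem exists_surjective_algHom_localization (k A : Type u) [Field k] [CommRing A] [IsLocalRing A]
    [Algebra k A] [Algebra.EssFiniteType k A] :
    ∃ (n : ℕ) (Q : Ideal (MvPolynomial (Fin n) k)) (_ : Q.IsPrime)
      (π : Localization.AtPrime Q →ₐ[k] A), Function.Surjective π := by
  let S := Algebra.EssFiniteType.subalgebra k A
  let q : Ideal S := (maximalIdeal A).comap (algebraMap S A)
  haveI : q.IsPrime := Ideal.comap_isPrime _ _
  have hM : Algebra.EssFiniteType.submonoid k A = q.primeCompl := by
    ext x
    change IsUnit (algebraMap _ A x) ↔ ¬ (algebraMap _ A x ∈ maximalIdeal A)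
    rw [IsLocalRing.mem_maximalIdeal, mem_nonunits_iff, not_not]
  haveI : IsLocalization q.primeCompl A := hM ▸ Algebra.EssFiniteType.isLocalization k A
  let e : Localization.AtPrime q ≃ₐ[S] A := IsLocalization.algEquiv q.primeCompl _ _
  obtain ⟨n, f₀, hf₀⟩ := Algebra.FiniteType.iff_quotient_mvPolynomial''.mp
    (inferInstance : Algebra.FiniteType k S)
  let Q : Ideal (MvPolynomial (Fin n) k) := q.comap f₀.toRingHom
  let fP : Localization.AtPrime Q →+* Localization.AtPrime q :=
    Localization.localRingHom Q q f₀.toRingHom rfl
  have hfP : Function.Surjective fP :=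
    RingHom.surjective_localRingHom_of_surjective f₀.toRingHom hf₀ q
  have hcomm : ∀ c : k, fP (algebraMap k _ c) = algebraMap k _ c := by
    intro c
    rw [IsScalarTower.algebraMap_apply k (MvPolynomial (Fin n) k) (Localization.AtPrime Q)]
    change Localization.localRingHom Q q f₀.toRingHom rfl _ = _
    rw [Localization.localRingHom_to_map]
    change algebraMap S _ (f₀ _) = _
    rw [f₀.commutes, ← IsScalarTower.algebraMap_apply]
  let fA : Localization.AtPrime Q →ₐ[k] Localization.AtPrime q := { fP with commutes' := hcomm }
  exact ⟨n, Q, inferInstance, (e.restrictScalars k).toAlgHom.comp fA,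
    (e.restrictScalars k).surjective.comp hfP⟩

/-- a regular local ring essentially of finite type over a perfect field is formally smooth. -/
theorem formallySmooth_of_isRegularLocalRing (k B : Type u) [Field k] [PerfectField k] [CommRing B]
    [Algebra k B] [Algebra.EssFiniteType k B] [IsRegularLocalRing B] :
    Algebra.FormallySmooth k B := by
  let q : Ideal (Algebra.EssFiniteType.subalgebra k B) :=
    (maximalIdeal B).comap (algebraMap (Algebra.EssFiniteType.subalgebra k B) B)
  haveI : q.IsPrime := Ideal.comap_isPrime _ _
  have hM : Algebra.EssFiniteType.submonoid k B = q.primeCompl := by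
    ext x
    change IsUnit (algebraMap _ B x) ↔ ¬ (algebraMap _ B x ∈ maximalIdeal B)
    rw [IsLocalRing.mem_maximalIdeal, mem_nonunits_iff, not_not]
  haveI : IsLocalization q.primeCompl B := hM ▸ Algebra.EssFiniteType.isLocalization k B
  let e : Localization.AtPrime q ≃ₐ[Algebra.EssFiniteType.subalgebra k B] B :=
    IsLocalization.algEquiv q.primeCompl _ _
  haveI : IsRegularLocalRing (Localization.AtPrime q) :=
    IsRegularLocalRing.of_ringEquiv e.symm.toRingEquiv
  have hsm : Algebra.FormallySmooth k (Localization.AtPrime q) :=
    (isSmoothAt_iff_isRegularLocalRing_of_perfectField k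
      (Algebra.EssFiniteType.subalgebra k B) q).mpr inferInstance
  exact Algebra.FormallySmooth.of_equiv (e.restrictScalars k)

end Groth.Agent.Lib.Helper62.SmoothReg

end
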