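import Groth.Agent.Lib.Helper62.SmoothReg2

/-! Quotients of regular local rings: `J ∩ 𝔪² ⊆ 𝔪J` implies `T/J` regular (helper62). -/

universe u

open TensorProduct Function IsLocalRing

noncomputable section

namespace Groth.Agent.Lib.Helper62.SmoothReg

section R1

variable (T : Type u) [CommRing T] [IsRegularLocalRing T]

/-- `J/𝔪J`. -/
abbrev QJ (J : Ideal T) : Type u := J ⧸ (maximalIdeal T • (⊤ : Submodule T J))

instance instModuleQJ (J : Ideal T) : Module (ResidueField T) (QJ T J) :=
  inferInstanceAs (Module (T ⧸ maximalIdeal T) _)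

instance instTowerQJ (J : Ideal T) : IsScalarTower T (ResidueField T) (QJ T J) :=
  inferInstanceAs (IsScalarTower T (T ⧸ maximalIdeal T) _)

/-- if `T` is a regular local ring and `J ∩ 𝔪² ⊆ 𝔪J` then `T/J` is a regular local ring. -/
theorem isRegularLocalRing_quotient_of_mem_mul (J : Ideal T) (hJ : J ≤ maximalIdeal T)
    (H : ∀ j ∈ J, j ∈ maximalIdeal T * maximalIdeal T → j ∈ maximalIdeal T * J) :
    IsRegularLocalRing (T ⧸ J) := by
  classical
  let φ : J →ₗ[T] CotangentSpace T := (maximalIdeal T).toCotangent ∘ₗ Submodule.inclusion hJ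
  have hφ0 : maximalIdeal T • (⊤ : Submodule T J) ≤ LinearMap.ker φ := by
    rw [Submodule.smul_le]
    intro r hr j _
    rw [LinearMap.mem_ker, map_smul]
    obtain ⟨x, hx⟩ := Ideal.toCotangent_surjective _ (φ j)
    rw [← hx, ← map_smul, Ideal.toCotangent_eq_zero, pow_two]
    exact Ideal.mul_mem_mul hr x.2
  have hφ1 : LinearMap.ker φ ≤ maximalIdeal T • (⊤ : Submodule T J) := by
    intro x hx
    rw [LinearMap.mem_ker] at hx
    have h1 : (maximalIdeal T).toCotangent (Submodule.inclusion hJ x) = 0 := hx
    rw [Ideal.toCotangent_eq_zero, pow_two] at h1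
    rw [Submodule.mem_smul_top_iff]
    exact H x.1 x.2 h1
  let φ' : QJ T J →ₗ[T] CotangentSpace T := Submodule.liftQ _ φ hφ0
  have hinj : Injective φ' := by
    rw [← LinearMap.ker_eq_bot]
    exact Submodule.ker_liftQ_eq_bot _ _ _ hφ1
  let φκ : QJ T J →ₗ[ResidueField T] CotangentSpace T :=
    φ'.extendScalarsOfSurjective residue_surjective
  have hinjκ : Injective φκ := hinj
  let W : Submodule (ResidueField T) (CotangentSpace T) := LinearMap.range φκ
  obtain ⟨C, hC⟩ := Submodule.exists_isCompl W
  have hdimW : Module.finrank (ResidueField T) W = J.spanFinrank := by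
    rw [LinearMap.finrank_range_of_inj hinjκ]
    exact (spanFinrank_eq_finrank_quotient J (IsNoetherian.noetherian J)).symm
  have hdim : Module.finrank (ResidueField T) W + Module.finrank (ResidueField T) C =
      (maximalIdeal T).spanFinrank := by
    rw [Submodule.finrank_add_eq_of_isCompl hC,
      spanFinrank_maximalIdeal_eq_finrank_cotangentSpace]
  -- lift a basis of `C`
  let b := Module.finBasis (ResidueField T) C
  have hg : ∀ i, ∃ g : maximalIdeal T, (maximalIdeal T).toCotangent g = (b i : CotangentSpace T) :=
    fun i => Ideal.toCotangent_surjective _ _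
  choose g hg using hg
  let I₂ : Ideal T := Ideal.span (Set.range fun i => (g i : T))
  have hI₂ : I₂.spanFinrank ≤ Module.finrank (ResidueField T) C := by
    refine (Submodule.spanFinrank_span_le_ncard_of_finite (Set.finite_range _)).trans ?_
    refine (Set.ncard_le_ncard (t := Set.range fun i => (g i : T)) le_rfl
      (Set.finite_range _)).trans ?_
    have h1 := Finset.card_image_le (s := (Finset.univ : Finset (Fin (Module.finrank
      (ResidueField T) C)))) (f := fun i => (g i : T))
    rw [Finset.card_univ, Fintype.card_fin] at h1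
    have h2 : (Set.range fun i => (g i : T)) =
        ((Finset.univ : Finset (Fin (Module.finrank (ResidueField T) C))).image
          (fun i => (g i : T)) : Set T) := by
      ext y; simp
    rw [h2, Set.ncard_coe_finset]
    exact h1
  have hsup : J ⊔ I₂ = maximalIdeal T := by
    apply le_antisymm
    · refine sup_le hJ ?_
      rw [Ideal.span_le]
      rintro _ ⟨i, rfl⟩
      exact (g i).2
    · let s : Set (maximalIdeal T) := {x | (x : T) ∈ J} ∪ Set.range g
      have hs : Submodule.span (ResidueField T) ((maximalIdeal T).toCotangent '' s) = ⊤ := by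
        rw [eq_top_iff, ← hC.sup_eq_top]
        refine sup_le ?_ ?_
        · rintro _ ⟨y, rfl⟩
          obtain ⟨j, rfl⟩ := Submodule.Quotient.mk_surjective _ y
          apply Submodule.subset_span
          exact ⟨Submodule.inclusion hJ j, Or.inl j.2, rfl⟩
        · intro c hc
          have h1 : (⟨c, hc⟩ : C) ∈ Submodule.span (ResidueField T) (Set.range b) := by
            rw [b.span_eq]; trivial
          have h2 := Submodule.mem_map_of_mem (f := C.subtype) h1
          rw [Submodule.map_span, ← Set.range_comp] at h2
          refine Submodule.span_mono ?_ h2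
          rintro _ ⟨i, rfl⟩
          exact ⟨g i, Or.inr ⟨i, rfl⟩, hg i⟩
      rw [CotangentSpace.span_image_eq_top_iff] at hs
      intro x hx
      have h1 : (⟨x, hx⟩ : maximalIdeal T) ∈ Submodule.span T s := by rw [hs]; trivial
      have h2 := Submodule.mem_map_of_mem (f := (maximalIdeal T).subtype) h1
      rw [Submodule.map_span] at h2
      refine (Submodule.span_le (p := J ⊔ I₂)).mpr ?_ h2
      rintro _ ⟨y, hy | ⟨i, rfl⟩, rfl⟩
      · exact Ideal.mem_sup_left hy
      · exact Ideal.mem_sup_right (Ideal.subset_span ⟨i, rfl⟩)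
  refine Groth.Agent.Lib.Helper98.FixedReg.isRegularLocalRing_quotient_of_sup J I₂ hsup ?_
  omega

end R1

end Groth.Agent.Lib.Helper62.SmoothReg

end
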