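import Mathlib.RingTheory.Flat.Basic
import Mathlib.RingTheory.Flat.Tensor
import Mathlib.RingTheory.Filtration
import Mathlib.LinearAlgebra.TensorProduct.RightExactness
import Mathlib.LinearAlgebra.TensorProduct.Tower
import Mathlib.RingTheory.Ideal.Quotient.Operations

/-!
Helpers for flatness criteria of the "adic" type (EGA 0_III 10.2).
-/

set_option autoImplicit false

namespace Groth.Agent.Lib.Helper62

open TensorProduct

/-- mixed finiteness of a tensor product: `M` finite over `B`, `N` finite over `A`, then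
`M ⊗[A] N` is finite over `B`. -/
theorem finite_tensor_mixed {A B M N : Type*} [CommRing A] [CommRing B] [Algebra A B]
    [AddCommGroup M] [Module A M] [Module B M] [IsScalarTower A B M] [AddCommGroup N] [Module A N]
    [Module.Finite B M] [Module.Finite A N] : Module.Finite B (M ⊗[A] N) := by
  classical
  obtain ⟨s, hs⟩ := (inferInstance : Module.Finite B M).fg_top
  obtain ⟨t, ht⟩ := (inferInstance : Module.Finite A N).fg_top
  refine ⟨⟨Finset.image₂ (fun m n => m ⊗ₜ[A] n) s t, eq_top_iff.mpr ?_⟩⟩
  rintro x -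
  induction x with
  | zero => exact zero_mem _
  | add x y hx hy => exact add_mem hx hy
  | tmul m n =>
    have hm : m ∈ Submodule.span B (s : Set M) := hs ▸ Submodule.mem_top
    have hn : n ∈ Submodule.span A (t : Set N) := ht ▸ Submodule.mem_top
    induction hm using Submodule.span_induction with
    | mem m hm =>
      induction hn using Submodule.span_induction with
      | mem n hn =>
        apply Submodule.subset_span
        rw [Finset.coe_image₂]
        exact Set.mem_image2_of_mem hm hn
      | zero => rw [tmul_zero]; exact zero_mem _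
      | add n₁ n₂ _ _ h₁ h₂ => rw [tmul_add]; exact add_mem h₁ h₂
      | smul a n _ ih =>
        rw [tmul_smul]
        exact Submodule.smul_of_tower_mem _ a ih
    | zero => rw [zero_tmul]; exact zero_mem _
    | add m₁ m₂ _ _ h₁ h₂ => rw [add_tmul]; exact add_mem h₁ h₂
    | smul b m _ ih =>
      rw [← smul_tmul']
      exact Submodule.smul_mem _ b ih

/-- If `M ⧸ J M` is `A`-flat (`J` an ideal of the `A`-algebra `B`), then the kernel of
`M ⊗[A] 𝔞 → M ⊗[A] A` is contained in `J • (M ⊗[A] 𝔞)`. -/
theorem ker_lTensor_le_smul_top {A B M : Type*} [CommRing A] [CommRing B] [Algebra A B]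
    [AddCommGroup M] [Module A M] [Module B M] [IsScalarTower A B M] (J : Ideal B)
    (hflat : Module.Flat A (M ⧸ (J • (⊤ : Submodule B M)))) (𝔞 : Ideal A)
    (x : M ⊗[A] 𝔞) (hx : LinearMap.lTensor M 𝔞.subtype x = 0) :
    x ∈ (J • ⊤ : Submodule B (M ⊗[A] 𝔞)) := by
  set N : Submodule B M := J • (⊤ : Submodule B M) with hN
  let π : M →ₗ[A] (M ⧸ N) := N.mkQ.restrictScalars A
  let j : N →ₗ[A] M := N.subtype.restrictScalars A
  have hexact : Function.Exact j π := LinearMap.exact_subtype_mkQ N
  have hsurj : Function.Surjective π := N.mkQ_surjective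
  have hex2 := rTensor_exact 𝔞 hexact hsurj
  -- the image of x in (M ⧸ N) ⊗ 𝔞 vanishes
  have hzero : LinearMap.rTensor 𝔞 π x = 0 := by
    have hinj : Function.Injective (LinearMap.lTensor (M ⧸ N) 𝔞.subtype) :=
      Module.Flat.lTensor_preserves_injective_linearMap _ 𝔞.subtype_injective
    apply hinj
    rw [map_zero, ← LinearMap.comp_apply, LinearMap.lTensor_comp_rTensor,
      ← LinearMap.rTensor_comp_lTensor, LinearMap.comp_apply, hx, map_zero]
  have hrange : ∀ y : N ⊗[A] 𝔞, LinearMap.rTensor 𝔞 j y ∈
      (J • ⊤ : Submodule B (M ⊗[A] 𝔞)) := by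
    intro y
    induction y with
    | zero => rw [map_zero]; exact zero_mem _
    | add y₁ y₂ h₁ h₂ =>
      rw [map_add]
      exact add_mem h₁ h₂
    | tmul m a =>
      rw [LinearMap.rTensor_tmul]
      obtain ⟨m, hm⟩ := m
      change (m ⊗ₜ[A] a) ∈ _
      rw [hN] at hm
      refine Submodule.smul_induction_on (p := fun m => (m ⊗ₜ[A] a) ∈
        (J • ⊤ : Submodule B (M ⊗[A] 𝔞))) hm ?_ ?_
      · intro b hb m' _
        change ((b • m') ⊗ₜ[A] a) ∈ _
        rw [← TensorProduct.smul_tmul']
        exact Submodule.smul_mem_smul hb Submodule.mem_top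
      · intro m₁ m₂ h₁ h₂
        rw [TensorProduct.add_tmul]
        exact add_mem h₁ h₂
  obtain ⟨y, rfl⟩ := (hex2 x).mp hzero
  exact hrange y

end Groth.Agent.Lib.Helper62
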