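import Groth.Agent.Lib.Helper62.SmoothReg4
import Mathlib.RingTheory.RingHom.Surjective
import Mathlib.RingTheory.RegularLocalRing.Polynomial
import Mathlib.RingTheory.Smooth.Fiber
import Mathlib.RingTheory.Smooth.Field
import Mathlib.RingTheory.Smooth.Locus

/-! Smooth iff regular at a point of a finite type algebra over a field whose residue field is
formally smooth over the base (helper62). -/

universe u

open TensorProduct Function IsLocalRing KaehlerDifferential

noncomputable section

namespace Groth.Agent.Lib.Helper62.SmoothReg

/-- For a finite type algebra `S` over a field `k` and a prime `q` whose residue field is formally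
smooth over `k`: `S` is smooth at `q` iff `S_q` is regular. -/
theorem isSmoothAt_iff_isRegularLocalRing (k : Type u) [Field k]
    (S : Type u) [CommRing S] [Algebra k S] [Algebra.FiniteType k S] (q : Ideal S) [q.IsPrime]
    [Algebra.FormallySmooth k q.ResidueField] :
    Algebra.IsSmoothAt k q ↔ IsRegularLocalRing (Localization.AtPrime q) := by
  obtain ⟨n, f₀, hf₀⟩ := Algebra.FiniteType.iff_quotient_mvPolynomial''.mp
    (inferInstance : Algebra.FiniteType k S)
  let Q : Ideal (MvPolynomial (Fin n) k) := q.comap f₀.toRingHom
  let T := Localization.AtPrime Q
  let fP : T →+* Localization.AtPrime q := Localization.localRingHom Q q f₀.toRingHom rfl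
  have hfP : Function.Surjective fP :=
    RingHom.surjective_localRingHom_of_surjective f₀.toRingHom hf₀ q
  algebraize [fP]
  have : IsScalarTower k T (Localization.AtPrime q) := by
    refine IsScalarTower.of_algebraMap_eq fun x => ?_
    rw [IsScalarTower.algebraMap_apply k (MvPolynomial (Fin n) k) T, RingHom.algebraMap_toAlgebra]
    change _ = Localization.localRingHom Q q f₀.toRingHom rfl _
    rw [Localization.localRingHom_to_map]
    change _ = algebraMap S _ (f₀ _)
    rw [f₀.commutes, ← IsScalarTower.algebraMap_apply]
  have : Algebra.FormallyEtale (MvPolynomial (Fin n) k) T := .of_isLocalization Q.primeCompl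
  have : Algebra.FormallySmooth k T := .comp _ (MvPolynomial (Fin n) k) _
  have : Module.Free T Ω[T⁄k] :=
    .of_equiv (KaehlerDifferential.tensorKaehlerEquivOfFormallyEtale k (MvPolynomial (Fin n) k) T)
  have : Algebra.FormallySmooth k (IsLocalRing.ResidueField (Localization.AtPrime q)) :=
    inferInstanceAs (Algebra.FormallySmooth k q.ResidueField)
  exact formallySmooth_iff_isRegularLocalRing T (Localization.AtPrime q) hfP

/-- over a perfect field, smooth at `q` iff regular at `q`. -/
theorem isSmoothAt_iff_isRegularLocalRing_of_perfectField (k : Type u) [Field k] [PerfectField k]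
    (S : Type u) [CommRing S] [Algebra k S] [Algebra.FiniteType k S] (q : Ideal S) [q.IsPrime] :
    Algebra.IsSmoothAt k q ↔ IsRegularLocalRing (Localization.AtPrime q) := by
  have : Algebra.EssFiniteType k q.ResidueField := Algebra.EssFiniteType.comp k S q.ResidueField
  exact isSmoothAt_iff_isRegularLocalRing k S q

end Groth.Agent.Lib.Helper62.SmoothReg

end
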