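import Mathlib
import Groth.Agent.S0350
import Groth.Agent.Lib.Helper21.MaximalPoints
import Groth.Agent.Lib.Helper23.GrpSeparated
import Groth.Agent.S1865

/-!
# Identity component of a group scheme over an algebraically closed field (helper62)

Core, in "unbundled" form: a scheme `X` over an algebraically closed field `k` with a multiplication
`m`, shear isomorphisms `σ`, `τ`, a unit `e`, such that every point lies on a unique irreducible
component.  We show: the irreducible component `Z` through the unit is quasi-compact and is the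
intersection of the clopen sets containing it; hence it is the connected component of the unit.
-/

set_option autoImplicit false
universe u

namespace Groth.Agent.Lib.Helper62.GrpComp
open CategoryTheory AlgebraicGeometry Limits TopologicalSpace
open Groth.Agent.S0350

section nilp

/-- at a maximal point, a function vanishing there is nilpotent on a neighbourhood. -/
theorem exists_open_disjoint_basicOpen {X : Scheme.{u}} {γ : X} (hγ : ∀ z, z ⤳ γ → γ ⤳ z)
    (U : X.Opens) (hγU : γ ∈ U) (g : Γ(X, U)) (hg : γ ∉ X.basicOpen g) :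
    ∃ W : X.Opens, γ ∈ W ∧ W ≤ U ∧ (W : Set X) ∩ (X.basicOpen g : Set X) = ∅ := by
  have hemb : Topology.IsEmbedding (X.fromSpecStalk γ) := (X.fromSpecStalk γ).isEmbedding
  have hrange : Set.range (X.fromSpecStalk γ) = {y | y ⤳ γ} := Scheme.range_fromSpecStalk
  -- every prime of the stalk is the maximal ideal
  have hprime : ∀ J : Ideal (X.presheaf.stalk γ), J.IsPrime →
      J = IsLocalRing.maximalIdeal (X.presheaf.stalk γ) := by
    intro J hJ
    have h1 : X.fromSpecStalk γ ⟨J, hJ⟩ ⤳ γ := by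
      have : X.fromSpecStalk γ ⟨J, hJ⟩ ∈ Set.range (X.fromSpecStalk γ) := ⟨_, rfl⟩
      rw [hrange] at this; exact this
    have h2 : X.fromSpecStalk γ ⟨J, hJ⟩ = γ := (h1.antisymm (hγ _ h1)).eq
    have h3 : X.fromSpecStalk γ ⟨J, hJ⟩ =
        X.fromSpecStalk γ (IsLocalRing.closedPoint (X.presheaf.stalk γ)) := by
      rw [h2, Scheme.fromSpecStalk_closedPoint]
    exact congrArg PrimeSpectrum.asIdeal (hemb.injective h3)
  have hnil : IsNilpotent (X.presheaf.germ U γ hγU g) := by
    have hmem : X.presheaf.germ U γ hγU g ∈ IsLocalRing.maximalIdeal (X.presheaf.stalk γ) := by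
      rw [IsLocalRing.mem_maximalIdeal, mem_nonunits_iff]
      rwa [Scheme.mem_basicOpen _ _ _ hγU] at hg
    rw [← mem_nilradical, nilradical_eq_sInf, Ideal.mem_sInf]
    intro J hJ
    rw [hprime J hJ]; exact hmem
  obtain ⟨n, hn⟩ := hnil
  have hn' : X.presheaf.germ U γ hγU (g ^ (n + 1)) = X.presheaf.germ U γ hγU 0 := by
    rw [map_pow, pow_succ, hn, zero_mul, map_zero]
  obtain ⟨W, hγW, iU, iV, hW⟩ := TopCat.Presheaf.germ_eq X.presheaf γ hγU hγU _ _ hn'
  refine ⟨W, hγW, iU.le, ?_⟩
  rw [Set.eq_empty_iff_forall_notMem]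
  rintro x ⟨hxW, hxg⟩
  have h1 : X.basicOpen (X.presheaf.map iU.op (g ^ (n + 1))) = W ⊓ X.basicOpen (g ^ (n + 1)) :=
    Scheme.basicOpen_res _ _ _
  rw [hW, map_zero, Scheme.basicOpen_zero, Scheme.basicOpen_pow _ _ (Nat.succ_pos n)] at h1
  have : x ∈ W ⊓ X.basicOpen g := ⟨hxW, hxg⟩
  rw [← h1] at this
  exact this

end nilp

section core
variable {k : Type u} [Field k] [IsAlgClosed k] {X : Scheme.{u}} (f : X ⟶ Spec (CommRingCat.of k))
  (m : pullback f f ⟶ X) (σ τ : pullback f f ≅ pullback f f)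
  (hσ₁ : σ.hom ≫ pullback.fst f f = pullback.fst f f) (hσ₂ : σ.hom ≫ pullback.snd f f = m)
  (hτ₁ : τ.hom ≫ pullback.fst f f = m) (hτ₂ : τ.hom ≫ pullback.snd f f = pullback.snd f f)
  (e : Spec (CommRingCat.of k) ⟶ X) (he : e ≫ f = 𝟙 _)
  (hunitR : pullback.lift (𝟙 X) (f ≫ e) (by simp [he]) ≫ m = 𝟙 X)
  (hunitL : pullback.lift (f ≫ e) (𝟙 X) (by simp [he]) ≫ m = 𝟙 X)
  (hU : ∀ x : X, UniqueComp x)

/-- the "box" `A × B` inside `X ×ₖ X` -/
def box (A B : Set X) : Set ↑(pullback f f) :=
  pullback.fst f f ⁻¹' A ∩ pullback.snd f f ⁻¹' B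

omit [IsAlgClosed k] in
lemma mem_box {A B : Set X} {w : ↑(pullback f f)} :
    w ∈ box f A B ↔ pullback.fst f f w ∈ A ∧ pullback.snd f f w ∈ B := Iff.rfl

omit [IsAlgClosed k] in
/-- any two points of `X` are the projections of a point of `X ×ₖ X`. -/
lemma exists_pair (a b : X) : ∃ w : ↑(pullback f f), pullback.fst f f w = a ∧
    pullback.snd f f w = b :=
  Scheme.Pullback.exists_preimage_pullback a b (Subsingleton.elim _ _)

/-- (A) boxes of irreducible sets are irreducible (over an algebraically closed field). -/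
theorem isIrreducible_box {C : Set X} (hC : IsClosed C) (hCi : IsIrreducible C) {Y : Scheme.{u}}
    (j : Y ⟶ X) [IrreducibleSpace Y] : IsIrreducible (box f C (Set.range j)) := by
  obtain ⟨Zs, i, hi, _⟩ := exists_subscheme C hC hCi
  have : GeometricallyIrreducible (i ≫ f) := geomIrr_of_isAlgClosed _
  have hirr : IrreducibleSpace ↥(pullback (i ≫ f) (j ≫ f)) := inferInstance
  let q := pullback.map (i ≫ f) (j ≫ f) f f i j (𝟙 _) (by simp) (by simp)
  have hq : Set.range q = box f C (Set.range j) := by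
    rw [Scheme.Pullback.range_map, hi]; rfl
  rw [← hq, ← Set.image_univ]
  exact (IrreducibleSpace.isIrreducible_univ _).image _ (Scheme.Hom.continuous q).continuousOn

theorem isIrreducible_box' {C C' : Set X} (hC : IsClosed C) (hCi : IsIrreducible C)
    (hC' : IsClosed C') (hCi' : IsIrreducible C') : IsIrreducible (box f C C') := by
  obtain ⟨Zs, i, hi, _⟩ := exists_subscheme C' hC' hCi'
  rw [← hi]
  exact isIrreducible_box f hC hCi i

theorem isIrreducible_box_singleton {C : Set X} (hC : IsClosed C) (hCi : IsIrreducible C)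
    (z : X) : IsIrreducible (box f C {z}) := by
  have := isIrreducible_box f hC hCi (X.fromSpecResidueField z)
  rwa [Scheme.range_fromSpecResidueField] at this

/-- the unit point -/
noncomputable abbrev unitPt : X := e (IsLocalRing.closedPoint k)

omit [IsAlgClosed k] in
lemma e_apply (s : Spec (CommRingCat.of k)) : e s = unitPt e := by
  rw [Subsingleton.elim s (IsLocalRing.closedPoint k)]

/-- the point `(x, e)` -/
noncomputable abbrev ptR (x : X) : ↑(pullback f f) := pullback.lift (𝟙 X) (f ≫ e) (by simp [he]) x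
/-- the point `(e, x)` -/
noncomputable abbrev ptL (x : X) : ↑(pullback f f) := pullback.lift (f ≫ e) (𝟙 X) (by simp [he]) x

omit [IsAlgClosed k] in
lemma fst_ptR (x : X) : pullback.fst f f (ptR f e he x) = x := by
  show pullback.fst f f (pullback.lift (𝟙 X) (f ≫ e) _ x) = x
  rw [← Scheme.Hom.comp_apply, pullback.lift_fst]; rfl

omit [IsAlgClosed k] in
lemma snd_ptR (x : X) : pullback.snd f f (ptR f e he x) = unitPt e := by
  show pullback.snd f f (pullback.lift (𝟙 X) (f ≫ e) _ x) = _
  rw [← Scheme.Hom.comp_apply, pullback.lift_snd, Scheme.Hom.comp_apply, e_apply]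

omit [IsAlgClosed k] in
include hunitR in
lemma m_ptR (x : X) : m (ptR f e he x) = x := by
  show m (pullback.lift (𝟙 X) (f ≫ e) _ x) = x
  rw [← Scheme.Hom.comp_apply, hunitR]; rfl

omit [IsAlgClosed k] in
lemma fst_ptL (x : X) : pullback.fst f f (ptL f e he x) = unitPt e := by
  show pullback.fst f f (pullback.lift (f ≫ e) (𝟙 X) _ x) = _
  rw [← Scheme.Hom.comp_apply, pullback.lift_fst, Scheme.Hom.comp_apply, e_apply]

omit [IsAlgClosed k] in
lemma snd_ptL (x : X) : pullback.snd f f (ptL f e he x) = x := by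
  show pullback.snd f f (pullback.lift (f ≫ e) (𝟙 X) _ x) = x
  rw [← Scheme.Hom.comp_apply, pullback.lift_snd]; rfl

omit [IsAlgClosed k] in
include hunitL in
lemma m_ptL (x : X) : m (ptL f e he x) = x := by
  show m (pullback.lift (f ≫ e) (𝟙 X) _ x) = x
  rw [← Scheme.Hom.comp_apply, hunitL]; rfl

omit [IsAlgClosed k] in
include hσ₁ in
lemma fst_σ (w : ↑(pullback f f)) : pullback.fst f f (σ.hom w) = pullback.fst f f w := by
  rw [← Scheme.Hom.comp_apply, hσ₁]

omit [IsAlgClosed k] in
include hσ₂ in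
lemma snd_σ (w : ↑(pullback f f)) : pullback.snd f f (σ.hom w) = m w := by
  rw [← Scheme.Hom.comp_apply, hσ₂]

omit [IsAlgClosed k] in
lemma σ_inv_hom (w : ↑(pullback f f)) : σ.inv (σ.hom w) = w := by
  rw [← Scheme.Hom.comp_apply, σ.hom_inv_id]; rfl

omit [IsAlgClosed k] in
lemma σ_hom_inv (w : ↑(pullback f f)) : σ.hom (σ.inv w) = w := by
  rw [← Scheme.Hom.comp_apply, σ.inv_hom_id]; rfl

/-- the component of the unit -/
noncomputable abbrev Zc : Set X := irreducibleComponent (unitPt e)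

omit [IsAlgClosed k] in
include hU in
lemma comp_eq_of_mem {C : Set X} (hC : C ∈ irreducibleComponents X) {x : X} (hx : x ∈ C) :
    C = irreducibleComponent x :=
  hU x C hC _ (irreducibleComponent_mem_irreducibleComponents x) hx mem_irreducibleComponent

omit [IsAlgClosed k] in
include hU in
lemma subset_Zc {T : Set X} (hT : IsIrreducible T) (heT : unitPt e ∈ T) : T ⊆ Zc e := by
  obtain ⟨W, hW, hTW⟩ := exists_mem_irreducibleComponents_subset_of_isIrreducible T hT
  have := comp_eq_of_mem hU hW (hTW heT)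
  show T ⊆ irreducibleComponent (unitPt e)
  rw [← this]
  exact hTW

include hunitR in
/-- (B) -/
theorem mul_subset {C : Set X} (hC : C ∈ irreducibleComponents X) :
    m '' box f C (Zc e) ⊆ C := by
  have hirr : IsIrreducible (m '' box f C (Zc e)) :=
    (isIrreducible_box' f (isClosed_of_mem_irreducibleComponents C hC) hC.1
      isClosed_irreducibleComponent isIrreducible_irreducibleComponent).image _
      (Scheme.Hom.continuous m).continuousOn
  refine hC.2 hirr ?_
  intro c hc
  refine ⟨ptR f e he c, ⟨?_, ?_⟩, m_ptR f m e he hunitR c⟩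
  · show pullback.fst f f _ ∈ C
    rw [fst_ptR]; exact hc
  · show pullback.snd f f _ ∈ Zc e
    rw [snd_ptR]; exact mem_irreducibleComponent

include hU hσ₁ hσ₂ hunitR in
/-- (C) -/
theorem snd_σ_inv_mem {C : Set X} (hC : C ∈ irreducibleComponents X) {u : ↑(pullback f f)}
    (hu : u ∈ box f C C) : pullback.snd f f (σ.inv u) ∈ Zc e := by
  have hCcl := isClosed_of_mem_irreducibleComponents C hC
  have hirr : IsIrreducible ((fun u => pullback.snd f f (σ.inv u)) '' box f C C) :=
    (isIrreducible_box' f hCcl hC.1 hCcl hC.1).image _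
      ((Scheme.Hom.continuous _).comp (Scheme.Hom.continuous σ.inv)).continuousOn
  refine subset_Zc e hU hirr ?_ ⟨u, hu, rfl⟩
  obtain ⟨c, hc⟩ := hC.1.1
  refine ⟨σ.hom (ptR f e he c), ⟨?_, ?_⟩, ?_⟩
  · show pullback.fst f f _ ∈ C
    rw [fst_σ f σ hσ₁, fst_ptR]; exact hc
  · show pullback.snd f f _ ∈ C
    rw [snd_σ f m σ hσ₂, m_ptR f m e he hunitR]; exact hc
  · show pullback.snd f f (σ.inv (σ.hom _)) = _
    rw [σ_inv_hom, snd_ptR]

omit [IsAlgClosed k] in
/-- boxes of compact opens are compact -/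
lemma isCompact_box_opens (U V : X.Opens) (hU' : IsCompact (U : Set X)) (hV : IsCompact (V : Set X)) :
    IsCompact (box f (U : Set X) (V : Set X)) := by
  have : CompactSpace U := isCompact_iff_compactSpace.mp hU'
  have : CompactSpace V := isCompact_iff_compactSpace.mp hV
  have : QuasiCompact (U.ι ≫ f) := (HasAffineProperty.iff_of_isAffine (P := @QuasiCompact)).mpr ‹_›
  have hc : CompactSpace ↑(pullback (U.ι ≫ f) (V.ι ≫ f)) := inferInstance
  have := Scheme.Pullback.range_map (U.ι ≫ f) (V.ι ≫ f) f f U.ι V.ι (𝟙 _) (by simp) (by simp)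
  rw [Scheme.Opens.range_ι, Scheme.Opens.range_ι] at this
  show IsCompact (pullback.fst f f ⁻¹' (U : Set X) ∩ pullback.snd f f ⁻¹' (V : Set X))
  rw [← this]
  exact isCompact_range (Scheme.Hom.continuous _)

include hσ₁ hσ₂ hunitR in
/-- (D) the unit component is quasi-compact -/
theorem isCompact_Zc : IsCompact (Zc e) := by
  obtain ⟨U₀, hU₀, hx₀, -⟩ := Opens.isBasis_iff_nbhd.mp X.isBasis_affineOpens
    (Opens.mem_top (unitPt e))
  have hsub : Zc e ⊆ m '' box f (U₀ : Set X) (U₀ : Set X) := by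
    intro z hz
    have hF : IsIrreducible (box f (Zc e) {z}) :=
      isIrreducible_box_singleton f isClosed_irreducibleComponent
        isIrreducible_irreducibleComponent z
    have hO₁ : IsOpen (pullback.fst f f ⁻¹' (U₀ : Set X)) :=
      U₀.isOpen.preimage (Scheme.Hom.continuous _)
    have hO₂ : IsOpen (σ.inv ⁻¹' (pullback.snd f f ⁻¹' (U₀ : Set X))) :=
      (U₀.isOpen.preimage (Scheme.Hom.continuous _)).preimage (Scheme.Hom.continuous _)
    have h1 : (box f (Zc e) {z} ∩ pullback.fst f f ⁻¹' (U₀ : Set X)).Nonempty := by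
      refine ⟨ptL f e he z, ⟨?_, ?_⟩, ?_⟩
      · show pullback.fst f f _ ∈ Zc e
        rw [fst_ptL]; exact mem_irreducibleComponent
      · show pullback.snd f f _ ∈ ({z} : Set X)
        rw [snd_ptL]; rfl
      · show pullback.fst f f _ ∈ (U₀ : Set X)
        rw [fst_ptL]; exact hx₀
    have h2 : (box f (Zc e) {z} ∩ σ.inv ⁻¹' (pullback.snd f f ⁻¹' (U₀ : Set X))).Nonempty := by
      refine ⟨σ.hom (ptR f e he z), ⟨?_, ?_⟩, ?_⟩
      · show pullback.fst f f _ ∈ Zc e
        rw [fst_σ f σ hσ₁, fst_ptR]; exact hz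
      · show pullback.snd f f _ ∈ ({z} : Set X)
        rw [snd_σ f m σ hσ₂, m_ptR f m e he hunitR]; rfl
      · show pullback.snd f f (σ.inv (σ.hom _)) ∈ (U₀ : Set X)
        rw [σ_inv_hom, snd_ptR]; exact hx₀
    obtain ⟨u, ⟨-, hu2⟩, hu3, hu4⟩ := hF.2 _ _ hO₁ hO₂ h1 h2
    refine ⟨σ.inv u, ⟨?_, hu4⟩, ?_⟩
    · show pullback.fst f f (σ.inv u) ∈ (U₀ : Set X)
      rw [← fst_σ f σ hσ₁, σ_hom_inv]; exact hu3
    · rw [← snd_σ f m σ hσ₂, σ_hom_inv]; exact hu2
  exact ((isCompact_box_opens f U₀ U₀ hU₀.isCompact hU₀.isCompact).image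
    (Scheme.Hom.continuous m)).of_isClosed_subset isClosed_irreducibleComponent hsub

/-- saturation: the union of the irreducible components meeting `S` -/
def sat (S : Set X) : Set X := {x | (irreducibleComponent x ∩ S).Nonempty}

omit [IsAlgClosed k] in
lemma subset_sat (S : Set X) : S ⊆ sat S := fun x hx => ⟨x, mem_irreducibleComponent, hx⟩

omit [IsAlgClosed k] in
lemma sat_mono {S T : Set X} (h : S ⊆ T) : sat S ⊆ sat T := fun _ ⟨y, hy, hyS⟩ => ⟨y, hy, h hyS⟩

include hU hσ₁ hσ₂ hunitR in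
/-- (E) -/
theorem sat_eq (S : Set X) : sat S = m '' box f S (Zc e) := by
  ext x
  constructor
  · rintro ⟨s, hs, hsS⟩
    have hC := irreducibleComponent_mem_irreducibleComponents x
    obtain ⟨u, hu1, hu2⟩ := exists_pair f s x
    have hu : u ∈ box f (irreducibleComponent x) (irreducibleComponent x) := by
      refine ⟨?_, ?_⟩
      · show pullback.fst f f u ∈ irreducibleComponent x
        rw [hu1]; exact hs
      · show pullback.snd f f u ∈ irreducibleComponent x
        rw [hu2]; exact mem_irreducibleComponent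
    refine ⟨σ.inv u, ⟨?_, snd_σ_inv_mem f m σ hσ₁ hσ₂ e he hunitR hU hC hu⟩, ?_⟩
    · show pullback.fst f f (σ.inv u) ∈ S
      rw [← fst_σ f σ hσ₁, σ_hom_inv, hu1]; exact hsS
    · rw [← snd_σ f m σ hσ₂, σ_hom_inv, hu2]
  · rintro ⟨w, ⟨hw1, hw2⟩, rfl⟩
    have hC := irreducibleComponent_mem_irreducibleComponents (pullback.fst f f w)
    have hmw : m w ∈ irreducibleComponent (pullback.fst f f w) :=
      mul_subset f m e he hunitR hC ⟨w, ⟨mem_irreducibleComponent, hw2⟩, rfl⟩
    have := comp_eq_of_mem hU hC hmw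
    refine ⟨pullback.fst f f w, ?_, hw1⟩
    rw [← this]; exact mem_irreducibleComponent

include hU hσ₁ hσ₂ hτ₁ hτ₂ hunitR in
/-- (F) -/
theorem isOpen_sat {S : Set X} (hS : IsOpen S) : IsOpen (sat S) := by
  rw [sat_eq f m σ hσ₁ hσ₂ e he hunitR hU]
  obtain ⟨Zs, i, hi, _⟩ := exists_subscheme (Zc e) isClosed_irreducibleComponent
    isIrreducible_irreducibleComponent
  let p₂ := pullback.snd f f
  let t₂ := pullback.snd i p₂
  have sq1 : IsPullback t₂ (pullback.fst i p₂) p₂ i := (IsPullback.of_hasPullback i p₂).flip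
  have sq2 : IsPullback τ.hom p₂ p₂ (𝟙 X) := IsPullback.of_horiz_isIso ⟨by simp [p₂, hτ₂]⟩
  have sq3 : IsPullback (pullback.fst f f) p₂ f f := IsPullback.of_hasPullback f f
  have sq := (sq1.paste_horiz sq2).paste_horiz sq3
  have hopen : UniversallyOpen ((t₂ ≫ τ.hom) ≫ pullback.fst f f) :=
    MorphismProperty.of_isPullback sq.flip inferInstance
  have hμ : (t₂ ≫ τ.hom) ≫ pullback.fst f f = t₂ ≫ m := by rw [Category.assoc, hτ₁]
  rw [hμ] at hopen
  have hr : Set.range t₂ = p₂ ⁻¹' (Zc e) := by rw [Scheme.Pullback.range_snd, hi]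
  have : m '' box f S (Zc e) = (t₂ ≫ m) '' (t₂ ⁻¹' (pullback.fst f f ⁻¹' S)) := by
    ext x; constructor
    · rintro ⟨w, ⟨hw1, hw2⟩, rfl⟩
      obtain ⟨t, rfl⟩ : w ∈ Set.range t₂ := by rw [hr]; exact hw2
      exact ⟨t, hw1, rfl⟩
    · rintro ⟨t, ht, rfl⟩
      refine ⟨t₂ t, ⟨ht, ?_⟩, rfl⟩
      have : t₂ t ∈ Set.range t₂ := ⟨t, rfl⟩
      rw [hr] at this; exact this
  rw [this]
  exact (t₂ ≫ m).isOpenMap _
    ((hS.preimage (Scheme.Hom.continuous _)).preimage (Scheme.Hom.continuous _))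

include hU hσ₁ hσ₂ hunitR in
/-- (G) -/
theorem isCompact_sat (S : X.Opens) (hS : IsCompact (S : Set X)) :
    IsCompact (sat (S : Set X)) := by
  rw [sat_eq f m σ hσ₁ hσ₂ e he hunitR hU]
  have hZ := isCompact_Zc f m σ hσ₁ hσ₂ e he hunitR
  obtain ⟨O, hO, hZO⟩ : ∃ O : X.Opens, IsCompact (O : Set X) ∧ Zc e ⊆ (O : Set X) := by
    have hex : ∀ z : X, ∃ V : X.Opens, IsAffineOpen V ∧ z ∈ V := fun z => by
      obtain ⟨V, hV, hzV, -⟩ := Opens.isBasis_iff_nbhd.mp X.isBasis_affineOpens (Opens.mem_top z)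
      exact ⟨V, hV, hzV⟩
    choose V hV hzV using hex
    obtain ⟨t, -, ht⟩ := hZ.elim_nhds_subcover (fun z => (V z : Set X))
      (fun z _ => (V z).isOpen.mem_nhds (hzV z))
    refine ⟨⟨⋃ z ∈ t, (V z : Set X), isOpen_biUnion fun z _ => (V z).isOpen⟩, ?_, ht⟩
    exact t.isCompact_biUnion fun z _ => (hV z).isCompact
  have h1 := isCompact_box_opens f S O hS hO
  have h2 : box f (S : Set X) (Zc e) =
      box f (S : Set X) (O : Set X) ∩ pullback.snd f f ⁻¹' (Zc e) := by
    ext w
    simp only [box, Set.mem_inter_iff, Set.mem_preimage]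
    constructor
    · rintro ⟨a, b⟩; exact ⟨⟨a, hZO b⟩, b⟩
    · rintro ⟨⟨a, -⟩, b⟩; exact ⟨a, b⟩
  have h3 : IsCompact (box f (S : Set X) (Zc e)) := by
    rw [h2]
    exact h1.inter_right (isClosed_irreducibleComponent.preimage (Scheme.Hom.continuous _))
  exact h3.image (Scheme.Hom.continuous m)

omit [IsAlgClosed k] in
include hU in
lemma sat_sat (S : Set X) : sat (sat S) ⊆ sat S := by
  rintro y ⟨y', hy', s, hs, hsS⟩
  have h1 := comp_eq_of_mem hU (irreducibleComponent_mem_irreducibleComponents y) hy'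
  exact ⟨s, h1 ▸ hs, hsS⟩

omit [IsAlgClosed k] in
lemma sat_inter_sat_eq_empty {A B : Set X} (hA : IsOpen A) (hB : IsOpen B) (h : A ∩ B = ∅) :
    sat A ∩ sat B = ∅ := by
  rw [Set.eq_empty_iff_forall_notMem]
  rintro y ⟨⟨a, ha, haA⟩, ⟨b, hb, hbB⟩⟩
  obtain ⟨c, -, hcA, hcB⟩ := (isIrreducible_irreducibleComponent (x := y)).2 A B hA hB
    ⟨a, ha, haA⟩ ⟨b, hb, hbB⟩
  have : c ∈ A ∩ B := ⟨hcA, hcB⟩
  rw [h] at this; exact this

include hU hσ₁ hσ₂ hτ₁ hτ₂ hunitR in
/-- (H) -/
theorem exists_open_disjoint_sat (U : X.Opens) (g : Γ(X, U)) {y : X} (hyU : y ∈ U)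
    (hy : y ∉ sat (X.basicOpen g : Set X)) :
    ∃ O : Set X, IsOpen O ∧ y ∈ O ∧ O ∩ sat (X.basicOpen g : Set X) = ∅ := by
  have hirr : IsIrreducible (irreducibleComponent y) := isIrreducible_irreducibleComponent
  have hcl : IsClosed (irreducibleComponent y) := isClosed_irreducibleComponent
  have hgen : IsGenericPoint hirr.genericPoint (irreducibleComponent y) :=
    hirr.isGenericPoint_genericPoint hcl
  have hγU : hirr.genericPoint ∈ U :=
    (hgen.mem_open_set_iff U.isOpen).mpr ⟨y, mem_irreducibleComponent, hyU⟩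
  have hγg : hirr.genericPoint ∉ X.basicOpen g := fun h =>
    hy ⟨_, hgen.mem, h⟩
  have hmax : ∀ z, z ⤳ hirr.genericPoint → hirr.genericPoint ⤳ z :=
    Groth.Agent.Lib.Helper21.maximal_of_closure_singleton_mem_irreducibleComponents
      (by rw [hgen.def]; exact irreducibleComponent_mem_irreducibleComponents y)
  obtain ⟨W, hγW, -, hWg⟩ := exists_open_disjoint_basicOpen hmax U hγU g hγg
  refine ⟨sat (W : Set X), isOpen_sat f m σ τ hσ₁ hσ₂ hτ₁ hτ₂ e he hunitR hU W.isOpen,
    ⟨_, hgen.mem, hγW⟩, ?_⟩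
  exact sat_inter_sat_eq_empty W.isOpen (X.basicOpen g).isOpen hWg

include hU hσ₁ hσ₂ hτ₁ hτ₂ hunitR in
/-- (I) quasi-compact saturated opens are closed -/
theorem isClosed_of_sat [QuasiSeparatedSpace X] (V : X.Opens) (hV : IsCompact (V : Set X))
    (hsat : sat (V : Set X) ⊆ V) : IsClosed (V : Set X) := by
  rw [← closure_subset_iff_isClosed]
  intro x hx
  by_contra hxV
  obtain ⟨U', hU', hxU', -⟩ := Opens.isBasis_iff_nbhd.mp X.isBasis_affineOpens (Opens.mem_top x)
  have hc : IsCompact ((V : Set X) ∩ (U' : Set X)) :=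
    QuasiSeparatedSpace.inter_isCompact _ _ V.isOpen hV U'.isOpen hU'.isCompact
  -- cover V ∩ U' by basic opens contained in V
  have hex : ∀ z (hz : z ∈ (V : Set X) ∩ (U' : Set X)), ∃ g : Γ(X, U'),
      X.basicOpen g ≤ V ∧ z ∈ X.basicOpen g := fun z hz =>
    hU'.exists_basicOpen_le (V := V) ⟨z, hz.1⟩ hz.2
  choose g hgV hzg using hex
  obtain ⟨t, ht⟩ := hc.elim_nhds_subcover' (fun z hz => (X.basicOpen (g z hz) : Set X))
    (fun z hz => (X.basicOpen (g z hz)).isOpen.mem_nhds (hzg z hz))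
  -- for each member, an open neighbourhood of x missing its saturation
  have hO : ∀ z : ↥((V : Set X) ∩ (U' : Set X)), ∃ O : Set X, IsOpen O ∧ x ∈ O ∧
      O ∩ sat (X.basicOpen (g z.1 z.2) : Set X) = ∅ := fun z =>
    exists_open_disjoint_sat f m σ τ hσ₁ hσ₂ hτ₁ hτ₂ e he hunitR hU U' (g z.1 z.2) hxU'
      (fun h => hxV (hsat (sat_mono (hgV z.1 z.2) h)))
  choose O hOo hxO hOd using hO
  have hopen : IsOpen ((U' : Set X) ∩ ⋂ z ∈ t, O z) :=
    U'.isOpen.inter (isOpen_biInter_finset fun z _ => hOo z)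
  have hxmem : x ∈ (U' : Set X) ∩ ⋂ z ∈ t, O z :=
    ⟨hxU', Set.mem_iInter₂.mpr fun z _ => hxO z⟩
  obtain ⟨v, ⟨hvU', hvO⟩, hvV⟩ := mem_closure_iff.mp hx _ hopen hxmem
  obtain ⟨z, hzt, hvz⟩ := Set.mem_iUnion₂.mp (ht ⟨hvV, hvU'⟩)
  have h1 : v ∈ O z := Set.mem_iInter₂.mp hvO z hzt
  have h2 : v ∈ sat (X.basicOpen (g z.1 z.2) : Set X) := subset_sat _ hvz
  have : v ∈ O z ∩ sat (X.basicOpen (g z.1 z.2) : Set X) := ⟨h1, h2⟩
  rw [hOd z] at this; exact this

include hU hσ₁ hσ₂ hτ₁ hτ₂ hunitR in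
/-- (J) points off the unit component are separated from it by clopen sets -/
theorem exists_isClopen [QuasiSeparatedSpace X] {x : X} (hx : x ∉ Zc e) :
    ∃ V : Set X, IsClopen V ∧ Zc e ⊆ V ∧ x ∉ V := by
  have hZmem : ∀ z ∈ Zc e, irreducibleComponent z = Zc e := fun z hz =>
    (comp_eq_of_mem hU (irreducibleComponent_mem_irreducibleComponents _) hz).symm
  -- general construction: for a compact open `S` containing the unit, `sat S` is clopen ⊇ Z
  have key : ∀ S : X.Opens, IsCompact (S : Set X) → unitPt e ∈ S →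
      IsClopen (sat (S : Set X)) ∧ Zc e ⊆ sat (S : Set X) := by
    intro S hS heS
    have ho := isOpen_sat f m σ τ hσ₁ hσ₂ hτ₁ hτ₂ e he hunitR hU S.isOpen
    have hc := isCompact_sat f m σ hσ₁ hσ₂ e he hunitR hU S hS
    have hcl := isClosed_of_sat f m σ τ hσ₁ hσ₂ hτ₁ hτ₂ e he hunitR hU ⟨_, ho⟩ hc (sat_sat hU _)
    refine ⟨⟨hcl, ho⟩, fun z hz => ⟨unitPt e, ?_, heS⟩⟩
    rw [hZmem z hz]; exact mem_irreducibleComponent
  obtain ⟨U, hUaff, heU, -⟩ := Opens.isBasis_iff_nbhd.mp X.isBasis_affineOpens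
    (Opens.mem_top (unitPt e))
  by_cases hxU : x ∈ sat (U : Set X)
  · -- x's component meets U; separate by a basic open
    have hdisj : unitPt e ∉ irreducibleComponent x := fun h => by
      have h1 := comp_eq_of_mem hU (irreducibleComponent_mem_irreducibleComponents x) h
      have h2 : x ∈ irreducibleComponent x := mem_irreducibleComponent
      rw [h1] at h2
      exact hx h2
    let V' : X.Opens := ⟨(U : Set X) ∩ (irreducibleComponent x)ᶜ,
      U.isOpen.inter isClosed_irreducibleComponent.isOpen_compl⟩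
    obtain ⟨g, hgV', heg⟩ := hUaff.exists_basicOpen_le (V := V') ⟨unitPt e, ⟨heU, hdisj⟩⟩ heU
    obtain ⟨h1, h2⟩ := key (X.basicOpen g) (hUaff.basicOpen g).isCompact heg
    refine ⟨_, h1, h2, ?_⟩
    rintro ⟨s, hs, hsg⟩
    exact (hgV' hsg).2 hs
  · obtain ⟨h1, h2⟩ := key U hUaff.isCompact heU
    exact ⟨_, h1, h2, hxU⟩

include hU hσ₁ hσ₂ hτ₁ hτ₂ hunitR in
/-- the connected component of the unit is its irreducible component -/
theorem connectedComponent_unit_eq [QuasiSeparatedSpace X] :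
    connectedComponent (unitPt e) = Zc e := by
  apply Set.Subset.antisymm
  · intro x hx
    by_contra hxZ
    obtain ⟨V, hV, hZV, hxV⟩ := exists_isClopen f m σ τ hσ₁ hσ₂ hτ₁ hτ₂ e he hunitR hU hxZ
    exact hxV (hV.connectedComponent_subset (hZV mem_irreducibleComponent) hx)
  · exact isIrreducible_irreducibleComponent.isPreirreducible.isPreconnected.subset_connectedComponent
      mem_irreducibleComponent

end core

section grp
open MonoidalCategory CartesianMonoidalCategory MonObj GrpObj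

/-- over an algebraically closed field: the identity component. -/
theorem main_algClosed {K : Type u} [Field K] [IsAlgClosed K]
    (H : Over (Spec (CommRingCat.of K))) [GrpObj H] :
    connectedComponent (η[H].left (IsLocalRing.closedPoint K)) =
      irreducibleComponent (η[H].left (IsLocalRing.closedPoint K)) ∧
    IsCompact (irreducibleComponent (η[H].left (IsLocalRing.closedPoint K))) ∧
    ∀ x ∉ irreducibleComponent (η[H].left (IsLocalRing.closedPoint K)), ∃ V : Set H.left,
      IsClopen V ∧ irreducibleComponent (η[H].left (IsLocalRing.closedPoint K)) ⊆ V ∧ x ∉ V := by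
  let f : H.left ⟶ Spec (CommRingCat.of K) := H.hom
  let e : Spec (CommRingCat.of K) ⟶ H.left := η[H].left
  let m : pullback f f ⟶ H.left := μ[H].left
  let σ : pullback f f ≅ pullback f f := (Over.forget _).mapIso (Groth.Agent.S1865.shear H)
  let τ : pullback f f ≅ pullback f f := (Over.forget _).mapIso (Groth.Agent.S1865.shear' H)
  have hσ₁ : σ.hom ≫ pullback.fst f f = pullback.fst f f :=
    congr(($(Groth.Agent.S1865.shear_hom_fst H)).left)
  have hσ₂ : σ.hom ≫ pullback.snd f f = m := congr(($(Groth.Agent.S1865.shear_hom_snd H)).left)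
  have hτ₁ : τ.hom ≫ pullback.fst f f = m := congr(($(Groth.Agent.S1865.shear'_hom_fst H)).left)
  have hτ₂ : τ.hom ≫ pullback.snd f f = pullback.snd f f :=
    congr(($(Groth.Agent.S1865.shear'_hom_snd H)).left)
  have he : e ≫ f = 𝟙 _ := Over.w η[H]
  have hR : pullback.lift (𝟙 H.left) (f ≫ e) (by simp [he]) ≫ m = 𝟙 H.left :=
    congr(($(lift_comp_one_right (𝟙 H) (toUnit H))).left)
  have hU : ∀ x : H.left, UniqueComp x := fun x => uniqueComp_all H x
  have : IsSeparated H.hom := Groth.Agent.Lib.Helper23.GrpSeparated.isSeparated_of_field H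
  have : QuasiSeparatedSpace H.left :=
    (quasiSeparatedSpace_iff_quasiSeparated H.left).mpr
      (by rw [← terminal.comp_from H.hom]; infer_instance)
  exact ⟨connectedComponent_unit_eq f m σ τ hσ₁ hσ₂ hτ₁ hτ₂ e he hR hU,
    isCompact_Zc f m σ hσ₁ hσ₂ e he hR,
    fun x hx => exists_isClopen f m σ τ hσ₁ hσ₂ hτ₁ hτ₂ e he hR hU hx⟩

/-- general field: the connected component of the unit is irreducible and quasi-compact. -/
theorem main {k : Type u} [Field k] (G : Over (Spec (CommRingCat.of k))) [GrpObj G] :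
    IsIrreducible (connectedComponent (η[G].left (IsLocalRing.closedPoint k))) ∧
      IsCompact (connectedComponent (η[G].left (IsLocalRing.closedPoint k))) := by
  let K := AlgebraicClosure k
  let g : Spec (CommRingCat.of K) ⟶ Spec (CommRingCat.of k) :=
    Spec.map (CommRingCat.ofHom (algebraMap k K))
  let i1 : GrpObj (Over.mk G.hom) := ‹GrpObj G›
  let i2 : GrpObj (Over.mk (pullback.snd G.hom g)) := Over.grpObjMkPullbackSnd
  let H : Over (Spec (CommRingCat.of K)) := Over.mk (pullback.snd G.hom g)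
  let π : H.left ⟶ G.left := pullback.fst G.hom g
  -- properties of π
  have hgint : IsIntegralHom g :=
    IsIntegralHom.SpecMap_iff.mpr (algebraMap_isIntegral_iff.mpr inferInstance)
  have hgsurj : Surjective g := ⟨fun x => ⟨IsLocalRing.closedPoint K, Subsingleton.elim _ _⟩⟩
  have hπo : IsOpenMap π := (pullback.fst G.hom g).isOpenMap
  have hπc : IsClosedMap π := (pullback.fst G.hom g).isClosedMap
  have hπs : Function.Surjective π := (pullback.fst G.hom g).surjective
  -- unit maps to unit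
  have hunit : (η[H]).left ≫ π = g ≫ η[G].left := by
    show (η[Over.mk (pullback.snd G.hom g)]).left ≫ pullback.fst G.hom g = g ≫ η[G].left
    simp only [Over.grpObjMkPullbackSnd_one]
    simp
    rw [pullback.lift_fst]
    have hc := pullback.condition (f := 𝟙 (Spec (CommRingCat.of k))) (g := g)
    rw [Category.comp_id] at hc
    rw [hc, Category.assoc]
  set e' := η[H].left (IsLocalRing.closedPoint K) with he'
  set e₀ := η[G].left (IsLocalRing.closedPoint k) with he₀
  have hπe : π e' = e₀ := by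
    have := congr(($hunit) (IsLocalRing.closedPoint K))
    rw [Scheme.Hom.comp_apply, Scheme.Hom.comp_apply] at this
    rw [he', this, he₀]
    congr 1
    exact Subsingleton.elim _ _
  obtain ⟨h1, h2, h3⟩ := main_algClosed H
  rw [← he'] at h1 h2 h3
  have hZ'irr : IsIrreducible (irreducibleComponent e') := isIrreducible_irreducibleComponent
  -- the claim
  have hcc : connectedComponent e₀ = π '' irreducibleComponent e' := by
    apply Set.Subset.antisymm
    · intro x hx
      by_contra hxn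
      -- the fibre over x is compact and misses Z'
      have hF : IsCompact (π ⁻¹' {x}) := by
        have hr := Scheme.Pullback.range_snd (G.left.fromSpecResidueField x) π
        rw [Scheme.range_fromSpecResidueField] at hr
        rw [← hr]
        exact isCompact_range (Scheme.Hom.continuous _)
      have hex : ∀ x' ∈ π ⁻¹' {x}, ∃ V : Set H.left, IsClopen V ∧
          irreducibleComponent e' ⊆ V ∧ x' ∉ V := fun x' hx' =>
        h3 x' (fun h => hxn ⟨x', h, hx'⟩)
      choose V hVc hVZ hVx using hex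
      obtain ⟨t, ht⟩ := hF.elim_nhds_subcover' (fun x' hx' => (V x' hx')ᶜ)
        (fun x' hx' => (hVc x' hx').compl.isOpen.mem_nhds (hVx x' hx'))
      let V' : Set H.left := ⋂ x' ∈ t, V x'.1 x'.2
      have hV'c : IsClopen V' := isClopen_biInter_finset fun x' _ => hVc x'.1 x'.2
      have hV'Z : irreducibleComponent e' ⊆ V' := fun z hz =>
        Set.mem_iInter₂.mpr fun x' _ => hVZ x'.1 x'.2 hz
      have hV'F : ∀ v ∈ V', π v ≠ x := by
        intro v hv hvx
        obtain ⟨x', hx't, hvx'⟩ := Set.mem_iUnion₂.mp (ht (show v ∈ π ⁻¹' {x} from hvx))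
        exact hvx' (Set.mem_iInter₂.mp hv x' hx't)
      have hVclopen : IsClopen (π '' V') := ⟨hπc _ hV'c.1, hπo _ hV'c.2⟩
      have heV : e₀ ∈ π '' V' := ⟨e', hV'Z mem_irreducibleComponent, hπe⟩
      obtain ⟨v, hv, hvx⟩ := hVclopen.connectedComponent_subset heV hx
      exact hV'F v hv hvx
    · exact IsPreconnected.subset_connectedComponent
        ((hZ'irr.isPreirreducible.isPreconnected).image _ (Scheme.Hom.continuous π).continuousOn)
        ⟨e', mem_irreducibleComponent, hπe⟩
  rw [hcc]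
  exact ⟨hZ'irr.image _ (Scheme.Hom.continuous π).continuousOn,
    h2.image (Scheme.Hom.continuous π)⟩

end grp

end Groth.Agent.Lib.Helper62.GrpComp
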