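import Groth.Agent.Lib.Helper62.GenRed
import Mathlib.RingTheory.Smooth.Locus
import Mathlib.RingTheory.Spectrum.Prime.FreeLocus
import Mathlib.RingTheory.Ideal.MinimalPrime.Localization

/-! Local versions of "smooth ↔ geometrically reduced at the generic points" (helper62). -/

set_option autoImplicit false
set_option linter.style.haveILetI false

universe u

open TensorProduct

noncomputable section

namespace Groth.Agent.Lib.Helper62.GenRed

section

variable (k A : Type u) [Field k] [CommRing A] [Algebra k A]

/-- the local rings of `A_f` are local rings of `A`. -/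
def atPrimeAwayEquiv (f : A) (q' : Ideal (Localization.Away f)) [q'.IsPrime] :
    Localization.AtPrime (q'.comap (algebraMap A (Localization.Away f))) ≃ₐ[k]
      Localization.AtPrime q' := by
  haveI : IsLocalization.AtPrime (Localization.AtPrime q')
      (q'.comap (algebraMap A (Localization.Away f))) :=
    IsLocalization.isLocalization_isLocalization_atPrime_isLocalization (.powers f) _ q'
  exact (IsLocalization.algEquiv (q'.comap (algebraMap A (Localization.Away f))).primeCompl
    _ _).restrictScalars k

theorem geomReduced_atPrime_of_away (f : A) (q' : Ideal (Localization.Away f)) [q'.IsPrime]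
    (p : Ideal A) [p.IsPrime] (hp : q'.comap (algebraMap A (Localization.Away f)) = p)
    [Algebra.IsGeometricallyReduced k (Localization.AtPrime q')] :
    Algebra.IsGeometricallyReduced k (Localization.AtPrime p) := by
  subst hp
  exact Algebra.IsGeometricallyReduced.of_injective (atPrimeAwayEquiv k A f q').toAlgHom
    (atPrimeAwayEquiv k A f q').injective

theorem geomReduced_away_of_atPrime (f : A) (q' : Ideal (Localization.Away f)) [q'.IsPrime]
    (p : Ideal A) [p.IsPrime] (hp : q'.comap (algebraMap A (Localization.Away f)) = p)
    [Algebra.IsGeometricallyReduced k (Localization.AtPrime p)] :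
    Algebra.IsGeometricallyReduced k (Localization.AtPrime q') := by
  subst hp
  exact Algebra.IsGeometricallyReduced.of_injective (atPrimeAwayEquiv k A f q').symm.toAlgHom
    (atPrimeAwayEquiv k A f q').symm.injective

variable [Algebra.FiniteType k A]

/-- at a smooth point of an algebra of finite type over a field, the local ring is geometrically
reduced. -/
theorem isGeometricallyReduced_atPrime_of_isSmoothAt (p : Ideal A) [hp : p.IsPrime]
    [Algebra.IsSmoothAt k p] : Algebra.IsGeometricallyReduced k (Localization.AtPrime p) := by
  haveI : Algebra.FinitePresentation k A :=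
    Algebra.FinitePresentation.of_finiteType.mp inferInstance
  obtain ⟨f, hfp, hfsm⟩ := Algebra.IsSmoothAt.exists_notMem_smooth k p
  have hdisj : Disjoint (Submonoid.powers f : Set A) (p : Set A) := by
    rw [Set.disjoint_left]
    rintro _ ⟨m, rfl⟩ hm
    exact hfp (hp.mem_of_pow_mem m hm)
  haveI : (p.map (algebraMap A (Localization.Away f))).IsPrime :=
    IsLocalization.isPrime_of_isPrime_disjoint (.powers f) _ p hp hdisj
  have hcomap : (p.map (algebraMap A (Localization.Away f))).comap
      (algebraMap A (Localization.Away f)) = p :=
    IsLocalization.under_map_of_isPrime_disjoint (.powers f) _ hp hdisj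
  haveI := isGeometricallyReduced_localization_of_smooth k
    (Localization.Away f) (p.map (algebraMap A (Localization.Away f)))
  exact geomReduced_atPrime_of_away k A f _ p hcomap

omit [Algebra.FiniteType k A] [Algebra k A] in
/-- an element outside the minimal prime `p` and inside all other minimal primes. -/
theorem exists_notMem_forall_minimalPrimes_mem [IsNoetherianRing A] (p : Ideal A) [hp : p.IsPrime]
    (hpmin : p ∈ minimalPrimes A) :
    ∃ f ∉ p, ∀ q ∈ minimalPrimes A, q ≠ p → f ∈ q := by
  classical
  have hfin : (minimalPrimes A).Finite := minimalPrimes.finite_of_isNoetherianRing A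
  have hch : ∀ q : Ideal A, q ∈ minimalPrimes A → q ≠ p → ∃ x ∈ q, x ∉ p := by
    intro q hq hne
    by_contra hcon
    push Not at hcon
    have hqp : q ≤ p := hcon
    exact hne (le_antisymm hqp (hpmin.2 ⟨hq.1.1, bot_le⟩ hqp))
  choose! x hx hxp using hch
  refine ⟨∏ q ∈ hfin.toFinset.erase p, x q, ?_, ?_⟩
  · rw [Ideal.IsPrime.prod_mem_iff]
    push Not
    intro q hq
    rw [Finset.mem_erase, Set.Finite.mem_toFinset] at hq
    exact hxp q hq.2 hq.1
  · intro q hq hne
    have hmem : q ∈ hfin.toFinset.erase p := by
      rw [Finset.mem_erase, Set.Finite.mem_toFinset]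
      exact ⟨hne, hq⟩
    rw [← Finset.mul_prod_erase _ _ hmem]
    exact Ideal.mul_mem_right _ _ (hx q hq hne)

/-- a generic point of an algebra of finite type over a field whose local ring is geometrically
reduced is a smooth point. -/
theorem isSmoothAt_of_mem_minimalPrimes_of_geomReduced (p : Ideal A) [hp : p.IsPrime]
    (hpmin : p ∈ minimalPrimes A) [Algebra.IsGeometricallyReduced k (Localization.AtPrime p)] :
    Algebra.IsSmoothAt k p := by
  haveI : Algebra.FinitePresentation k A :=
    Algebra.FinitePresentation.of_finiteType.mp inferInstance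
  haveI : IsNoetherianRing A := Algebra.FiniteType.isNoetherianRing k A
  haveI : IsReduced (Localization.AtPrime p) :=
    Algebra.isReduced_of_isGeometricallyReduced (k := k)
  haveI : Ring.KrullDimLE 0 (Localization.AtPrime p) :=
    Ring.KrullDimLE.of_isLocalization p hpmin _
  have hfield : IsField (Localization.AtPrime p) := Ring.KrullDimLE.isField_of_isReduced
  have hfree : (⟨p, hp⟩ : PrimeSpectrum A) ∈ Module.freeLocus A (KaehlerDifferential k A) := by
    rw [Module.mem_freeLocus]
    letI := hfield.toField
    exact Module.Free.of_divisionRing _ _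
  obtain ⟨_, ⟨_, ⟨f2, rfl⟩, rfl⟩, hxf2, hf2⟩ :=
    PrimeSpectrum.isBasis_basic_opens.exists_subset_of_mem_open hfree Module.isOpen_freeLocus
  obtain ⟨f1, hf1p, hf1⟩ := exists_notMem_forall_minimalPrimes_mem A p hpmin
  have hf2p : f2 ∉ p := hxf2
  have hfp : f1 * f2 ∉ p := fun h => (hp.mem_or_mem h).elim hf1p hf2p
  have hsub : (PrimeSpectrum.basicOpen (f1 * f2) : Set (PrimeSpectrum A)) ⊆
      Module.freeLocus A (KaehlerDifferential k A) := by
    refine subset_trans ?_ hf2
    intro y hy
    have hy' : f1 * f2 ∉ y.asIdeal := hy
    exact fun h => hy' (Ideal.mul_mem_left _ _ h)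
  rw [Module.basicOpen_subset_freeLocus_iff] at hsub
  haveI : Module.Projective (Localization.Away (f1 * f2))
      (KaehlerDifferential k (Localization.Away (f1 * f2))) := by
    have e := IsLocalizedModule.iso (.powers (f1 * f2))
      (KaehlerDifferential.map k k A (Localization.Away (f1 * f2)))
    have e' := e.extendScalarsOfIsLocalization (.powers (f1 * f2)) (Localization.Away (f1 * f2))
    exact Module.Projective.of_equiv e'
  haveI : Algebra.FiniteType A (Localization.Away (f1 * f2)) :=
    IsLocalization.finiteType_of_monoid_fg (Submonoid.powers (f1 * f2)) _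
  haveI : Algebra.FiniteType k (Localization.Away (f1 * f2)) := Algebra.FiniteType.trans
    (inferInstance : Algebra.FiniteType k A) inferInstance
  haveI : Algebra.Smooth k (Localization.Away (f1 * f2)) := by
    apply smooth_of_projective_of_geomReduced
    intro q' hq' hq'min
    have hqmin : q'.comap (algebraMap A (Localization.Away (f1 * f2))) ∈ minimalPrimes A := by
      have := IsLocalization.minimalPrimes_map (.powers (f1 * f2))
        (Localization.Away (f1 * f2)) (⊥ : Ideal A)
      rw [Ideal.map_bot] at this
      have h2 : q' ∈ (⊥ : Ideal (Localization.Away (f1 * f2))).minimalPrimes := hq'min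
      rw [this] at h2
      exact h2
    have hqp : q'.comap (algebraMap A (Localization.Away (f1 * f2))) = p := by
      by_contra hne
      have h1 : f1 ∈ q'.comap (algebraMap A (Localization.Away (f1 * f2))) := hf1 _ hqmin hne
      have h3 : algebraMap A (Localization.Away (f1 * f2)) (f1 * f2) ∈ q' := by
        rw [map_mul]
        exact Ideal.mul_mem_right _ _ h1
      exact hq'.ne_top (Ideal.eq_top_of_isUnit_mem _ h3
        (IsLocalization.Away.algebraMap_isUnit (f1 * f2)))
    exact geomReduced_away_of_atPrime k A (f1 * f2) q' p hqp
  exact (Algebra.basicOpen_subset_smoothLocus_iff_smooth.mpr inferInstance)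
    (show (⟨p, hp⟩ : PrimeSpectrum A) ∈ PrimeSpectrum.basicOpen (f1 * f2) from hfp)

end

end Groth.Agent.Lib.Helper62.GenRed

end
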