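import Groth.Agent.Lib.Helper62.GCIField6

/-! Transport of local complete intersections and syntomic algebras along isomorphisms
(helper62). -/

set_option linter.style.haveILetI false

universe u

open Function TensorProduct

noncomputable section

namespace Groth.Agent.Lib.Helper62.GCIField

theorem isLCIOver_of_algEquiv {k S S' : Type u} [Field k] [CommRing S] [CommRing S']
    [Algebra k S] [Algebra k S'] (e : S ≃ₐ[k] S') (h : Synt.IsLCIOver k S) :
    Synt.IsLCIOver k S' := by
  obtain ⟨hft, hloc⟩ := h
  refine ⟨Algebra.FiniteType.equiv hft e, fun q' => ?_⟩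
  obtain ⟨g, hg, hgci⟩ := hloc (PrimeSpectrum.comap (e : S →+* S') q')
  refine ⟨e g, hg, ?_⟩
  have H : Submonoid.map e (Submonoid.powers g) = Submonoid.powers (e g) := by
    rw [Submonoid.map_powers]
  exact isGlobalCI_of_algEquiv
    (IsLocalization.algEquivOfAlgEquiv (Localization.Away g) (Localization.Away (e g)) e H) hgci

theorem isSyntomic_of_algEquiv {R S S' : Type u} [CommRing R] [CommRing S] [CommRing S']
    [Algebra R S] [Algebra R S'] (e : S ≃ₐ[R] S') (h : Synt.IsSyntomic R S) :
    Synt.IsSyntomic R S' := by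
  obtain ⟨hflat, hfp, hfib⟩ := h
  refine ⟨Module.Flat.of_linearEquiv e.symm.toLinearEquiv, Algebra.FinitePresentation.equiv e,
    fun p => ?_⟩
  exact isLCIOver_of_algEquiv
    (Algebra.TensorProduct.congr (AlgEquiv.refl (R := p.asIdeal.ResidueField)
      (A₁ := p.asIdeal.ResidueField)) e) (hfib p)

end Groth.Agent.Lib.Helper62.GCIField

end
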