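import Groth.Agent.Lib.Helper62.DimSmooth
import Mathlib.RingTheory.Smooth.StandardSmoothCotangent
import Mathlib.RingTheory.LocalRing.ResidueField.Fiber
import Mathlib.RingTheory.Localization.BaseChange

/-! Dimension of fibres at smooth points (helper62). -/

set_option linter.style.haveILetI false

universe u

open TensorProduct Function

noncomputable section

namespace Groth.Agent.Lib.Helper62.FibDim

/-- localization does not increase the Krull dimension. -/
theorem ringKrullDim_le_of_isLocalization {A : Type*} [CommRing A] (M : Submonoid A) (B : Type*)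
    [CommRing B] [Algebra A B] [IsLocalization M B] : ringKrullDim B ≤ ringKrullDim A := by
  rw [ringKrullDim_le_iff_height_le]
  intro P hP
  rw [← IsLocalization.height_under M P]
  haveI : (P.under A).IsPrime := Ideal.comap_isPrime _ _
  exact Ideal.height_le_ringKrullDim_of_isPrime

section

variable (R : Type u) [CommRing R] (S : Type u) [CommRing S] [Algebra R S] (a : S) (d : ℕ)
  [Algebra.IsStandardSmoothOfRelativeDimension d R (Localization.Away a)]
  (q : Ideal S) [q.IsPrime]

/-- if `S_a` is standard smooth of relative dimension `d` and `a ∉ q`, then the fibre of `S` through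
`q` has dimension at least `d`. -/
theorem le_ringKrullDim_fiber (ha : a ∉ q) :
    (d : WithBot ℕ∞) ≤ ringKrullDim ((q.comap (algebraMap R S)).Fiber S) := by
  classical
  haveI hp : (q.comap (algebraMap R S)).IsPrime := Ideal.comap_isPrime _ _
  -- a prime of `S_a` over `p`
  have hdisj : Disjoint (Submonoid.powers a : Set S) (q : Set S) := by
    rw [Set.disjoint_left]
    rintro x ⟨n, rfl⟩ hx
    exact ha (Ideal.IsPrime.mem_of_pow_mem inferInstance n hx)
  haveI hqT : (q.map (algebraMap S (Localization.Away a))).IsPrime :=
    IsLocalization.isPrime_of_isPrime_disjoint (Submonoid.powers a) _ q inferInstance hdisj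
  have hcomap : (q.map (algebraMap S (Localization.Away a))).comap
      (algebraMap S (Localization.Away a)) = q :=
    IsLocalization.under_map_of_isPrime_disjoint (Submonoid.powers a) _ inferInstance hdisj
  let pt : (PrimeSpectrum.comap (algebraMap R (Localization.Away a))) ⁻¹'
      {(⟨q.comap (algebraMap R S), hp⟩ : PrimeSpectrum R)} :=
    ⟨⟨q.map (algebraMap S (Localization.Away a)), hqT⟩, by
      rw [Set.mem_preimage, Set.mem_singleton_iff]
      apply PrimeSpectrum.ext
      change (q.map (algebraMap S (Localization.Away a))).comap
        (algebraMap R (Localization.Away a)) = _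
      rw [IsScalarTower.algebraMap_eq R S (Localization.Away a), ← Ideal.comap_comap, hcomap]⟩
  have hne : Nonempty (PrimeSpectrum ((q.comap (algebraMap R S)).Fiber (Localization.Away a))) :=
    ⟨PrimeSpectrum.preimageHomeomorphFiber R (Localization.Away a)
      ⟨q.comap (algebraMap R S), hp⟩ pt⟩
  haveI : Nontrivial ((q.comap (algebraMap R S)).ResidueField ⊗[R] Localization.Away a) :=
    (PrimeSpectrum.nonempty_iff_nontrivial).mp hne
  -- dimension of `κ ⊗ S_a`
  have hdim : ringKrullDim ((q.comap (algebraMap R S)).ResidueField ⊗[R] Localization.Away a) =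
      d := by
    haveI : Algebra.IsStandardSmoothOfRelativeDimension d (q.comap (algebraMap R S)).ResidueField
      ((q.comap (algebraMap R S)).ResidueField ⊗[R] Localization.Away a) := inferInstance
    haveI : Algebra.IsStandardSmooth (q.comap (algebraMap R S)).ResidueField
      ((q.comap (algebraMap R S)).ResidueField ⊗[R] Localization.Away a) :=
      Algebra.IsStandardSmoothOfRelativeDimension.isStandardSmooth d
    apply Groth.Agent.Lib.Helper62.DimSmooth.ringKrullDim_eq_of_smooth_of_free
      (q.comap (algebraMap R S)).ResidueField
    apply Module.finrank_eq_of_rank_eq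
    exact Algebra.IsStandardSmoothOfRelativeDimension.rank_kaehlerDifferential d
  -- `κ ⊗ S_a` is a localization of `κ ⊗ S`
  letI : Algebra ((q.comap (algebraMap R S)).ResidueField ⊗[R] S)
      ((q.comap (algebraMap R S)).ResidueField ⊗[R] Localization.Away a) :=
    (Algebra.TensorProduct.map (AlgHom.id R (q.comap (algebraMap R S)).ResidueField)
      (IsScalarTower.toAlgHom R S (Localization.Away a))).toAlgebra
  haveI : IsScalarTower (q.comap (algebraMap R S)).ResidueField
      ((q.comap (algebraMap R S)).ResidueField ⊗[R] S)
      ((q.comap (algebraMap R S)).ResidueField ⊗[R] Localization.Away a) :=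
    .of_algebraMap_eq <| by intro; simp [RingHom.algebraMap_toAlgebra]
  haveI := IsLocalization.tensorProduct_tensorProduct_right R
    (q.comap (algebraMap R S)).ResidueField (Submonoid.powers a) (Localization.Away a)
    (by ext; simp [RingHom.algebraMap_toAlgebra])
  rw [← hdim]
  exact ringKrullDim_le_of_isLocalization
    ((Submonoid.powers a).map (Algebra.TensorProduct.includeRight (R := R)
      (A := (q.comap (algebraMap R S)).ResidueField))) _

end

end Groth.Agent.Lib.Helper62.FibDim

end
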