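import Groth.Agent.Lib.Helper62.GCIField4
import Groth.Agent.Lib.Helper62.FibDim
import Groth.Agent.Lib.Helper73.DimField
import Mathlib.RingTheory.Ideal.KrullsHeightTheorem

/-! Global complete intersections over a field: the dimension bound from Krull's height theorem,
and stability under localization at one element (helper62). -/

set_option linter.style.haveILetI false

universe u

open Function Polynomial

noncomputable section

namespace Groth.Agent.Lib.Helper62.GCIField

open Groth.Agent.Lib.Helper73.DimFormula

section

variable {k : Type u} [Field k] {A B : Type u} [CommRing A] [CommRing B] [Algebra k A]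
  [Algebra k B]

/-- a nonzero algebra presented by `r` more variables than relations has dimension at least
`r` (Krull's height theorem). -/
theorem HasPres.le_ringKrullDim {r : ℕ} (h : HasPres k A r) [Nontrivial A] :
    (r : WithBot ℕ∞) ≤ ringKrullDim A := by
  obtain ⟨ι, σ, hι, hσ, P, hP⟩ := h
  have hker : P.ker ≠ ⊤ := RingHom.ker_ne_top _
  obtain ⟨Q, hQ⟩ := Ideal.nonempty_minimalPrimes hker
  haveI : Q.IsPrime := hQ.1.1
  have hle : P.ker ≤ Q := hQ.1.2
  have hht : Q.height ≤ (Nat.card σ : ℕ∞) := by
    have h1 : Q.height ≤ ((Set.range P.relation).ncard : ℕ∞) :=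
      Ideal.height_le_card_of_mem_minimalPrimes_span (Set.finite_range _)
        (by rw [P.span_range_relation_eq_ker]; exact hQ)
    refine le_trans h1 ?_
    have h2 : (Set.range P.relation).ncard ≤ Nat.card σ := by
      rw [← Set.image_univ, ← Set.ncard_univ]
      exact Set.ncard_image_le Set.finite_univ
    exact_mod_cast h2
  -- dimension of `A` dominates that of `P.Ring ⧸ Q`
  have hdimA : ringKrullDim (P.Ring ⧸ Q) ≤ ringKrullDim A := by
    have e := Ideal.quotientKerAlgEquivOfSurjective P.aeval_val_surjective
    have hle' : RingHom.ker (MvPolynomial.aeval (R := k) P.val) ≤ Q := by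
      rw [← P.ker_eq_ker_aeval_val]; exact hle
    rw [← ringKrullDim_eq_of_ringEquiv e.toRingEquiv]
    exact ringKrullDim_le_of_surjective (Ideal.Quotient.factor hle')
      (Ideal.Quotient.factor_surjective hle')
  refine le_trans ?_ hdimA
  have h1 := height_add_trdeg_eq_of_field k P.Ring Q
  obtain ⟨n', htr', hd', -, -⟩ := exists_trdeg_eq_ringKrullDim k (P.Ring ⧸ Q)
  obtain ⟨n0, htr0, hd0, -, -⟩ := exists_trdeg_eq_ringKrullDim k P.Ring
  have hn0 : n0 = Nat.card ι := by
    have h3 : ringKrullDim P.Ring = (Nat.card ι : WithBot ℕ∞) := by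
      change ringKrullDim (MvPolynomial ι k) = _
      rw [MvPolynomial.ringKrullDim_of_isNoetherianRing, ringKrullDim_eq_zero_of_field, zero_add]
    rw [hd0] at h3
    exact_mod_cast h3
  rw [htr', htr0] at h1
  obtain ⟨h, hh⟩ : ∃ h : ℕ, Q.height = h := by
    have : Q.height ≠ ⊤ := ne_top_of_le_ne_top (by simp) hht
    exact ⟨_, (ENat.natCast_toNat this).symm⟩
  rw [hh] at h1 hht
  have h3 : h + n' = n0 := by exact_mod_cast h1
  have h4 : h ≤ Nat.card σ := by exact_mod_cast hht
  rw [hd']
  have : r ≤ n' := by omega
  exact_mod_cast this

/-- a nonzero global complete intersection has a presentation whose excess of variables over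
relations is its dimension. -/
theorem good_of_isGlobalCI (h : Synt.IsGlobalCI k A) [Nontrivial A] : Good k A := by
  rcases h with h | ⟨n, c, hcn, φ, r, hφ, hker, hdim⟩
  · exact absurd h (not_subsingleton A)
  · refine ⟨n - c, ?_, hdim⟩
    have hφ' : φ = MvPolynomial.aeval (fun i => φ (MvPolynomial.X i)) := by
      apply MvPolynomial.algHom_ext
      intro i
      rw [MvPolynomial.aeval_X]
    have hsurj : Surjective (MvPolynomial.aeval (R := k) (fun i => φ (MvPolynomial.X i))) := by
      rw [← hφ']; exact hφ
    let G : Algebra.Generators k A (Fin n) :=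
      Algebra.Generators.ofSurjective (fun i => φ (MvPolynomial.X i)) hsurj
    have hG : G.ker = RingHom.ker φ.toRingHom := by
      change RingHom.ker (MvPolynomial.aeval G.val) = _
      have : (MvPolynomial.aeval G.val : MvPolynomial (Fin n) k →ₐ[k] A) = φ := hφ'.symm
      rw [this]
      rfl
    refine ⟨Fin n, Fin c, inferInstance, inferInstance,
      { toGenerators := G
        relation := r
        span_range_relation_eq_ker := by rw [hG, hker] }, ?_⟩
    rw [Nat.card_fin, Nat.card_fin]
    omega

/-- a nonzero localization at one element of a good algebra is good. -/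
theorem Good.away [Algebra A B] [IsScalarTower k A B] (h : Good k A) (g : A)
    [IsLocalization.Away g B] [Nontrivial B] : Good k B := by
  obtain ⟨r, h1, h2⟩ := h
  have h3 : HasPres k B r := by
    have := h1.comp (hasPres_away A g B)
    simpa using this
  refine ⟨r, h3, le_antisymm ?_ h3.le_ringKrullDim⟩
  rw [← h2]
  exact Groth.Agent.Lib.Helper62.FibDim.ringKrullDim_le_of_isLocalization (Submonoid.powers g) B

theorem isGlobalCI_of_algEquiv (e : A ≃ₐ[k] B) (h : Synt.IsGlobalCI k A) :
    Synt.IsGlobalCI k B := by
  by_cases hB : Subsingleton B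
  · exact Or.inl hB
  · rw [not_subsingleton_iff_nontrivial] at hB
    haveI : Nontrivial A := e.toRingEquiv.toRingHom.domain_nontrivial
    exact ((good_of_isGlobalCI h).of_algEquiv e).isGlobalCI

/-- a localization at one element of a global complete intersection over a field is a global
complete intersection. -/
theorem isGlobalCI_away [Algebra A B] [IsScalarTower k A B] (h : Synt.IsGlobalCI k A) (g : A)
    [IsLocalization.Away g B] : Synt.IsGlobalCI k B := by
  by_cases hB : Subsingleton B
  · exact Or.inl hB
  · rw [not_subsingleton_iff_nontrivial] at hB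
    haveI : Nontrivial A := (algebraMap A B).domain_nontrivial
    exact ((good_of_isGlobalCI h).away g).isGlobalCI

end

end Groth.Agent.Lib.Helper62.GCIField

end
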