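import Groth.Agent.Lib.Helper62.JacLoc
import Groth.Prelude.Def_Smoothing
import Mathlib.LinearAlgebra.Matrix.Rank
import Mathlib.LinearAlgebra.Matrix.NonsingularInverse

/-! Jacobian criterion at a smooth point: choice of rows and columns (helper62). -/

set_option linter.style.haveILetI false

universe u

open TensorProduct Function IsLocalRing KaehlerDifferential

noncomputable section

namespace Groth.Agent.Lib.Helper62.JacMinor

open Groth.Agent.Lib.Helper62.CotTCI Groth.Agent.Lib.Helper62.SmoothReg

section LinAlg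

/-- a `c × n` matrix over a field with linearly independent rows has a nonzero maximal minor. -/
theorem exists_cols_det_ne_zero {K : Type*} [Field K] {c n : ℕ} (M : Matrix (Fin c) (Fin n) K)
    (hM : LinearIndependent K M.row) :
    ∃ cols : Fin c ↪ Fin n, (M.submatrix id cols).det ≠ 0 := by
  classical
  have hrank : M.rank = c := by
    have := hM.rank_matrix
    simpa using this
  have hspan : Submodule.span K (Set.range M.col) = ⊤ := by
    apply Submodule.eq_top_of_finrank_eq
    rw [← Matrix.rank_eq_finrank_span_cols, hrank]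
    simp
  obtain ⟨b, -, -, hbspan, hbli⟩ := exists_linearIndepOn_extension
    (K := K) (v := M.col) (s := ∅) (t := Set.univ) (linearIndepOn_empty K M.col) (Set.empty_subset _)
  have hbli' : LinearIndependent K (fun i : b => M.col i) := hbli
  have hbtop : ⊤ ≤ Submodule.span K (Set.range (fun i : b => M.col i)) := by
    rw [← hspan, Submodule.span_le]
    rintro _ ⟨i, rfl⟩
    have : M.col i ∈ Submodule.span K (M.col '' b) := hbspan ⟨i, trivial, rfl⟩
    have heq : (M.col '' b) = Set.range (fun i : b => M.col i) := by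
      ext x; simp
    rwa [heq] at this
  let B := Module.Basis.mk hbli' hbtop
  have hcard : Fintype.card b = c := by
    have := Module.finrank_eq_card_basis B
    simpa using this.symm
  let e : b ≃ Fin c := Fintype.equivFinOfCardEq hcard
  let cols : Fin c ↪ Fin n := e.symm.toEmbedding.trans (Function.Embedding.subtype _)
  refine ⟨cols, ?_⟩
  have hli : LinearIndependent K (M.submatrix id cols).col := by
    have h1 : LinearIndependent K (fun j : Fin c => M.col (cols j)) :=
      hbli'.comp e.symm e.symm.injective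
    exact h1
  have hu : IsUnit (M.submatrix id cols) := Matrix.linearIndependent_cols_iff_isUnit.mp hli
  exact ((Matrix.isUnit_iff_isUnit_det _).mp hu).ne_zero

end LinAlg

section GenLoc

variable {P A : Type u} [CommRing P] [CommRing A] (ψ : P →+* A) (hψ : Surjective ψ)
  (q : Ideal A) [q.IsPrime]

include hψ in
/-- the kernel of the induced map on local rings of a surjection is the extended kernel. -/
theorem ker_localRingHom_eq_map :
    RingHom.ker (Localization.localRingHom (q.comap ψ) q ψ rfl) =
      (RingHom.ker ψ).map (algebraMap P (Localization.AtPrime (q.comap ψ))) := by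
  set φ := Localization.localRingHom (q.comap ψ) q ψ rfl with hφdef
  have hφmap : ∀ a : P, φ (algebraMap P (Localization.AtPrime (q.comap ψ)) a) =
      algebraMap A (Localization.AtPrime q) (ψ a) :=
    fun a => Localization.localRingHom_to_map (q.comap ψ) q ψ rfl a
  refine le_antisymm ?_ ?_
  · intro j hj
    obtain ⟨⟨a, w⟩, h⟩ := IsLocalization.surj (q.comap ψ).primeCompl j
    have h0 : φ (algebraMap P (Localization.AtPrime (q.comap ψ)) a) = 0 := by
      rw [← h, map_mul]
      have : φ j = 0 := hj
      rw [this, zero_mul]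
    rw [hφmap, IsLocalization.map_eq_zero_iff q.primeCompl] at h0
    obtain ⟨⟨v, hv⟩, hva⟩ := h0
    obtain ⟨v₀, rfl⟩ := hψ v
    have hmem : v₀ * a ∈ RingHom.ker ψ := by
      rw [RingHom.mem_ker, map_mul]
      exact hva
    have hvw : v₀ * w ∈ (q.comap ψ).primeCompl := (q.comap ψ).primeCompl.mul_mem hv w.2
    have hu : IsUnit (algebraMap P (Localization.AtPrime (q.comap ψ)) (v₀ * w)) :=
      IsLocalization.map_units _ (⟨v₀ * w, hvw⟩ : (q.comap ψ).primeCompl)
    have hjw : algebraMap P (Localization.AtPrime (q.comap ψ)) (v₀ * w) * j =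
        algebraMap P (Localization.AtPrime (q.comap ψ)) (v₀ * a) := by
      rw [map_mul, map_mul, mul_assoc, mul_comm _ j, h]
    have : j = ↑hu.unit⁻¹ * algebraMap P (Localization.AtPrime (q.comap ψ)) (v₀ * a) := by
      rw [← hjw, ← mul_assoc, IsUnit.val_inv_mul, one_mul]
    rw [this]
    exact Ideal.mul_mem_left _ _ (Ideal.mem_map_of_mem _ hmem)
  · rw [Ideal.map_le_iff_le_comap]
    intro x hx
    change φ (algebraMap P (Localization.AtPrime (q.comap ψ)) x) = 0
    rw [hφmap, (RingHom.mem_ker).mp hx, map_zero]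

end GenLoc

section Core

variable (R A : Type u) [CommRing R] [CommRing A] [Algebra R A] {n m : ℕ}
    (f : Fin m → MvPolynomial (Fin n) R) (φ : MvPolynomial (Fin n) R →ₐ[R] A)
    (hφ : Surjective φ) (hker : RingHom.ker φ.toRingHom = Ideal.span (Set.range f))
    (q : Ideal A) [q.IsPrime]

local notation "PP" => MvPolynomial (Fin n) R

include hφ hker in
/-- At a smooth point of `R[x]/(f)`, some of the `f`'s generate the ideal locally and have a
nonvanishing Jacobian minor. -/
theorem exists_rows_cols [hsm : Algebra.IsSmoothAt R q] :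
    ∃ (c : ℕ) (rows : Fin c ↪ Fin m) (cols : Fin c ↪ Fin n) (s : MvPolynomial (Fin n) R),
      φ (Smoothing.jacobianMinor f rows cols) ∉ q ∧ φ s ∉ q ∧
      ∀ ℓ, s * f ℓ ∈ Ideal.span (Set.range (f ∘ rows)) := by
  classical
  letI : Algebra PP A := φ.toRingHom.toAlgebra
  haveI : IsScalarTower R PP A := IsScalarTower.of_algebraMap_eq fun r => (φ.commutes r).symm
  have hφalg : ∀ p : PP, algebraMap PP A p = φ p := fun _ => rfl
  let 𝔔 : Ideal PP := q.comap (algebraMap PP A)
  haveI : 𝔔.IsPrime := Ideal.comap_isPrime _ _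
  let φl : Localization.AtPrime 𝔔 →+* Localization.AtPrime q :=
    Localization.localRingHom 𝔔 q (algebraMap PP A) rfl
  have hφl : Surjective φl :=
    RingHom.surjective_localRingHom_of_surjective (algebraMap PP A) hφ q
  have hφmap : ∀ a : PP, φl (algebraMap PP (Localization.AtPrime 𝔔) a) =
      algebraMap A (Localization.AtPrime q) (algebraMap PP A a) :=
    fun a => Localization.localRingHom_to_map 𝔔 q (algebraMap PP A) rfl a
  letI : Algebra (Localization.AtPrime 𝔔) (Localization.AtPrime q) := φl.toAlgebra
  haveI : IsScalarTower PP (Localization.AtPrime 𝔔) (Localization.AtPrime q) := by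
    refine IsScalarTower.of_algebraMap_eq fun a => ?_
    rw [IsScalarTower.algebraMap_apply PP A (Localization.AtPrime q)]
    exact (hφmap a).symm
  haveI : IsScalarTower R (Localization.AtPrime 𝔔) (Localization.AtPrime q) := by
    refine IsScalarTower.of_algebraMap_eq fun r => ?_
    rw [IsScalarTower.algebraMap_apply R PP (Localization.AtPrime 𝔔),
      IsScalarTower.algebraMap_apply R A (Localization.AtPrime q),
      IsScalarTower.algebraMap_apply R PP A]
    exact (hφmap _).symm
  haveI : IsScalarTower PP (Localization.AtPrime q) q.ResidueField :=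
    IsScalarTower.of_algebraMap_eq fun _ => rfl
  haveI : IsScalarTower PP (Localization.AtPrime 𝔔) q.ResidueField :=
    IsScalarTower.to₁₂₄ PP (Localization.AtPrime 𝔔) (Localization.AtPrime q) _
  haveI : IsScalarTower PP A q.ResidueField := IsScalarTower.of_algebraMap_eq fun _ => rfl
  have hkereq : RingHom.ker (algebraMap (Localization.AtPrime 𝔔) (Localization.AtPrime q)) =
      Ideal.span (Set.range fun i => algebraMap PP (Localization.AtPrime 𝔔) (f i)) := by
    have h1 := ker_localRingHom_eq_map (algebraMap PP A) hφ q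
    have h2 : RingHom.ker (algebraMap PP A) = Ideal.span (Set.range f) := hker
    rw [h2, Ideal.map_span, ← Set.range_comp] at h1
    exact h1
  haveI : Algebra.EssFiniteType R (Localization.AtPrime 𝔔) :=
    Algebra.EssFiniteType.comp R PP (Localization.AtPrime 𝔔)
  haveI : Algebra.FormallyEtale PP (Localization.AtPrime 𝔔) := .of_isLocalization 𝔔.primeCompl
  haveI : Algebra.FormallySmooth R (Localization.AtPrime 𝔔) :=
    Algebra.FormallySmooth.comp R PP (Localization.AtPrime 𝔔)
  haveI : Module.Free (Localization.AtPrime 𝔔) Ω[Localization.AtPrime 𝔔⁄R] :=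
    Module.free_of_flat_of_isLocalRing
  have hfg : (RingHom.ker (algebraMap (Localization.AtPrime 𝔔) (Localization.AtPrime q))).FG := by
    rw [hkereq]
    exact Submodule.fg_span (Set.finite_range _)
  have hinj := (Algebra.FormallySmooth.iff_injective_cotangentComplexBaseChange_residueField
    (R := R) (Localization.AtPrime 𝔔) hφl hfg).mp hsm
  have hsK : Surjective (algebraMap (Localization.AtPrime 𝔔) q.ResidueField) := by
    rw [IsScalarTower.algebraMap_eq (Localization.AtPrime 𝔔) (Localization.AtPrime q) _]
    exact residue_surjective.comp hφl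
  -- the generators of the kernel
  have hgmem : ∀ i, algebraMap PP (Localization.AtPrime 𝔔) (f i) ∈
      RingHom.ker (algebraMap (Localization.AtPrime 𝔔) (Localization.AtPrime q)) := by
    intro i
    rw [hkereq]
    exact Ideal.subset_span ⟨i, rfl⟩
  let g : Fin m → RingHom.ker (algebraMap (Localization.AtPrime 𝔔) (Localization.AtPrime q)) :=
    fun i => ⟨algebraMap PP (Localization.AtPrime 𝔔) (f i), hgmem i⟩
  let v : Fin m → q.ResidueField ⊗[Localization.AtPrime 𝔔]
      RingHom.ker (algebraMap (Localization.AtPrime 𝔔) (Localization.AtPrime q)) :=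
    fun i => (1 : q.ResidueField) ⊗ₜ g i
  have hvspan : ∀ z, z ∈ Submodule.span q.ResidueField (Set.range v) := by
    intro z
    obtain ⟨x, rfl⟩ := exists_one_tmul' hsK z
    have hx : (x : Localization.AtPrime 𝔔) ∈
        Ideal.span (Set.range fun i => algebraMap PP (Localization.AtPrime 𝔔) (f i)) :=
      hkereq ▸ x.2
    obtain ⟨a, ha⟩ := (Ideal.mem_span_range_iff_exists_fun).mp hx
    have hxg : x = ∑ i, a i • g i := by
      apply Subtype.ext
      rw [Submodule.coe_sum, ← ha]
      rfl
    rw [hxg, TensorProduct.tmul_sum]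
    refine Submodule.sum_mem _ fun i _ => ?_
    rw [TensorProduct.tmul_smul, ← algebraMap_smul q.ResidueField (a i)]
    exact Submodule.smul_mem _ _ (Submodule.subset_span ⟨i, rfl⟩)
  obtain ⟨b, -, -, hbspan, hbli⟩ := exists_linearIndepOn_extension
    (K := q.ResidueField) (v := v) (s := ∅) (t := Set.univ) (linearIndepOn_empty _ v)
    (Set.empty_subset _)
  let e : b ≃ Fin (Fintype.card b) := Fintype.equivFin b
  let rows : Fin (Fintype.card b) ↪ Fin m :=
    e.symm.toEmbedding.trans (Function.Embedding.subtype _)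
  have hvr_li : LinearIndependent q.ResidueField (fun j => v (rows j)) :=
    (hbli : LinearIndependent _ (fun i : b => v i)).comp e.symm e.symm.injective
  have hvr_span : ∀ z, z ∈ Submodule.span q.ResidueField (Set.range fun j => v (rows j)) := by
    intro z
    have h1 : Submodule.span q.ResidueField (Set.range v) ≤
        Submodule.span q.ResidueField (Set.range fun j => v (rows j)) := by
      rw [Submodule.span_le]
      rintro _ ⟨i, rfl⟩
      have : v i ∈ Submodule.span q.ResidueField (v '' b) := hbspan ⟨i, trivial, rfl⟩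
      have heq : v '' b = Set.range fun j => v (rows j) := by
        ext x
        constructor
        · rintro ⟨i, hi, rfl⟩
          exact ⟨e ⟨i, hi⟩, by simp [rows]⟩
        · rintro ⟨j, rfl⟩
          exact ⟨(e.symm j).1, (e.symm j).2, rfl⟩
      rwa [heq] at this
    exact h1 (hvspan z)
  -- (a) Nakayama: the chosen generators generate the kernel
  have hkerrows : RingHom.ker (algebraMap (Localization.AtPrime 𝔔) (Localization.AtPrime q)) ≤
      Ideal.span (Set.range fun j => algebraMap PP (Localization.AtPrime 𝔔) (f (rows j))) := by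
    refine Submodule.le_of_le_smul_of_le_jacobson_bot (I := maximalIdeal (Localization.AtPrime 𝔔))
      hfg (IsLocalRing.maximalIdeal_le_jacobson _) ?_
    intro x hx
    have h1 := hvr_span ((1 : q.ResidueField) ⊗ₜ (⟨x, hx⟩ :
      RingHom.ker (algebraMap (Localization.AtPrime 𝔔) (Localization.AtPrime q))))
    obtain ⟨lam, hlam⟩ := (Submodule.mem_span_range_iff_exists_fun _).mp h1
    choose a ha using fun j => hsK (lam j)
    have h2 : (1 : q.ResidueField) ⊗ₜ[Localization.AtPrime 𝔔] ((⟨x, hx⟩ :
        RingHom.ker (algebraMap (Localization.AtPrime 𝔔) (Localization.AtPrime q))) -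
          ∑ j, a j • g (rows j)) = 0 := by
      have e1 := (TensorProduct.mk (Localization.AtPrime 𝔔) q.ResidueField
        (RingHom.ker (algebraMap (Localization.AtPrime 𝔔) (Localization.AtPrime q))) 1).map_sub
        ⟨x, hx⟩ (∑ j, a j • g (rows j))
      simp only [TensorProduct.mk_apply] at e1
      rw [e1, ← hlam, TensorProduct.tmul_sum, sub_eq_zero]
      refine Finset.sum_congr rfl fun j _ => ?_
      rw [TensorProduct.tmul_smul, ← algebraMap_smul q.ResidueField (a j), ha]
    have h3 := mem_smul_top_of_one_tmul_eq_zero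
      (N := RingHom.ker (algebraMap (Localization.AtPrime 𝔔) (Localization.AtPrime q))) hsK _ h2
    rw [Submodule.mem_smul_top_iff, IsLocalRing.ker_eq_maximalIdeal _ hsK] at h3
    have h4 : x = (∑ j, a j * algebraMap PP (Localization.AtPrime 𝔔) (f (rows j))) +
        (((⟨x, hx⟩ : RingHom.ker (algebraMap (Localization.AtPrime 𝔔) (Localization.AtPrime q))) -
          ∑ j, a j • g (rows j) : RingHom.ker (algebraMap (Localization.AtPrime 𝔔)
            (Localization.AtPrime q))) : Localization.AtPrime 𝔔) := by
      rw [Submodule.coe_sub, Submodule.coe_sum]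
      simp only [Submodule.coe_smul, g, smul_eq_mul]
      ring
    rw [h4]
    refine Submodule.add_mem_sup ?_ h3
    refine Submodule.sum_mem _ fun j _ => ?_
    exact Ideal.mul_mem_left _ _ (Ideal.subset_span ⟨j, rfl⟩)
  -- (c) clearing denominators
  have hclear : ∀ ℓ, ∃ s : PP, s ∉ 𝔔 ∧ s * f ℓ ∈ Ideal.span (Set.range (f ∘ rows)) := by
    intro ℓ
    have h1 : algebraMap PP (Localization.AtPrime 𝔔) (f ℓ) ∈
        (Ideal.span (Set.range (f ∘ rows))).map (algebraMap PP (Localization.AtPrime 𝔔)) := by
      rw [Ideal.map_span, ← Set.range_comp]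
      exact hkerrows (hgmem ℓ)
    rw [IsLocalization.mem_map_algebraMap_iff 𝔔.primeCompl] at h1
    obtain ⟨⟨⟨i, hi⟩, ⟨s, hs⟩⟩, h2⟩ := h1
    simp only at h2
    rw [← map_mul, IsLocalization.eq_iff_exists 𝔔.primeCompl] at h2
    obtain ⟨⟨t, ht⟩, h3⟩ := h2
    simp only at h3
    refine ⟨t * s, 𝔔.primeCompl.mul_mem ht hs, ?_⟩
    have : t * s * f ℓ = t * i := by rw [← h3]; ring
    rw [this]
    exact Ideal.mul_mem_left _ _ hi
  choose sl hsl hsl' using hclear
  -- (b) the Jacobian minor
  have hli1 : LinearIndependent q.ResidueField (fun j => (1 : q.ResidueField)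
      ⊗ₜ[Localization.AtPrime 𝔔] D R (Localization.AtPrime 𝔔)
        (algebraMap PP (Localization.AtPrime 𝔔) (f (rows j)))) := by
    have h1 := hvr_li.map' (cotangentComplexBaseChange R (Localization.AtPrime q)
      (Localization.AtPrime 𝔔) q.ResidueField) (LinearMap.ker_eq_bot.mpr hinj)
    have h2 : (⇑(cotangentComplexBaseChange R (Localization.AtPrime q)
        (Localization.AtPrime 𝔔) q.ResidueField) ∘ fun j => v (rows j)) =
        (fun j => (1 : q.ResidueField) ⊗ₜ[Localization.AtPrime 𝔔] D R (Localization.AtPrime 𝔔)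
          (algebraMap PP (Localization.AtPrime 𝔔) (f (rows j)))) := by
      funext j
      change cotangentComplexBaseChange R (Localization.AtPrime q) (Localization.AtPrime 𝔔)
        q.ResidueField ((1 : q.ResidueField) ⊗ₜ g (rows j)) = _
      rw [cotangentComplexBaseChange_tmul, one_smul, kerToTensor_apply]
    rw [h2] at h1
    exact h1
  let E1 : q.ResidueField ⊗[Localization.AtPrime 𝔔] Ω[Localization.AtPrime 𝔔⁄R] ≃ₗ[q.ResidueField]
      q.ResidueField ⊗[Localization.AtPrime 𝔔] (Localization.AtPrime 𝔔 ⊗[PP] Ω[PP⁄R]) :=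
    TensorProduct.AlgebraTensorModule.congr (LinearEquiv.refl q.ResidueField q.ResidueField)
      (tensorKaehlerEquivOfFormallyEtale R PP (Localization.AtPrime 𝔔)).symm
  let E2 : q.ResidueField ⊗[Localization.AtPrime 𝔔] (Localization.AtPrime 𝔔 ⊗[PP] Ω[PP⁄R])
      ≃ₗ[q.ResidueField] q.ResidueField ⊗[PP] Ω[PP⁄R] :=
    AlgebraTensorModule.cancelBaseChange PP (Localization.AtPrime 𝔔) q.ResidueField q.ResidueField
      Ω[PP⁄R]
  let bK := (KaehlerDifferential.mvPolynomialBasis R (Fin n)).baseChange q.ResidueField
  let MK : Matrix (Fin (Fintype.card b)) (Fin n) q.ResidueField :=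
    Matrix.of fun j i => algebraMap PP q.ResidueField (MvPolynomial.pderiv i (f (rows j)))
  have hrow : ∀ j, MK.row j = bK.equivFun (E2 (E1 ((1 : q.ResidueField)
      ⊗ₜ[Localization.AtPrime 𝔔] D R (Localization.AtPrime 𝔔)
        (algebraMap PP (Localization.AtPrime 𝔔) (f (rows j)))))) := by
    intro j
    have e1 : E1 ((1 : q.ResidueField) ⊗ₜ[Localization.AtPrime 𝔔] D R (Localization.AtPrime 𝔔)
        (algebraMap PP (Localization.AtPrime 𝔔) (f (rows j)))) =
        (1 : q.ResidueField) ⊗ₜ[Localization.AtPrime 𝔔]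
          ((1 : Localization.AtPrime 𝔔) ⊗ₜ[PP] D R PP (f (rows j))) := by
      simp only [E1, TensorProduct.AlgebraTensorModule.congr_tmul, LinearEquiv.refl_apply]
      rw [tensorKaehlerEquivOfFormallyEtale_symm_D_algebraMap]
    rw [e1]
    simp only [E2, AlgebraTensorModule.cancelBaseChange_tmul, one_smul]
    funext i
    simp only [Module.Basis.equivFun_apply, bK, Module.Basis.baseChange_repr_tmul,
      KaehlerDifferential.mvPolynomialBasis_repr_apply, Algebra.smul_def, mul_one]
    rfl
  have hMK : LinearIndependent q.ResidueField MK.row := by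
    have h1 := hli1.map' ((bK.equivFun.toLinearMap ∘ₗ E2.toLinearMap) ∘ₗ E1.toLinearMap)
      (by
        rw [LinearMap.ker_eq_bot]
        exact (bK.equivFun.injective.comp E2.injective).comp E1.injective)
    have h2 : MK.row = ⇑((bK.equivFun.toLinearMap ∘ₗ E2.toLinearMap) ∘ₗ E1.toLinearMap) ∘
        (fun j => (1 : q.ResidueField) ⊗ₜ[Localization.AtPrime 𝔔] D R (Localization.AtPrime 𝔔)
          (algebraMap PP (Localization.AtPrime 𝔔) (f (rows j)))) := by
      funext j
      exact hrow j
    rw [h2]
    exact h1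
  obtain ⟨cols, hcols⟩ := exists_cols_det_ne_zero MK hMK
  have hdet : algebraMap PP q.ResidueField (Smoothing.jacobianMinor f rows cols) =
      (MK.submatrix id cols).det := by
    unfold Smoothing.jacobianMinor
    rw [RingHom.map_det]
    rfl
  refine ⟨Fintype.card b, rows, cols, ∏ ℓ, sl ℓ, ?_, ?_, ?_⟩
  · intro hmem
    apply hcols
    rw [← hdet, IsScalarTower.algebraMap_apply PP A q.ResidueField, hφalg,
      Ideal.algebraMap_residueField_eq_zero]
    exact hmem
  · intro hmem
    have h1 : (∏ ℓ, sl ℓ) ∈ 𝔔 := hmem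
    rw [Ideal.IsPrime.prod_mem_iff] at h1
    obtain ⟨ℓ, -, hℓ⟩ := h1
    exact hsl ℓ hℓ
  · intro ℓ
    obtain ⟨c', hc'⟩ := Finset.dvd_prod_of_mem sl (Finset.mem_univ ℓ)
    rw [hc', mul_comm (sl ℓ) c', mul_assoc]
    exact Ideal.mul_mem_left _ _ (hsl' ℓ)

end Core

end Groth.Agent.Lib.Helper62.JacMinor

end
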