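import Groth.Agent.Lib.Helper62.DimLoc7
import Groth.Agent.Lib.Helper62.GenRed2

/-! The local dimension formula `dim_p = ht p + dim S/p`, and the separability criterion for
function fields via differentials (helper62). -/

set_option autoImplicit false
set_option linter.style.haveILetI false

universe u

open Function KaehlerDifferential TensorProduct

noncomputable section

namespace Groth.Agent.Lib.Helper62.DimLoc

open Groth.Agent.Lib.Helper73.DimFormula

section Field

variable (k : Type u) [Field k] (S : Type u) [CommRing S] [Algebra k S] [Algebra.FiniteType k S]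

include k in
/-- the dimension formula at a prime of an algebra of finite type over a field. -/
theorem compDim_eq_height_add (p : Ideal S) [hp : p.IsPrime] :
    compDim p = (p.height : WithBot ℕ∞) + ringKrullDim (S ⧸ p) := by
  haveI : IsNoetherianRing S := Algebra.FiniteType.isNoetherianRing k S
  apply le_antisymm
  · rw [compDim_le_iff]
    intro Q hQ hQp
    haveI : Q.IsPrime := hQ.1.1
    haveI : (p.map (Ideal.Quotient.mk Q)).IsPrime :=
      Ideal.map_isPrime_of_surjective Ideal.Quotient.mk_surjective (by rwa [Ideal.mk_ker])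
    rw [ringKrullDim_quotient_eq_height_map_add k S Q p hQp]
    exact add_le_add_left (WithBot.coe_le_coe.mpr (height_map_quotient_le Q p hQp)) _
  · obtain ⟨Q, hQ, hQp, hht⟩ := exists_minimalPrimes_height_map_eq p
    haveI : Q.IsPrime := hQ.1.1
    rw [← hht, ← ringKrullDim_quotient_eq_height_map_add k S Q p hQp]
    exact le_compDim hQ hQp

include k in
/-- the local dimension at `p` is `dim S_p + dim S/p`. -/
theorem localDim_eq_ringKrullDim_add (p : Ideal S) [hp : p.IsPrime] :
    FlatMor.localDim (PrimeSpectrum S) ⟨p, hp⟩ =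
      ringKrullDim (Localization.AtPrime p) + ringKrullDim (S ⧸ p) := by
  rw [localDim_eq_compDim k S, compDim_eq_height_add k S p,
    IsLocalization.AtPrime.ringKrullDim_eq_height p (Localization.AtPrime p)]

include k in
/-- the local dimension at the generic point of a domain is its dimension. -/
theorem localDim_bot [IsDomain S] :
    FlatMor.localDim (PrimeSpectrum S) ⟨⊥, Ideal.isPrime_bot⟩ = ringKrullDim S := by
  rw [localDim_eq_compDim k S]
  have hmin : (⊥ : Ideal S) ∈ minimalPrimes S := by
    refine ⟨⟨Ideal.isPrime_bot, le_rfl⟩, fun _ _ _ => bot_le⟩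
  have hdim : ringKrullDim (S ⧸ (⊥ : Ideal S)) = ringKrullDim S :=
    ringKrullDim_eq_of_ringEquiv (RingEquiv.quotientBot S)
  apply le_antisymm
  · rw [compDim_le_iff]
    intro Q hQ hQle
    have : Q = ⊥ := le_bot_iff.mp hQle
    rw [this, hdim]
  · rw [← hdim]
    exact le_compDim hmin le_rfl

end Field

section Iso

/-- the generic rank of a module does not depend on the choice of the field. -/
theorem finrank_tensor_eq_of_algEquiv (C : Type*) [CommRing C] (M : Type*) [AddCommGroup M]
    [Module C M] (K K' : Type*) [Field K] [Field K'] [Algebra C K] [Algebra C K']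
    (e : K ≃ₐ[C] K') :
    Module.finrank K (K ⊗[C] M) = Module.finrank K' (K' ⊗[C] M) := by
  letI : Algebra K K' := (e : K →ₐ[C] K').toRingHom.toAlgebra
  haveI : IsScalarTower C K K' := IsScalarTower.of_algebraMap_eq fun c => (e.commutes c).symm
  have h1 := (TensorProduct.AlgebraTensorModule.cancelBaseChange C K K' K' M).finrank_eq
  have h2 : Module.finrank K' (K' ⊗[K] (K ⊗[C] M)) = Module.finrank K (K ⊗[C] M) :=
    Module.finrank_baseChange
  exact h2.symm.trans h1

end Iso

section FunctionField

variable (k : Type u) [Field k] (C : Type u) [CommRing C] [IsDomain C] [Algebra k C]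
  [Algebra.FiniteType k C] (κ : Type u) [Field κ] [Algebra C κ] [IsFractionRing C κ]
  [Algebra k κ] [IsScalarTower k C κ]

omit [Algebra.FiniteType k C] [Algebra k C] in
theorem primeCompl_bot_eq : (⊥ : Ideal C).primeCompl = nonZeroDivisors C := by
  ext x
  rw [mem_nonZeroDivisors_iff_ne_zero]
  exact Iff.rfl

/-- the local ring at the generic point is the fraction field. -/
def atPrimeBotEquiv : Localization.AtPrime (⊥ : Ideal C) ≃ₐ[k] κ := by
  haveI : IsLocalization (⊥ : Ideal C).primeCompl κ := by
    rw [primeCompl_bot_eq]
    infer_instance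
  exact (IsLocalization.algEquiv (⊥ : Ideal C).primeCompl _ _).restrictScalars k

omit [Algebra.FiniteType k C] in
/-- the differentials of the function field. -/
theorem finrank_kaehler_fractionField :
    Module.finrank κ Ω[κ⁄k] =
      Module.finrank (⊥ : Ideal C).ResidueField ((⊥ : Ideal C).ResidueField ⊗[C] Ω[C⁄k]) := by
  haveI : Algebra.FormallyEtale C κ := Algebra.FormallyEtale.of_isLocalization (nonZeroDivisors C)
  rw [← (KaehlerDifferential.tensorKaehlerEquivOfFormallyEtale k C κ).finrank_eq]
  exact finrank_tensor_eq_of_algEquiv C Ω[C⁄k] κ (⊥ : Ideal C).ResidueField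
    (IsLocalization.algEquiv (nonZeroDivisors C) κ (⊥ : Ideal C).ResidueField)

/-- the function field of a variety is separable (geometrically reduced) over the base field
iff its differentials have dimension at most the dimension of the variety. -/
theorem geomReduced_fractionField_iff :
    Algebra.IsGeometricallyReduced k κ ↔
      ((Module.finrank κ Ω[κ⁄k] : ℕ) : WithBot ℕ∞) ≤ ringKrullDim C := by
  have hmin : (⊥ : Ideal C) ∈ minimalPrimes C :=
    ⟨⟨Ideal.isPrime_bot, le_rfl⟩, fun _ _ _ => bot_le⟩
  constructor
  · intro h
    haveI : Algebra.IsGeometricallyReduced k (Localization.AtPrime (⊥ : Ideal C)) :=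
      Algebra.IsGeometricallyReduced.of_injective (atPrimeBotEquiv k C κ).toAlgHom
        (atPrimeBotEquiv k C κ).injective
    haveI : Algebra.IsSmoothAt k (⊥ : Ideal C) :=
      Groth.Agent.Lib.Helper62.GenRed.isSmoothAt_of_mem_minimalPrimes_of_geomReduced k C ⊥ hmin
    have h1 := localDim_eq_finrank_of_isSmoothAt k C (⊥ : Ideal C)
    rw [finrank_kaehler_fractionField k C κ, ← h1, localDim_bot k C]
  · intro h
    rw [finrank_kaehler_fractionField k C κ, ← localDim_bot k C] at h
    haveI : Algebra.IsSmoothAt k (⊥ : Ideal C) := isSmoothAt_of_finrank_le k C ⊥ h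
    haveI := Groth.Agent.Lib.Helper62.GenRed.isGeometricallyReduced_atPrime_of_isSmoothAt k C
      (⊥ : Ideal C)
    exact Algebra.IsGeometricallyReduced.of_injective (atPrimeBotEquiv k C κ).symm.toAlgHom
      (atPrimeBotEquiv k C κ).symm.injective

/-- for a separable function field, the differentials have dimension the dimension of the
variety. -/
theorem finrank_kaehler_fractionField_of_geomReduced [Algebra.IsGeometricallyReduced k κ] :
    ((Module.finrank κ Ω[κ⁄k] : ℕ) : WithBot ℕ∞) = ringKrullDim C := by
  have hmin : (⊥ : Ideal C) ∈ minimalPrimes C :=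
    ⟨⟨Ideal.isPrime_bot, le_rfl⟩, fun _ _ _ => bot_le⟩
  haveI : Algebra.IsGeometricallyReduced k (Localization.AtPrime (⊥ : Ideal C)) :=
    Algebra.IsGeometricallyReduced.of_injective (atPrimeBotEquiv k C κ).toAlgHom
      (atPrimeBotEquiv k C κ).injective
  haveI : Algebra.IsSmoothAt k (⊥ : Ideal C) :=
    Groth.Agent.Lib.Helper62.GenRed.isSmoothAt_of_mem_minimalPrimes_of_geomReduced k C ⊥ hmin
  have h1 := localDim_eq_finrank_of_isSmoothAt k C (⊥ : Ideal C)
  rw [finrank_kaehler_fractionField k C κ, ← h1, localDim_bot k C]

end FunctionField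

end Groth.Agent.Lib.Helper62.DimLoc

end
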