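import Groth.Agent.S10909
import Groth.Agent.Lib.Helper62.SmoothReg7
import Mathlib.RingTheory.RingHom.Integral
import Mathlib.RingTheory.Ideal.GoingUp
import Mathlib.RingTheory.Ideal.HasGoingUp
import Mathlib.RingTheory.KrullDimension.Polynomial
import Mathlib.RingTheory.KrullDimension.Field

/-! Krull dimension of smooth algebras over a field with free differentials (helper62). -/

set_option linter.style.haveILetI false

universe u

open TensorProduct Function IsLocalRing KaehlerDifferential

noncomputable section

namespace Groth.Agent.Lib.Helper62.DimSmooth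

/-- An injective integral ring homomorphism preserves Krull dimension. -/
theorem ringKrullDim_eq_of_isIntegral_of_injective {R S : Type*} [CommRing R] [CommRing S]
    (f : R →+* S) (hf : f.IsIntegral) (hinj : Function.Injective f) :
    ringKrullDim R = ringKrullDim S := by
  algebraize [f]
  apply le_antisymm
  · unfold ringKrullDim
    refine iSup_le fun l => ?_
    have hker : (⊥ : Ideal S).comap (algebraMap R S) ≤ l.head.asIdeal := by
      have hinj' : Function.Injective (algebraMap R S) := hinj
      rw [← RingHom.ker_eq_comap_bot, (RingHom.injective_iff_ker_eq_bot _).mp hinj']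
      exact bot_le
    obtain ⟨P, -, hP, hPl⟩ := Ideal.exists_ideal_over_prime_of_isIntegral l.head.asIdeal ⊥ hker
    have : P.LiesOver l.head.asIdeal := ⟨hPl.symm⟩
    obtain ⟨L, hL, -, -⟩ := Ideal.exists_ltSeries_of_hasGoingUp l P
    rw [← hL]
    exact Order.LTSeries.length_le_krullDim L
  · unfold ringKrullDim
    refine Order.krullDim_le_of_strictMono (PrimeSpectrum.comap (algebraMap R S)) ?_
    intro P Q hPQ
    have := Ideal.IsIntegral.comap_lt_comap (R := R) (I := P.asIdeal) (J := Q.asIdeal) hPQ
    exact this

section AlgClosed

variable (K : Type u) [Field K] [IsAlgClosed K] (T : Type u) [CommRing T] [Algebra K T]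
  [Algebra.FiniteType K T]

/-- over an algebraically closed field, the dimension of the local ring at a smooth closed point is
the rank of the differentials there. -/
theorem ringKrullDim_localization_of_isSmoothAt (m : Ideal T) [m.IsMaximal]
    (hsm : Algebra.IsSmoothAt K m) :
    ringKrullDim (Localization.AtPrime m) =
      (Module.rankAtStalk (Ω[T⁄K]) ⟨m, inferInstance⟩ : ℕ) := by
  haveI : IsRegularLocalRing (Localization.AtPrime m) :=
    Groth.Agent.Lib.Helper62.SmoothReg.isRegularLocalRing_of_isSmoothAt K T m hsm
  haveI : Algebra.EssFiniteType K (Localization.AtPrime m) :=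
    Algebra.EssFiniteType.comp K T (Localization.AtPrime m)
  have hd : ringKrullDim (Localization.AtPrime m) =
      ((maximalIdeal (Localization.AtPrime m)).spanFinrank : ℕ) :=
    IsRegularLocalRing.spanFinrank_maximalIdeal.symm
  have h1 := ((Groth.Agent.S11311.result K (Localization.AtPrime m)
    (Groth.Agent.S10909.bijective_algebraMap_residueField K T m) _ hd).2 inferInstance
      inferInstance).2
  rw [hd, ← h1]
  congr 1
  exact Groth.Agent.S10909.finrank_kaehler_localization K T m

/-- smooth with free differentials of rank `d` over an algebraically closed field: dimension `d`. -/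
theorem ringKrullDim_eq_of_smooth_of_free_algClosed [Algebra.FormallySmooth K T] [Nontrivial T]
    [Module.Free T Ω[T⁄K]] (d : ℕ) (hd : Module.finrank T Ω[T⁄K] = d) :
    ringKrullDim T = d := by
  have hloc : ∀ (m : Ideal T) [m.IsMaximal], ringKrullDim (Localization.AtPrime m) = d := by
    intro m _
    haveI : Algebra.FormallyEtale T (Localization.AtPrime m) := .of_isLocalization m.primeCompl
    have hsm : Algebra.IsSmoothAt K m := Algebra.FormallySmooth.comp K T (Localization.AtPrime m)
    rw [ringKrullDim_localization_of_isSmoothAt K T m hsm, Module.rankAtStalk_eq_finrank_of_free,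
      hd]
    rfl
  apply le_antisymm
  · rw [ringKrullDim_le_iff_isMaximal_height_le]
    intro m hm
    rw [← IsLocalization.AtPrime.ringKrullDim_eq_height m (Localization.AtPrime m), hloc m]
  · obtain ⟨m, hm⟩ := Ideal.exists_maximal T
    rw [← hloc m, IsLocalization.AtPrime.ringKrullDim_eq_height m (Localization.AtPrime m)]
    exact Ideal.height_le_ringKrullDim_of_isPrime

end AlgClosed

section Field

variable (k : Type u) [Field k] (T : Type u) [CommRing T] [Algebra k T] [Algebra.FiniteType k T]

/-- smooth with free differentials of rank `d` over a field: dimension `d`. -/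
theorem ringKrullDim_eq_of_smooth_of_free [Algebra.FormallySmooth k T] [Nontrivial T]
    [Module.Free T Ω[T⁄k]] (d : ℕ) (hd : Module.finrank T Ω[T⁄k] = d) :
    ringKrullDim T = d := by
  letI : Algebra T (AlgebraicClosure k ⊗[k] T) := Algebra.TensorProduct.rightAlgebra
  have hint : (algebraMap T (AlgebraicClosure k ⊗[k] T)).IsIntegral :=
    RingHom.isIntegral_isStableUnderBaseChange k (AlgebraicClosure k) T
      (AlgebraicClosure k ⊗[k] T)
      (algebraMap_isIntegral_iff.mpr (inferInstance : Algebra.IsIntegral k (AlgebraicClosure k)))
  have hinj : Injective (algebraMap T (AlgebraicClosure k ⊗[k] T)) :=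
    Algebra.TensorProduct.includeRight_injective (algebraMap k (AlgebraicClosure k)).injective
  rw [ringKrullDim_eq_of_isIntegral_of_injective _ hint hinj]
  haveI : Nontrivial (AlgebraicClosure k ⊗[k] T) := hinj.nontrivial
  let e := tensorKaehlerEquiv k (AlgebraicClosure k) T (AlgebraicClosure k ⊗[k] T)
  haveI : Module.Free (AlgebraicClosure k ⊗[k] T) Ω[AlgebraicClosure k ⊗[k] T⁄AlgebraicClosure k] :=
    Module.Free.of_equiv e
  apply ringKrullDim_eq_of_smooth_of_free_algClosed (AlgebraicClosure k)
    (AlgebraicClosure k ⊗[k] T) d
  rw [← e.finrank_eq, Module.finrank_baseChange, hd]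

end Field

end Groth.Agent.Lib.Helper62.DimSmooth

end
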