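import Groth.Agent.Lib.Helper62.GCIField5
import Mathlib.RingTheory.KrullDimension.Zero
import Mathlib.RingTheory.Artinian.Ring

/-! Finite flat algebras presented by as many relations as generators are syntomic (helper62). -/

set_option linter.style.haveILetI false

universe u

open Function TensorProduct

noncomputable section

namespace Groth.Agent.Lib.Helper62.GCIField

theorem HasPres.baseChange {R B : Type u} [CommRing R] [CommRing B] [Algebra R B] {r : ℕ}
    (h : HasPres R B r) (T : Type u) [CommRing T] [Algebra R T] : HasPres T (T ⊗[R] B) r := by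
  obtain ⟨ι, σ, hι, hσ, P, hP⟩ := h
  exact ⟨ι, σ, hι, hσ, P.baseChange T, hP⟩

/-- a finite flat algebra with a presentation by as many relations as generators is syntomic. -/
theorem isSyntomic_of_finite_of_hasPres_zero (R B : Type u) [CommRing R] [CommRing B]
    [Algebra R B] [Module.Flat R B] [Module.Finite R B] (h : HasPres R B 0) :
    Synt.IsSyntomic R B := by
  haveI : Algebra.FinitePresentation R B := h.finitePresentation
  refine ⟨inferInstance, inferInstance, fun p => ?_⟩
  have hT : HasPres p.asIdeal.ResidueField (p.asIdeal.ResidueField ⊗[R] B) 0 :=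
    h.baseChange p.asIdeal.ResidueField
  haveI : Algebra.FinitePresentation p.asIdeal.ResidueField
      (p.asIdeal.ResidueField ⊗[R] B) := hT.finitePresentation
  have hgci : Synt.IsGlobalCI p.asIdeal.ResidueField (p.asIdeal.ResidueField ⊗[R] B) := by
    by_cases hsub : Subsingleton (p.asIdeal.ResidueField ⊗[R] B)
    · exact Or.inl hsub
    · rw [not_subsingleton_iff_nontrivial] at hsub
      haveI := hsub
      haveI : IsArtinianRing (p.asIdeal.ResidueField ⊗[R] B) :=
        IsArtinianRing.of_finite p.asIdeal.ResidueField _
      have hdim : ringKrullDim (p.asIdeal.ResidueField ⊗[R] B) = ((0 : ℕ) : WithBot ℕ∞) := by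
        rw [Nat.cast_zero]
        exact ringKrullDimZero_iff_ringKrullDim_eq_zero.mp inferInstance
      exact hT.isGlobalCI hdim
  refine ⟨inferInstance, fun q => ⟨1, ?_, isGlobalCI_away hgci 1⟩⟩
  intro h1
  exact q.2.ne_top ((Ideal.eq_top_iff_one _).mpr h1)

end Groth.Agent.Lib.Helper62.GCIField

end
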