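import Mathlib
import Groth.Agent.Lib.Helper62.BCStalk

/-! Canonical form of the stalks of a base change `X ×_k K`: `O_{X_K,x'}` is the localization of
`K ⊗[k] O_{X,x}` at a prime, via the canonical map (helper62). -/

set_option autoImplicit false
set_option linter.style.haveILetI false

universe u

open CategoryTheory CategoryTheory.Limits AlgebraicGeometry TensorProduct

noncomputable section

namespace Groth.Agent.Lib.Helper62.BCStalk

variable {k : Type u} [CommRing k] {X : Scheme.{u}} (f : X ⟶ Spec (CommRingCat.of k))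
  (K : Type u) [CommRing K] [Algebra k K]

/-- compatibility of the structure maps with the stalk map of the projection. -/
theorem stalkMap_stalkStr (x' : bc f K) (c : k) :
    ((bcπ f K).stalkMap x').hom (stalkStr f ((bcπ f K).base x') c) =
      stalkStr (bcσ f K) x' (algebraMap k K c) := by
  obtain ⟨_, ⟨U, hU, rfl⟩, hxU, -⟩ :=
    X.isBasis_affineOpens.exists_subset_of_mem_open (Set.mem_univ ((bcπ f K).base x')) isOpen_univ
  have hx'V : x' ∈ (bcπ f K) ⁻¹ᵁ U := hxU
  have hw := (isPushout_sections (f := f) K hU).w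
  rw [← germ_comp_toSection f U _ hxU, ← germ_comp_toSection (bcσ f K) ((bcπ f K) ⁻¹ᵁ U) x' hx'V]
  simp only [RingHom.comp_apply]
  have h1 : ((bcπ f K).stalkMap x').hom ((X.presheaf.germ U _ hxU).hom (toSection f U c)) =
      ((bc f K).presheaf.germ ((bcπ f K) ⁻¹ᵁ U) x' hx'V).hom
        (((bcπ f K).appLE U ((bcπ f K) ⁻¹ᵁ U) le_rfl).hom (toSection f U c)) := by
    have := Scheme.Hom.germ_stalkMap (bcπ f K) U x' hxU
    have h2 := congr($(this).hom (toSection f U c))
    simp only [CommRingCat.hom_comp, RingHom.comp_apply] at h2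
    rw [h2, Scheme.Hom.appLE]
    simp
  rw [h1]
  congr 1
  exact congr($(hw).hom c)

/-- **Canonical form of the local rings of a base change**: the canonical map
`K ⊗[k] O_{X,x} → O_{X_K,x'}` (`x = π x'`) is the localization at the contraction of the maximal
ideal. -/
theorem exists_canMap (x' : bc f K) [Algebra k (X.presheaf.stalk ((bcπ f K).base x'))]
    (halg : algebraMap k (X.presheaf.stalk ((bcπ f K).base x')) =
      stalkStr f ((bcπ f K).base x')) :
    ∃ can : K ⊗[k] X.presheaf.stalk ((bcπ f K).base x') →+* (bc f K).presheaf.stalk x',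
      (∀ c : K, can (c ⊗ₜ 1) = stalkStr (bcσ f K) x' c) ∧
      (∀ a, can (1 ⊗ₜ a) = ((bcπ f K).stalkMap x').hom a) ∧
      (letI := can.toAlgebra
       IsLocalization.AtPrime ((bc f K).presheaf.stalk x')
        ((IsLocalRing.maximalIdeal ((bc f K).presheaf.stalk x')).comap can)) := by
  -- the canonical map
  letI : Algebra K ((bc f K).presheaf.stalk x') := (stalkStr (bcσ f K) x').toAlgebra
  letI : Algebra k ((bc f K).presheaf.stalk x') :=
    ((algebraMap K ((bc f K).presheaf.stalk x')).comp (algebraMap k K)).toAlgebra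
  haveI : IsScalarTower k K ((bc f K).presheaf.stalk x') := .of_algebraMap_eq' rfl
  let g : X.presheaf.stalk ((bcπ f K).base x') →ₐ[k] (bc f K).presheaf.stalk x' :=
    { toRingHom := ((bcπ f K).stalkMap x').hom
      commutes' := fun c => by
        change ((bcπ f K).stalkMap x').hom (algebraMap k (X.presheaf.stalk ((bcπ f K).base x')) c) = _
        rw [halg]
        exact stalkMap_stalkStr f K x' c }
  let canA : K ⊗[k] X.presheaf.stalk ((bcπ f K).base x') →ₐ[k] (bc f K).presheaf.stalk x' :=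
    Algebra.TensorProduct.productMap
      ((Algebra.ofId K ((bc f K).presheaf.stalk x')).restrictScalars k) g
  have hcan1 : ∀ c : K, canA (c ⊗ₜ 1) = stalkStr (bcσ f K) x' c := by
    intro c
    simp only [canA, Algebra.TensorProduct.productMap_apply_tmul, map_one, mul_one]
    rfl
  have hcan2 : ∀ a, canA (1 ⊗ₜ a) = ((bcπ f K).stalkMap x').hom a := by
    intro a
    simp only [canA, Algebra.TensorProduct.productMap_apply_tmul, map_one, one_mul]
    rfl
  refine ⟨canA.toRingHom, hcan1, hcan2, ?_⟩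
  -- chart
  obtain ⟨_, ⟨U, hU, rfl⟩, hxU, -⟩ :=
    X.isBasis_affineOpens.exists_subset_of_mem_open (Set.mem_univ ((bcπ f K).base x')) isOpen_univ
  letI : Algebra k Γ(X, U) := (toSection f U).toAlgebra
  letI : Algebra Γ(X, U) (X.presheaf.stalk ((bcπ f K).base x')) := X.presheaf.algebra_section_stalk ⟨((bcπ f K).base x'), hxU⟩
  haveI : IsScalarTower k Γ(X, U) (X.presheaf.stalk ((bcπ f K).base x')) := chart_aux f ((bcπ f K).base x') hxU halg
  haveI := hU.isLocalization_stalk ⟨((bcπ f K).base x'), hxU⟩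
  have hV : IsAffineOpen ((bcπ f K) ⁻¹ᵁ U) := hU.preimage (bcπ f K)
  have hx'V : x' ∈ (bcπ f K) ⁻¹ᵁ U := hxU
  obtain ⟨φ, hφ1, hφ2⟩ := exists_ringEquiv_sections (f := f) K hU
  letI : Algebra Γ(bc f K, (bcπ f K) ⁻¹ᵁ U) ((bc f K).presheaf.stalk x') :=
    (bc f K).presheaf.algebra_section_stalk ⟨x', hx'V⟩
  haveI hlocB := hV.isLocalization_stalk ⟨x', hx'V⟩
  set PB := (hV.primeIdealOf ⟨x', hx'V⟩).asIdeal with hPB
  set q := (hU.primeIdealOf ⟨((bcπ f K).base x'), hxU⟩).asIdeal with hq
  have hPBq : PB.comap ((bcπ f K).appLE U ((bcπ f K) ⁻¹ᵁ U) le_rfl).hom = q := by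
    have := IsAffineOpen.comap_primeIdealOf_appLE (f := bcπ f K) U hU _ hV le_rfl hx'V
    have h2 := congr($(this).asIdeal)
    rw [PrimeSpectrum.comap_asIdeal] at h2
    rw [hPB, h2, hq]
  -- key identity
  have hkey : ∀ r : K ⊗[k] Γ(X, U), canA (tmap k K Γ(X, U) (X.presheaf.stalk ((bcπ f K).base x')) r) =
      algebraMap Γ(bc f K, (bcπ f K) ⁻¹ᵁ U) ((bc f K).presheaf.stalk x') (φ r) := by
    intro r
    induction r using TensorProduct.induction_on with
    | zero => simp
    | add r s hr hs => simp only [map_add, hr, hs]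
    | tmul c a =>
      have e1 : (c ⊗ₜ[k] a : K ⊗[k] Γ(X, U)) = (c ⊗ₜ 1) * (1 ⊗ₜ a) := by
        rw [Algebra.TensorProduct.tmul_mul_tmul, mul_one, one_mul]
      rw [e1, map_mul, map_mul, map_mul, map_mul, hφ1, hφ2, tmap_one_tmul]
      have e2 : tmap k K Γ(X, U) (X.presheaf.stalk ((bcπ f K).base x')) (c ⊗ₜ 1) = c ⊗ₜ 1 := by
        rw [tmap, Algebra.TensorProduct.map_tmul]
        simp
      rw [e2, hcan1, hcan2]
      congr 1
      · exact (congr($(germ_comp_toSection (bcσ f K) ((bcπ f K) ⁻¹ᵁ U) x' hx'V) c)).symm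
      · have := Scheme.Hom.germ_stalkMap (bcπ f K) U x' hxU
        have h2 := congr($(this).hom a)
        simp only [CommRingCat.hom_comp, RingHom.comp_apply] at h2
        change ((bcπ f K).stalkMap x').hom ((X.presheaf.germ U ((bcπ f K).base x') hxU).hom a) = _
        rw [h2, Scheme.Hom.appLE]
        simp
        rfl
  -- localization structures
  letI algAO : Algebra (K ⊗[k] Γ(X, U)) (K ⊗[k] X.presheaf.stalk ((bcπ f K).base x')) :=
    (tmap k K Γ(X, U) (X.presheaf.stalk ((bcπ f K).base x'))).toRingHom.toAlgebra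
  haveI hloc1 := isLocalization_tensor k K Γ(X, U) q (X.presheaf.stalk ((bcπ f K).base x'))
  letI algAS : Algebra (K ⊗[k] Γ(X, U)) ((bc f K).presheaf.stalk x') :=
    ((algebraMap Γ(bc f K, (bcπ f K) ⁻¹ᵁ U) ((bc f K).presheaf.stalk x')).comp
      φ.symm.symm.toRingHom).toAlgebra
  haveI hloc2 : IsLocalization (PB.primeCompl.map φ.symm) ((bc f K).presheaf.stalk x') :=
    IsLocalization.isLocalization_of_base_ringEquiv PB.primeCompl
      ((bc f K).presheaf.stalk x') φ.symm
  letI canAlg : Algebra (K ⊗[k] X.presheaf.stalk ((bcπ f K).base x'))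
      ((bc f K).presheaf.stalk x') := canA.toRingHom.toAlgebra
  haveI : IsScalarTower (K ⊗[k] Γ(X, U)) (K ⊗[k] X.presheaf.stalk ((bcπ f K).base x'))
      ((bc f K).presheaf.stalk x') := .of_algebraMap_eq (fun r => (hkey r).symm)
  have hle : q.primeCompl.map
      (Algebra.TensorProduct.includeRight (R := k) (A := K) (B := Γ(X, U))) ≤
      PB.primeCompl.map φ.symm := by
    rintro _ ⟨a, ha, rfl⟩
    refine ⟨φ (1 ⊗ₜ a), ?_, by simp⟩
    rw [hφ1]
    intro hmem
    apply ha
    rw [← hPBq]
    exact hmem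
  have hloc3 := IsLocalization.isLocalization_of_submonoid_le
    (K ⊗[k] X.presheaf.stalk ((bcπ f K).base x')) ((bc f K).presheaf.stalk x') _ _ hle
  refine IsLocalization.of_le (M := (PB.primeCompl.map φ.symm).map
    (algebraMap (K ⊗[k] Γ(X, U)) (K ⊗[k] X.presheaf.stalk ((bcπ f K).base x')))) _ ?_ ?_
  · rintro _ ⟨_, ⟨b, hb, rfl⟩, rfl⟩
    change _ ∉ Ideal.comap canA.toRingHom _
    rw [Ideal.mem_comap]
    change canA (tmap k K Γ(X, U) (X.presheaf.stalk ((bcπ f K).base x')) (φ.symm b)) ∉ _
    rw [hkey, RingEquiv.apply_symm_apply]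
    intro hmem
    exact (IsLocalRing.mem_maximalIdeal _).mp hmem
      (IsLocalization.map_units ((bc f K).presheaf.stalk x') ⟨b, hb⟩)
  · intro r hr
    by_contra hnu
    exact hr ((IsLocalRing.mem_maximalIdeal _).mpr hnu)

/-- `K`-linear version of `exists_prime_of_point`: the local ring of the base change at `x'` is, as a
`K`-algebra, the localization of `K ⊗ O_{X,x}` at a prime over the maximal ideal. -/
theorem exists_prime_of_point_algEquiv (x' : bc f K) (x : X) (hx : (bcπ f K).base x' = x)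
    [Algebra k (X.presheaf.stalk x)] (halg : algebraMap k (X.presheaf.stalk x) = stalkStr f x)
    [Algebra K ((bc f K).presheaf.stalk x')]
    (halgK : algebraMap K ((bc f K).presheaf.stalk x') = stalkStr (bcσ f K) x') :
    ∃ (M : Ideal (K ⊗[k] X.presheaf.stalk x)) (_ : M.IsPrime),
      M.comap (Algebra.TensorProduct.includeRight (R := k) (A := K)
        (B := X.presheaf.stalk x)).toRingHom = IsLocalRing.maximalIdeal (X.presheaf.stalk x) ∧
      Nonempty ((bc f K).presheaf.stalk x' ≃ₐ[K] Localization.AtPrime M) := by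
  subst hx
  obtain ⟨can, h1, h2, hloc⟩ := exists_canMap f K x' halg
  refine ⟨(IsLocalRing.maximalIdeal ((bc f K).presheaf.stalk x')).comap can, inferInstance, ?_, ?_⟩
  · ext a
    simp only [Ideal.mem_comap]
    change can (1 ⊗ₜ a) ∈ _ ↔ _
    rw [h2]
    have hloc' : IsLocalHom ((bcπ f K).stalkMap x').hom := inferInstance
    rw [IsLocalRing.mem_maximalIdeal, IsLocalRing.mem_maximalIdeal, mem_nonunits_iff,
      mem_nonunits_iff, not_iff_not]
    exact ⟨fun h => hloc'.map_nonunit a h, fun h => h.map _⟩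
  · letI := can.toAlgebra
    haveI := hloc
    let e : (bc f K).presheaf.stalk x' ≃ₐ[K ⊗[k] X.presheaf.stalk ((bcπ f K).base x')]
        Localization.AtPrime ((IsLocalRing.maximalIdeal ((bc f K).presheaf.stalk x')).comap can) :=
      IsLocalization.algEquiv
        ((IsLocalRing.maximalIdeal ((bc f K).presheaf.stalk x')).comap can).primeCompl _ _
    refine ⟨AlgEquiv.ofRingEquiv (f := e.toRingEquiv) ?_⟩
    intro c
    rw [halgK, ← h1]
    change e (algebraMap (K ⊗[k] X.presheaf.stalk ((bcπ f K).base x')) _ (c ⊗ₜ 1)) = _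
    rw [e.commutes, IsScalarTower.algebraMap_apply K
      (K ⊗[k] X.presheaf.stalk ((bcπ f K).base x')) (Localization.AtPrime _),
      Algebra.TensorProduct.algebraMap_apply]
    rfl

end Groth.Agent.Lib.Helper62.BCStalk
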