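import Mathlib

/-! Common field extension trick (ring level) for base change of local rings (helper62).

Let `O` be a local `k`-algebra, `k'`, `K` two extension fields of `k`, `M'` a prime of `k' ⊗ O` and
`N` a prime of `K ⊗ O`, both over the maximal ideal of `O`.  Then there are an extension field `L`
of `k'` (finitely generated if `K/k` is), a prime `P` of `L ⊗_{k'} (k' ⊗ O)_{M'}` over the maximal
ideal and a flat local homomorphism `(K ⊗ O)_N → (L ⊗_{k'} (k' ⊗ O)_{M'})_P`. -/

set_option autoImplicit false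
set_option linter.style.haveILetI false

universe u

open TensorProduct IsLocalRing

noncomputable section

namespace Groth.Agent.Lib.Helper62.CommonExt

variable (k : Type u) [Field k] (O : Type u) [CommRing O] [IsLocalRing O] [Algebra k O]
  (k' K : Type u) [Field k'] [Field K] [Algebra k k'] [Algebra k K]

section Prime

variable {k O} (F : Type u) [Field F] [Algebra k F] (M : Ideal (F ⊗[k] O)) [M.IsPrime]
  (hM : M.comap (Algebra.TensorProduct.includeRight (R := k) (A := F) (B := O)).toRingHom =
    maximalIdeal O)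

/-- `O → (F ⊗ O)_M`. -/
def toLoc : O →+* Localization.AtPrime M :=
  (algebraMap (F ⊗[k] O) (Localization.AtPrime M)).comp
    (Algebra.TensorProduct.includeRight (R := k) (A := F) (B := O)).toRingHom

omit [IsLocalRing O] in
theorem toLoc_apply (a : O) :
    toLoc F M a = algebraMap (F ⊗[k] O) (Localization.AtPrime M) (1 ⊗ₜ a) := rfl

include hM in
theorem isLocalHom_toLoc : IsLocalHom (toLoc F M) := by
  constructor
  intro a ha
  by_contra hnu
  have h1 : a ∈ maximalIdeal O := (mem_maximalIdeal a).mpr hnu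
  rw [← hM, Ideal.mem_comap] at h1
  have h2 : toLoc F M a ∈ maximalIdeal (Localization.AtPrime M) := by
    rw [toLoc_apply]
    exact (IsLocalization.AtPrime.to_map_mem_maximal_iff (Localization.AtPrime M) M _).mpr h1
  exact (mem_maximalIdeal _).mp h2 ha

omit [IsLocalRing O] in
theorem toLoc_algebraMap (c : k) :
    toLoc F M (algebraMap k O c) = algebraMap F (Localization.AtPrime M) (algebraMap k F c) := by
  have e : (algebraMap k F c) ⊗ₜ[k] (1 : O) = (1 : F) ⊗ₜ[k] (algebraMap k O c) := by
    rw [Algebra.algebraMap_eq_smul_one, Algebra.algebraMap_eq_smul_one (A := O),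
      TensorProduct.smul_tmul]
  rw [toLoc_apply, IsScalarTower.algebraMap_apply F (F ⊗[k] O) (Localization.AtPrime M),
    Algebra.TensorProduct.algebraMap_apply, ← e]
  rfl

end Prime

variable {k O k' K}

/-- a field containing compatibly the residue fields of `(k' ⊗ O)_{M'}` and `(K ⊗ O)_N`. -/
theorem exists_big_field (M' : Ideal (k' ⊗[k] O)) [M'.IsPrime]
    (hM' : M'.comap (Algebra.TensorProduct.includeRight (R := k) (A := k') (B := O)).toRingHom =
      maximalIdeal O)
    (N : Ideal (K ⊗[k] O)) [N.IsPrime]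
    (hN : N.comap (Algebra.TensorProduct.includeRight (R := k) (A := K) (B := O)).toRingHom =
      maximalIdeal O) :
    ∃ (Lb : Type u) (_ : Field Lb) (a₁ : Localization.AtPrime M' →+* Lb)
      (a₂ : Localization.AtPrime N →+* Lb),
      (∀ a : O, a₁ (toLoc k' M' a) = a₂ (toLoc K N a)) ∧
      RingHom.ker a₁ = maximalIdeal (Localization.AtPrime M') ∧
      RingHom.ker a₂ = maximalIdeal (Localization.AtPrime N) := by
  haveI h1 : IsLocalHom (toLoc k' M') := isLocalHom_toLoc k' M' hM'
  haveI h2 : IsLocalHom (toLoc K N) := isLocalHom_toLoc K N hN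
  letI : Algebra (ResidueField O) (ResidueField (Localization.AtPrime M')) :=
    (ResidueField.map (toLoc k' M')).toAlgebra
  letI : Algebra (ResidueField O) (ResidueField (Localization.AtPrime N)) :=
    (ResidueField.map (toLoc K N)).toAlgebra
  obtain ⟨𝔪, h𝔪⟩ := Ideal.exists_maximal
    (ResidueField (Localization.AtPrime M') ⊗[ResidueField O]
      ResidueField (Localization.AtPrime N))
  letI : Field ((ResidueField (Localization.AtPrime M') ⊗[ResidueField O]
      ResidueField (Localization.AtPrime N)) ⧸ 𝔪) := Ideal.Quotient.field 𝔪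
  let b₁ : ResidueField (Localization.AtPrime M') →+*
      (ResidueField (Localization.AtPrime M') ⊗[ResidueField O]
      ResidueField (Localization.AtPrime N)) ⧸ 𝔪 :=
    (Ideal.Quotient.mk 𝔪).comp (Algebra.TensorProduct.includeLeft (R := ResidueField O)
      (S := ResidueField O) (A := ResidueField (Localization.AtPrime M'))
      (B := ResidueField (Localization.AtPrime N))).toRingHom
  let b₂ : ResidueField (Localization.AtPrime N) →+*
      (ResidueField (Localization.AtPrime M') ⊗[ResidueField O]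
      ResidueField (Localization.AtPrime N)) ⧸ 𝔪 :=
    (Ideal.Quotient.mk 𝔪).comp (Algebra.TensorProduct.includeRight (R := ResidueField O)
      (A := ResidueField (Localization.AtPrime M'))
      (B := ResidueField (Localization.AtPrime N))).toRingHom
  refine ⟨_, inferInstance, b₁.comp (residue _), b₂.comp (residue _), ?_, ?_, ?_⟩
  · intro a
    simp only [RingHom.comp_apply, b₁, b₂]
    congr 1
    change (ResidueField.map (toLoc k' M') (residue O a)) ⊗ₜ[ResidueField O] (1 : _) =
      (1 : _) ⊗ₜ[ResidueField O] (ResidueField.map (toLoc K N) (residue O a))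
    have e1 : ResidueField.map (toLoc k' M') (residue O a) =
        (residue O a) • (1 : ResidueField (Localization.AtPrime M')) := by
      rw [Algebra.smul_def, mul_one]
      rfl
    have e2 : ResidueField.map (toLoc K N) (residue O a) =
        (residue O a) • (1 : ResidueField (Localization.AtPrime N)) := by
      rw [Algebra.smul_def, mul_one]
      rfl
    rw [e1, e2, TensorProduct.smul_tmul]
  · ext y
    simp only [RingHom.mem_ker, RingHom.comp_apply]
    rw [map_eq_zero_iff b₁ b₁.injective, ← RingHom.mem_ker, IsLocalRing.ker_residue]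
  · ext y
    simp only [RingHom.mem_ker, RingHom.comp_apply]
    rw [map_eq_zero_iff b₂ b₂.injective, ← RingHom.mem_ker, IsLocalRing.ker_residue]

/-- **Common extension.** -/
theorem exists_common_extension (M' : Ideal (k' ⊗[k] O)) [M'.IsPrime]
    (hM' : M'.comap (Algebra.TensorProduct.includeRight (R := k) (A := k') (B := O)).toRingHom =
      maximalIdeal O)
    (N : Ideal (K ⊗[k] O)) [N.IsPrime]
    (hN : N.comap (Algebra.TensorProduct.includeRight (R := k) (A := K) (B := O)).toRingHom =
      maximalIdeal O) :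
    ∃ (L : Type u) (_ : Field L) (_ : Algebra k' L)
      (P : Ideal (L ⊗[k'] Localization.AtPrime M')) (_ : P.IsPrime),
      ((⊤ : IntermediateField k K).FG → (⊤ : IntermediateField k' L).FG) ∧
      P.comap (Algebra.TensorProduct.includeRight (R := k') (A := L)
        (B := Localization.AtPrime M')).toRingHom = maximalIdeal (Localization.AtPrime M') ∧
      ∃ θ : Localization.AtPrime N →+* Localization.AtPrime P,
        @RingHom.Flat (Localization.AtPrime N) (Localization.AtPrime P) _ _ θ ∧
          IsLocalHom θ := by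
  obtain ⟨Lb, _, a₁, a₂, hcompat, hk1, hk2⟩ := exists_big_field M' hM' N hN
  letI algk'Lb : Algebra k' Lb := (a₁.comp (algebraMap k' (Localization.AtPrime M'))).toAlgebra
  letI algKLb : Algebra K Lb := (a₂.comp (algebraMap K (Localization.AtPrime N))).toAlgebra
  letI algkLb : Algebra k Lb := ((algebraMap k' Lb).comp (algebraMap k k')).toAlgebra
  haveI : IsScalarTower k k' Lb := .of_algebraMap_eq' rfl
  haveI : IsScalarTower k K Lb := .of_algebraMap_eq (fun c => by
    change a₁ (algebraMap k' _ (algebraMap k k' c)) = a₂ (algebraMap K _ (algebraMap k K c))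
    rw [← toLoc_algebraMap, ← toLoc_algebraMap, hcompat])
  let τ : k' ⊗[k] K →ₐ[k'] Lb :=
    Algebra.TensorProduct.lift (Algebra.ofId k' Lb) (IsScalarTower.toAlgHom k K Lb)
      (fun _ _ => Commute.all _ _)
  let 𝔭 : Ideal (k' ⊗[k] K) := RingHom.ker τ.toRingHom
  haveI : 𝔭.IsPrime := RingHom.ker_isPrime _
  let ι : 𝔭.ResidueField →ₐ[k'] Lb := Ideal.ResidueField.liftₐ 𝔭 τ le_rfl (by
    intro r hr
    exact (IsUnit.mem_submonoid_iff _).mpr (Ne.isUnit hr))
  have hι : ∀ r : k' ⊗[k] K, ι (algebraMap (k' ⊗[k] K) 𝔭.ResidueField r) = τ r :=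
    fun r => Ideal.ResidueField.liftₐ_algebraMap 𝔭 τ _ _ r
  -- algebra structures on `L = κ(𝔭)`
  letI algKL : Algebra K 𝔭.ResidueField :=
    ((algebraMap (k' ⊗[k] K) 𝔭.ResidueField).comp
      (Algebra.TensorProduct.includeRight (R := k) (A := k') (B := K)).toRingHom).toAlgebra
  have hKL : ∀ c : K, algebraMap K 𝔭.ResidueField c =
      algebraMap (k' ⊗[k] K) 𝔭.ResidueField (1 ⊗ₜ c) := fun c => rfl
  haveI tow1 : IsScalarTower k k' 𝔭.ResidueField := .of_algebraMap_eq (fun c => by
    rw [IsScalarTower.algebraMap_apply k (k' ⊗[k] K) 𝔭.ResidueField,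
      IsScalarTower.algebraMap_apply k' (k' ⊗[k] K) 𝔭.ResidueField,
      ← IsScalarTower.algebraMap_apply k k' (k' ⊗[k] K)])
  haveI tow2 : IsScalarTower k K 𝔭.ResidueField := .of_algebraMap_eq (fun c => by
    rw [hKL, IsScalarTower.algebraMap_apply k (k' ⊗[k] K) 𝔭.ResidueField]
    congr 1
    rw [Algebra.TensorProduct.algebraMap_apply, Algebra.algebraMap_eq_smul_one,
      Algebra.algebraMap_eq_smul_one (A := K), TensorProduct.smul_tmul])
  -- the prime `P`
  let a₁' : Localization.AtPrime M' →ₐ[k'] Lb := { a₁ with commutes' := fun c => rfl }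
  let ψ : 𝔭.ResidueField ⊗[k'] Localization.AtPrime M' →ₐ[k'] Lb :=
    Algebra.TensorProduct.productMap ι a₁'
  have hψ : ∀ (l : 𝔭.ResidueField) (b : Localization.AtPrime M'), ψ (l ⊗ₜ b) = ι l * a₁ b :=
    fun l b => Algebra.TensorProduct.productMap_apply_tmul _ _ _ _
  let P : Ideal (𝔭.ResidueField ⊗[k'] Localization.AtPrime M') := RingHom.ker ψ.toRingHom
  haveI hPprime : P.IsPrime := RingHom.ker_isPrime _
  refine ⟨𝔭.ResidueField, inferInstance, inferInstance, P, hPprime, ?_, ?_, ?_⟩
  · intro hfg
    rw [IntermediateField.fg_top_iff] at hfg ⊢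
    haveI := hfg
    exact Algebra.EssFiniteType.comp k' (k' ⊗[k] K) 𝔭.ResidueField
  · ext b
    rw [Ideal.mem_comap, ← hk1]
    change ψ (1 ⊗ₜ b) = 0 ↔ a₁ b = 0
    rw [hψ, map_one, one_mul]
  · -- the map `K ⊗ O → L ⊗_{k'} (k' ⊗ O)_{M'}`
    let g₁ : K ⊗[k] O →ₐ[k] 𝔭.ResidueField ⊗[k] O :=
      Algebra.TensorProduct.map (IsScalarTower.toAlgHom k K 𝔭.ResidueField) (AlgHom.id k O)
    let g₂ : 𝔭.ResidueField ⊗[k] O ≃ₐ[k'] 𝔭.ResidueField ⊗[k'] (k' ⊗[k] O) :=
      (Algebra.TensorProduct.cancelBaseChange k k' k' 𝔭.ResidueField O).symm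
    let g₃ : 𝔭.ResidueField ⊗[k'] (k' ⊗[k] O) →ₐ[𝔭.ResidueField]
        𝔭.ResidueField ⊗[k'] Localization.AtPrime M' :=
      Algebra.TensorProduct.map (AlgHom.id 𝔭.ResidueField 𝔭.ResidueField)
        (IsScalarTower.toAlgHom k' (k' ⊗[k] O) (Localization.AtPrime M'))
    have hg₁ : g₁.toRingHom.Flat := by
      refine RingHom.Flat.tensorProductMap (S := k) (R := k) ?_ ?_
      · exact RingHom.Flat.of_isField (Field.toIsField K) _
      · exact RingHom.Flat.id O
    have hg₂ : (g₂ : 𝔭.ResidueField ⊗[k] O →+* 𝔭.ResidueField ⊗[k'] (k' ⊗[k] O)).Flat :=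
      RingHom.Flat.of_bijective g₂.bijective
    have hg₃ : g₃.toRingHom.Flat := by
      refine RingHom.Flat.tensorProductMap (S := 𝔭.ResidueField) (R := k') ?_ ?_
      · exact RingHom.Flat.id _
      · change (algebraMap (k' ⊗[k] O) (Localization.AtPrime M')).Flat
        rw [RingHom.flat_algebraMap_iff]
        exact IsLocalization.flat _ M'.primeCompl
    let θ₀ : K ⊗[k] O →+* 𝔭.ResidueField ⊗[k'] Localization.AtPrime M' :=
      g₃.toRingHom.comp ((g₂ : 𝔭.ResidueField ⊗[k] O →+*
        𝔭.ResidueField ⊗[k'] (k' ⊗[k] O)).comp g₁.toRingHom)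
    have hθ₀flat : θ₀.Flat := (hg₁.comp hg₂).comp hg₃
    have hθ₀ : ∀ (c : K) (a : O), θ₀ (c ⊗ₜ a) = (algebraMap K 𝔭.ResidueField c) ⊗ₜ toLoc k' M' a := by
      intro c a
      simp only [θ₀, g₁, g₂, g₃, RingHom.comp_apply, AlgHom.toRingHom_eq_coe, RingHom.coe_coe,
        Algebra.TensorProduct.map_tmul, AlgHom.coe_id, id_eq, IsScalarTower.coe_toAlgHom']
      rw [Algebra.TensorProduct.cancelBaseChange_symm_tmul, Algebra.TensorProduct.map_tmul]
      rfl
    have hψθ : ∀ r : K ⊗[k] O, ψ (θ₀ r) = a₂ (algebraMap (K ⊗[k] O) (Localization.AtPrime N) r) := by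
      intro r
      induction r using TensorProduct.induction_on with
      | zero => simp
      | add r s hr hs => simp only [map_add, hr, hs]
      | tmul c a =>
        rw [hθ₀, hψ, hKL, hι]
        have e1 : (c ⊗ₜ[k] a : K ⊗[k] O) = (c ⊗ₜ 1) * (1 ⊗ₜ a) := by
          rw [Algebra.TensorProduct.tmul_mul_tmul, mul_one, one_mul]
        rw [e1, map_mul, map_mul, ← toLoc_apply, ← hcompat]
        congr 1
        simp only [τ, Algebra.TensorProduct.lift_tmul, map_one, one_mul]
        change a₂ (algebraMap K (Localization.AtPrime N) c) = _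
        rw [IsScalarTower.algebraMap_apply K (K ⊗[k] O) (Localization.AtPrime N),
          Algebra.TensorProduct.algebraMap_apply]
        rfl
    have hcomap : N = P.comap θ₀ := by
      ext r
      rw [Ideal.mem_comap]
      change _ ↔ ψ (θ₀ r) = 0
      rw [hψθ, ← RingHom.mem_ker, hk2]
      exact (IsLocalization.AtPrime.to_map_mem_maximal_iff (Localization.AtPrime N) N r).symm
    exact ⟨Localization.localRingHom N P θ₀ hcomap, RingHom.Flat.localRingHom hθ₀flat P N hcomap,
      Localization.isLocalHom_localRingHom N P θ₀ hcomap⟩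

end Groth.Agent.Lib.Helper62.CommonExt
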