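import Mathlib
import Groth.Prelude.Def_Curv2
import Groth.Agent.Lib.Helper62.BCStalk2
import Groth.Agent.Lib.Helper62.CommonExt

/-! Common extension trick, geometric form (helper62). -/

set_option autoImplicit false
set_option linter.style.haveILetI false
universe u
open CategoryTheory CategoryTheory.Limits AlgebraicGeometry

namespace Groth.Agent.Lib.Helper62.CommonPoint

open TensorProduct IsLocalRing Groth.Agent.Lib.Helper62

/-- localizations at corresponding primes of isomorphic rings are isomorphic. -/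
theorem nonempty_ringEquiv_localization_comap {R₁ R₂ : Type u} [CommRing R₁] [CommRing R₂]
    (E : R₁ ≃+* R₂) (P : Ideal R₂) [P.IsPrime] :
    Nonempty (Localization.AtPrime (P.comap (E : R₁ →+* R₂)) ≃+* Localization.AtPrime P) := by
  exact ⟨IsLocalization.ringEquivOfRingEquiv (M := (P.comap (E : R₁ →+* R₂)).primeCompl)
      (T := P.primeCompl) (Localization.AtPrime _) (Localization.AtPrime P) E (by
      ext b
      simp only [Submonoid.mem_map]
      constructor
      · rintro ⟨a, ha, rfl⟩
        exact ha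
      · intro hb
        exact ⟨E.symm b, by simpa [Ideal.primeCompl, Ideal.mem_comap] using hb, by simp⟩)⟩

theorem isLocalHom_toRingHom {R S : Type*} [CommRing R] [CommRing S] (e : R ≃+* S) :
    IsLocalHom e.toRingHom :=
  ⟨fun a ha => by
    have := ha.map e.symm.toRingHom
    simpa using this⟩

/-- Geometric data of the common extension trick: for `x' ∈ X_{k'}` and `y ∈ X_K` over the same
point of `X`, there are an extension `L/k'`, a point `z` of `(X_{k'})_L` over `x'` and a flat local
homomorphism `O_{X_K,y} → O_{(X_{k'})_L,z}`. -/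
theorem exists_common_point (k : Type u) [Field k] (X : Scheme.{u})
    [X.Over (Spec (CommRingCat.of k))] (k' : Type u) [Field k'] [Algebra k k']
    (K : Type u) [Field K] [Algebra k K]
    (x' : ↥(Curv2.bc k X k')) (y : ↥(Curv2.bc k X K))
    (hy : Curv2.bcFst k X K y = Curv2.bcFst k X k' x') :
    ∃ (L : Type u) (_ : Field L) (_ : Algebra k' L)
      (z : BCStalk.bc (Curv2.bcSnd k X k') L),
      ((⊤ : IntermediateField k K).FG → (⊤ : IntermediateField k' L).FG) ∧
      (BCStalk.bcπ (Curv2.bcSnd k X k') L).base z = x' ∧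
      ∃ θ : (Curv2.bc k X K).presheaf.stalk y →+*
          (BCStalk.bc (Curv2.bcSnd k X k') L).presheaf.stalk z,
        @RingHom.Flat ((Curv2.bc k X K).presheaf.stalk y)
          ((BCStalk.bc (Curv2.bcSnd k X k') L).presheaf.stalk z) _ _ θ ∧ IsLocalHom θ := by
  letI := Curv2.stalkAlgebra k X (Curv2.bcFst k X k' x')
  letI algS : Algebra k' ((Curv2.bc k X k').presheaf.stalk x') :=
    (BCStalk.stalkStr (Curv2.bcSnd k X k') x').toAlgebra
  obtain ⟨M', hM'prime, hM', ⟨e'⟩⟩ := BCStalk.exists_prime_of_point_algEquiv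
    (X ↘ Spec (CommRingCat.of k)) k' x' _ rfl rfl rfl
  obtain ⟨N, hNprime, hN, ⟨eN⟩⟩ := BCStalk.exists_prime_of_point
    (X ↘ Spec (CommRingCat.of k)) K y _ hy rfl
  obtain ⟨L, _, _, P, hP, hLfg, hPm, θ, hθflat, hθloc⟩ :=
    CommonExt.exists_common_extension M' hM' N hN
  let E : L ⊗[k'] ((Curv2.bc k X k').presheaf.stalk x') ≃ₐ[L] L ⊗[k'] Localization.AtPrime M' :=
    Algebra.TensorProduct.congr AlgEquiv.refl e'
  let P' : Ideal (L ⊗[k'] ((Curv2.bc k X k').presheaf.stalk x')) :=
    P.comap (E.toRingEquiv : _ →+* _)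
  haveI : P'.IsPrime := Ideal.comap_isPrime _ _
  have hP' : P'.comap (Algebra.TensorProduct.includeRight (R := k') (A := L)
      (B := (Curv2.bc k X k').presheaf.stalk x')).toRingHom =
      maximalIdeal ((Curv2.bc k X k').presheaf.stalk x') := by
    ext a
    simp only [Ideal.mem_comap, P']
    change E (1 ⊗ₜ a) ∈ P ↔ _
    have : E (1 ⊗ₜ a) = (Algebra.TensorProduct.includeRight (R := k') (A := L)
        (B := Localization.AtPrime M')).toRingHom (e' a) := by
      simp [E]
    rw [this, ← Ideal.mem_comap, hPm, mem_maximalIdeal, mem_maximalIdeal, mem_nonunits_iff,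
      mem_nonunits_iff, not_iff_not]
    exact ⟨fun h => by simpa using h.map e'.symm, fun h => h.map e'⟩
  obtain ⟨z, hz, ⟨ez⟩⟩ := BCStalk.exists_point_of_prime (Curv2.bcSnd k X k') L x' rfl P' hP'
  obtain ⟨eP⟩ := nonempty_ringEquiv_localization_comap E.toRingEquiv P
  refine ⟨L, inferInstance, inferInstance, z, hLfg, hz, ?_⟩
  let θ' : (Curv2.bc k X K).presheaf.stalk y →+*
      (BCStalk.bc (Curv2.bcSnd k X k') L).presheaf.stalk z :=
    (ez.trans eP).symm.toRingHom.comp (θ.comp eN.toRingHom)
  refine ⟨θ', ?_, ?_⟩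
  · exact ((RingHom.Flat.of_bijective eN.bijective).comp hθflat).comp
      (RingHom.Flat.of_bijective (ez.trans eP).symm.bijective)
  · haveI : IsLocalHom eN.toRingHom := isLocalHom_toRingHom _
    haveI : IsLocalHom (ez.trans eP).symm.toRingHom := isLocalHom_toRingHom _
    haveI := hθloc
    haveI : IsLocalHom (θ.comp eN.toRingHom) := RingHom.isLocalHom_comp _ _
    exact RingHom.isLocalHom_comp _ _

end Groth.Agent.Lib.Helper62.CommonPoint
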