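import Groth.Agent.Lib.Helper62.JacMinor

/-! Elementary standard elements from arbitrary rows and columns (helper62). -/

set_option linter.style.haveILetI false

universe u

open Function MvPolynomial

noncomputable section

namespace Groth.Agent.Lib.Helper62.ElemStdPerm

/-- two embeddings into a finite type differ by a permutation of the target. -/
theorem exists_perm_extend {α : Type*} [Fintype α] [DecidableEq α] {ι : Type*} (u v : ι ↪ α) :
    ∃ σ : Equiv.Perm α, ∀ j, σ (u j) = v j := by
  classical
  let e : {x // x ∈ Set.range u} ≃ {x // x ∈ Set.range v} :=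
    (Equiv.ofInjective u u.injective).symm.trans (Equiv.ofInjective v v.injective)
  refine ⟨e.extendSubtype, fun j => ?_⟩
  rw [Equiv.extendSubtype_apply_of_mem e (u j) ⟨j, rfl⟩]
  have : (Equiv.ofInjective u u.injective).symm ⟨u j, ⟨j, rfl⟩⟩ = j :=
    Equiv.ofInjective_symm_apply u.injective j
  simp only [e, Equiv.trans_apply, this, Equiv.ofInjective_apply]

section

variable {R A : Type u} [CommRing R] [CommRing A] [Algebra R A] {n m c : ℕ}
    (f : Fin m → MvPolynomial (Fin n) R) (φ : MvPolynomial (Fin n) R →ₐ[R] A)
    (hφ : Surjective φ) (hker : RingHom.ker φ.toRingHom = Ideal.span (Set.range f))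
    (rows : Fin c ↪ Fin m) (cols : Fin c ↪ Fin n)

include hφ hker in
/-- an element which is a multiple of some Jacobian minor and kills the other relations is
elementary standard (after permuting variables and relations); version recording the sizes. -/
theorem exists_marked_of_rows_cols (a a' : A)
    (haa : a = a' * φ (Smoothing.jacobianMinor f rows cols))
    (hkill : ∀ a₁ : MvPolynomial (Fin n) R, φ a₁ = a → ∀ ℓ : Fin m,
        a₁ * f ℓ ∈ Ideal.span (Set.range (f ∘ rows)) ⊔ Ideal.span (Set.range f) ^ 2) :
    ∃ P : Smoothing.MarkedPresentation R A, P.n = n ∧ P.c = c ∧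
      (∃ a' : A, a = a' * P.hom (Smoothing.jacobianMinor P.rel (Fin.castLE P.hcm)
        (Fin.castLE P.hcn))) ∧ Smoothing.KillsTail P a := by
  classical
  have hcn : c ≤ n := by simpa using Fintype.card_le_of_embedding cols
  have hcm : c ≤ m := by simpa using Fintype.card_le_of_embedding rows
  obtain ⟨σ, hσ⟩ := exists_perm_extend (Fin.castLEEmb hcn) cols
  obtain ⟨τ, hτ⟩ := exists_perm_extend (Fin.castLEEmb hcm) rows
  have hσ' : ∀ j, σ (Fin.castLE hcn j) = cols j := hσ
  have hτ' : ∀ j, τ (Fin.castLE hcm j) = rows j := hτ
  let r : MvPolynomial (Fin n) R →ₐ[R] MvPolynomial (Fin n) R := rename σ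
  let rs : MvPolynomial (Fin n) R →ₐ[R] MvPolynomial (Fin n) R := rename σ.symm
  have hr_rs : ∀ p, r (rs p) = p := fun p => by
    simp only [r, rs, rename_rename, Equiv.self_comp_symm, rename_id_apply]
  have hrs_r : ∀ p, rs (r p) = p := fun p => by
    simp only [r, rs, rename_rename, Equiv.symm_comp_self, rename_id_apply]
  -- transfer of ideal membership
  have hmap : ∀ (S : Set (MvPolynomial (Fin n) R)) (p : MvPolynomial (Fin n) R),
      p ∈ Ideal.span S → rs p ∈ Ideal.span (rs '' S) := by
    intro S p hp
    have := Ideal.mem_map_of_mem rs.toRingHom hp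
    rwa [Ideal.map_span] at this
  have hmap' : ∀ (S : Set (MvPolynomial (Fin n) R)) (p : MvPolynomial (Fin n) R),
      p ∈ Ideal.span S → r p ∈ Ideal.span (r '' S) := by
    intro S p hp
    have := Ideal.mem_map_of_mem r.toRingHom hp
    rwa [Ideal.map_span] at this
  have hrange : rs '' Set.range f = Set.range (fun j => rs (f (τ j))) := by
    ext x
    constructor
    · rintro ⟨_, ⟨j, rfl⟩, rfl⟩
      exact ⟨τ.symm j, by simp⟩
    · rintro ⟨j, rfl⟩
      exact ⟨f (τ j), ⟨τ j, rfl⟩, rfl⟩
  let P' : Smoothing.MarkedPresentation R A :=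
    { n := n, m := m, c := c, hcn := hcn, hcm := hcm
      rel := fun j => rs (f (τ j))
      hom := φ.comp r
      surj := fun x => by
        obtain ⟨p, rfl⟩ := hφ x
        exact ⟨rs p, by simp only [AlgHom.comp_apply, hr_rs]⟩
      ker_eq := by
        ext p
        rw [RingHom.mem_ker, ← hrange]
        change φ (r p) = 0 ↔ _
        constructor
        · intro h
          have h1 : r p ∈ Ideal.span (Set.range f) := by
            rw [← hker]
            exact h
          have h2 := hmap _ _ h1
          rwa [hrs_r] at h2
        · intro h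
          have h2 := hmap' _ _ h
          rw [Set.image_image] at h2
          simp only [hr_rs, Set.image_id'] at h2
          rw [← hker] at h2
          exact h2 }
  refine ⟨P', rfl, rfl, ⟨a', ?_⟩, ?_⟩
  · -- the minor
    rw [haa]
    congr 1
    change φ _ = φ (r _)
    congr 1
    have hent : ∀ j k : Fin c, pderiv (Fin.castLE hcn k) (rs (f (τ (Fin.castLE hcm j)))) =
        rs (pderiv (cols k) (f (rows j))) := by
      intro j k
      rw [hτ']
      have := pderiv_rename (R := R) σ.symm.injective (cols k) (f (rows j))
      rw [← hσ' k, Equiv.symm_apply_apply] at this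
      rw [hσ' k] at this
      exact this
    unfold Smoothing.jacobianMinor
    have h1 : (Matrix.of fun j k : Fin c =>
        pderiv (Fin.castLE hcn k) (P'.rel (Fin.castLE hcm j))) =
        rs.toRingHom.mapMatrix (Matrix.of fun j k : Fin c => pderiv (cols k) (f (rows j))) := by
      exact Matrix.ext fun j k => hent j k
    rw [h1, ← RingHom.map_det]
    exact (hr_rs _).symm
  · -- kills tail
    intro a'' ha'' j _
    have h1 := hkill (r a'') ha'' (τ j)
    have h2 : a'' * P'.rel j = rs (r a'' * f (τ j)) := by
      rw [map_mul, hrs_r]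
    rw [h2]
    have h3 := Ideal.mem_map_of_mem rs.toRingHom h1
    rw [Ideal.map_sup, Ideal.map_pow, Ideal.map_span, Ideal.map_span] at h3
    have e1 : (rs.toRingHom '' Set.range (f ∘ rows)) =
        P'.rel '' {j' : Fin P'.m | (j' : ℕ) < P'.c} := by
      ext x
      constructor
      · rintro ⟨_, ⟨j, rfl⟩, rfl⟩
        refine ⟨Fin.castLE hcm j, ?_, ?_⟩
        · exact j.2
        · change rs (f (τ (Fin.castLE hcm j))) = _
          rw [hτ']
          rfl
      · rintro ⟨j', hj', rfl⟩
        refine ⟨f (rows ⟨j', hj'⟩), ⟨⟨j', hj'⟩, rfl⟩, ?_⟩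
        change _ = rs (f (τ j'))
        rw [← hτ']
        rfl
    have e2 : (rs.toRingHom '' Set.range f) = Set.range P'.rel := hrange
    rw [e1, e2] at h3
    exact h3

include hφ hker in
/-- an element which is a multiple of some Jacobian minor and kills the other relations is
elementary standard (after permuting variables and relations). -/
theorem isElementaryStandard_of_rows_cols (a a' : A)
    (haa : a = a' * φ (Smoothing.jacobianMinor f rows cols))
    (hkill : ∀ a₁ : MvPolynomial (Fin n) R, φ a₁ = a → ∀ ℓ : Fin m,
        a₁ * f ℓ ∈ Ideal.span (Set.range (f ∘ rows)) ⊔ Ideal.span (Set.range f) ^ 2) :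
    Smoothing.IsElementaryStandard R A a := by
  obtain ⟨P, -, -, h1, h2⟩ := exists_marked_of_rows_cols f φ hφ hker rows cols a a' haa hkill
  exact ⟨P, h1, h2⟩

end

end Groth.Agent.Lib.Helper62.ElemStdPerm

end
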