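import Mathlib
import Groth.Agent.Lib.Helper62.BCStalk

/-! Flat base change for sections over a quasi-compact quasi-separated open (helper62). -/

set_option autoImplicit false
set_option linter.style.haveILetI false

universe u

open CategoryTheory CategoryTheory.Limits AlgebraicGeometry TensorProduct

noncomputable section

namespace Groth.Agent.Lib.Helper62.BCGlobal

open Groth.Agent.Lib.Helper62.BCStalk

variable {k : Type u} [CommRing k] {X : Scheme.{u}} {f : X ⟶ Spec (CommRingCat.of k)}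
  (K : Type u) [CommRing K] [Algebra k K]

theorem isPushout_sections_of_qcqs [Flat (Spec.map (CommRingCat.ofHom (algebraMap k K)))]
    {U : X.Opens} (hU : IsCompact (U : Set X)) (hU' : IsQuasiSeparated (U : Set X)) :
    IsPushout (CommRingCat.ofHom (toSection f U)) (CommRingCat.ofHom (algebraMap k K))
      ((bcπ f K).appLE U ((bcπ f K) ⁻¹ᵁ U) le_rfl)
      (CommRingCat.ofHom (toSectionK f K ((bcπ f K) ⁻¹ᵁ U))) := by
  have H : IsPullback (bcπ f K) (bcσ f K) f (Spec.map (CommRingCat.ofHom (algebraMap k K))) :=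
    IsPullback.of_hasPullback _ _
  have hUY : (bcπ f K) ⁻¹ᵁ U = (bcπ f K) ⁻¹ᵁ U ⊓ (bcσ f K) ⁻¹ᵁ ⊤ := by simp
  have h1 := isIso_pushoutSection_of_isQuasiSeparated_of_flat_right H (US := ⊤) (UT := ⊤)
    (UX := U) le_top le_top hUY (isAffineOpen_top _) (isAffineOpen_top _) hU hU'
  rw [isIso_pushoutSection_iff] at h1
  refine IsPushout.of_iso h1 (Scheme.ΓSpecIso (CommRingCat.of k)) (Iso.refl _)
    (Scheme.ΓSpecIso (CommRingCat.of K)) (Iso.refl _) ?_ ?_ ?_ ?_
  · simp [toSection]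
  · exact Scheme.ΓSpecIso_naturality (CommRingCat.ofHom (algebraMap k K))
  · simp
  · simp [toSectionK]

/-- sections of a flat base change over the preimage of a qcqs open are a tensor product. -/
theorem exists_ringEquiv_sections_of_qcqs
    [Flat (Spec.map (CommRingCat.ofHom (algebraMap k K)))]
    {U : X.Opens} (hU : IsCompact (U : Set X)) (hU' : IsQuasiSeparated (U : Set X)) :
    letI := (toSection f U).toAlgebra
    ∃ φ : K ⊗[k] Γ(X, U) ≃+* Γ(bc f K, (bcπ f K) ⁻¹ᵁ U),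
      (∀ a : Γ(X, U), φ (1 ⊗ₜ a) = ((bcπ f K).appLE U ((bcπ f K) ⁻¹ᵁ U) le_rfl).hom a) ∧
      (∀ c : K, φ (c ⊗ₜ 1) = toSectionK f K ((bcπ f K) ⁻¹ᵁ U) c) := by
  have h := isPushout_sections_of_qcqs (f := f) K hU hU'
  letI : Algebra k Γ(X, U) := (toSection f U).toAlgebra
  letI : Algebra Γ(X, U) Γ(bc f K, (bcπ f K) ⁻¹ᵁ U) :=
    ((bcπ f K).appLE U ((bcπ f K) ⁻¹ᵁ U) le_rfl).hom.toAlgebra
  letI : Algebra K Γ(bc f K, (bcπ f K) ⁻¹ᵁ U) := (toSectionK f K ((bcπ f K) ⁻¹ᵁ U)).toAlgebra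
  letI : Algebra k Γ(bc f K, (bcπ f K) ⁻¹ᵁ U) :=
    ((algebraMap Γ(X, U) Γ(bc f K, (bcπ f K) ⁻¹ᵁ U)).comp (algebraMap k Γ(X, U))).toAlgebra
  haveI : IsScalarTower k Γ(X, U) Γ(bc f K, (bcπ f K) ⁻¹ᵁ U) :=
    IsScalarTower.of_algebraMap_eq fun _ => rfl
  haveI : IsScalarTower k K Γ(bc f K, (bcπ f K) ⁻¹ᵁ U) := by
    refine IsScalarTower.of_algebraMap_eq fun c => ?_
    have := congr($(h.w).hom c)
    exact this
  have h2 : Algebra.IsPushout k Γ(X, U) K Γ(bc f K, (bcπ f K) ⁻¹ᵁ U) :=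
    CommRingCat.isPushout_iff_isPushout.mp h
  have h3 : Algebra.IsPushout k K Γ(X, U) Γ(bc f K, (bcπ f K) ⁻¹ᵁ U) := h2.symm
  refine ⟨(Algebra.IsPushout.equiv k K Γ(X, U) Γ(bc f K, (bcπ f K) ⁻¹ᵁ U)).toRingEquiv, ?_, ?_⟩
  · intro a
    change Algebra.IsPushout.equiv k K Γ(X, U) Γ(bc f K, (bcπ f K) ⁻¹ᵁ U) (1 ⊗ₜ a) = _
    rw [Algebra.IsPushout.equiv_tmul, map_one, one_mul]
    rfl
  · intro c
    change Algebra.IsPushout.equiv k K Γ(X, U) Γ(bc f K, (bcπ f K) ⁻¹ᵁ U) (c ⊗ₜ 1) = _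
    rw [Algebra.IsPushout.equiv_tmul, map_one, mul_one]
    rfl

/-- a field extension gives a flat morphism of spectra. -/
theorem flat_SpecMap_field (k K : Type u) [Field k] [Field K] [Algebra k K] :
    Flat (Spec.map (CommRingCat.ofHom (algebraMap k K))) := by
  have hff : (CommRingCat.ofHom (algebraMap k K)).hom.FaithfullyFlat := by
    rw [CommRingCat.hom_ofHom, RingHom.faithfullyFlat_algebraMap_iff]
    infer_instance
  exact ((flat_and_surjective_SpecMap_iff _).mpr hff).1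

end Groth.Agent.Lib.Helper62.BCGlobal
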