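import Groth.Prelude.Def_CotT

/-! Basic facts on the three-term complex of a presentation (helper62). -/

universe u v w t m

open TensorProduct

namespace Groth.Agent.Lib.Helper62.CotTBasic

variable {A : Type u} {B : Type v} {ι : Type w} {σ : Type t}
variable [CommRing A] [CommRing B] [Algebra A B]
variable (P : Algebra.Presentation A B ι σ)

/-- every element of `L1 = B ⊗ F` is of the form `1 ⊗ f`. -/
lemma exists_one_tmul (x : CotT.L1 P) : ∃ f : CotT.relMod P, x = (1 : B) ⊗ₜ[P.toExtension.Ring] f := by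
  induction x using TensorProduct.induction_on with
  | zero => exact ⟨0, by simp⟩
  | tmul b f =>
    obtain ⟨r, rfl⟩ := P.toExtension.algebraMap_surjective b
    refine ⟨r • f, ?_⟩
    rw [TensorProduct.tmul_smul, TensorProduct.smul_tmul', Algebra.smul_def, mul_one]
  | add x y hx hy =>
    obtain ⟨f, rfl⟩ := hx
    obtain ⟨g, rfl⟩ := hy
    exact ⟨f + g, by rw [TensorProduct.tmul_add]⟩

lemma toCot_one_tmul (f : CotT.relMod P) :
    CotT.toCot P ((1 : B) ⊗ₜ f) = Algebra.Extension.Cotangent.mk (CotT.jker P f) := by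
  rw [CotT.toCot_tmul, one_smul]

lemma toCot_surjective : Function.Surjective (CotT.toCot P) := by
  intro c
  obtain ⟨x, rfl⟩ := Algebra.Extension.Cotangent.mk_surjective c
  have hx : (x : P.toExtension.Ring) ∈ LinearMap.range (CotT.jmap P) := by
    rw [CotT.range_jmap]; exact x.2
  obtain ⟨f, hf⟩ := hx
  refine ⟨(1 : B) ⊗ₜ f, ?_⟩
  rw [toCot_one_tmul]
  congr 1
  exact Subtype.ext hf

lemma one_tmul_eq_zero_of_mem_smul_top (g : CotT.relMod P)
    (hg : g ∈ (P.toExtension.ker • (⊤ : Submodule P.toExtension.Ring (CotT.relMod P)))) :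
    (1 : B) ⊗ₜ[P.toExtension.Ring] g = (0 : CotT.L1 P) := by
  have : (P.toExtension.ker • (⊤ : Submodule P.toExtension.Ring (CotT.relMod P))) ≤
      LinearMap.ker (TensorProduct.mk P.toExtension.Ring B (CotT.relMod P) 1) := by
    rw [Submodule.smul_le]
    intro r hr n _
    simp only [LinearMap.mem_ker, map_smul, TensorProduct.mk_apply]
    rw [TensorProduct.smul_tmul', Algebra.smul_def, mul_one]
    have : algebraMap P.toExtension.Ring B r = 0 := hr
    rw [this, TensorProduct.zero_tmul]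
  exact this hg

lemma ker_toCot_le_range_d2 : LinearMap.ker (CotT.toCot P) ≤ LinearMap.range (CotT.d2 P) := by
  intro x hx
  obtain ⟨f, rfl⟩ := exists_one_tmul P x
  rw [LinearMap.mem_ker, toCot_one_tmul, Algebra.Extension.Cotangent.mk_eq_zero_iff] at hx
  have h1 : CotT.jmap P f ∈ P.toExtension.ker ^ 2 := hx
  have h2 : P.toExtension.ker ^ 2 =
      Submodule.map (CotT.jmap P)
        (P.toExtension.ker • (⊤ : Submodule P.toExtension.Ring (CotT.relMod P))) := by
    rw [Submodule.map_smul'', Submodule.map_top, CotT.range_jmap, pow_two]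
    rfl
  rw [h2] at h1
  obtain ⟨g, hg, hgf⟩ := h1
  have hq : f - g ∈ CotT.relKer P := by
    change CotT.jmap P (f - g) = 0
    rw [map_sub, hgf, sub_self]
  refine ⟨Submodule.Quotient.mk ((1 : B) ⊗ₜ ⟨f - g, hq⟩), ?_⟩
  rw [CotT.d2_mk_tmul]
  change (1 : B) ⊗ₜ[P.toExtension.Ring] (f - g) = _
  rw [TensorProduct.tmul_sub, one_tmul_eq_zero_of_mem_smul_top P g hg, sub_zero]

lemma range_d2_eq_ker_toCot : LinearMap.range (CotT.d2 P) = LinearMap.ker (CotT.toCot P) := by
  refine le_antisymm ?_ (ker_toCot_le_range_d2 P)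
  rw [LinearMap.range_le_ker_iff]
  exact CotT.toCot_comp_d2 P

variable (M : Type m) [AddCommGroup M] [Module B M]

/-- a linear map on `L1` vanishing on the range of `d2` factors through `toCot`. -/
lemma exists_factor_toCot (c : CotT.L1 P →ₗ[B] M) (hc : c ∘ₗ CotT.d2 P = 0) :
    ∃ φ : P.toExtension.Cotangent →ₗ[B] M, φ ∘ₗ CotT.toCot P = c := by
  have hk : LinearMap.ker (CotT.toCot P) ≤ LinearMap.ker c := by
    rw [← range_d2_eq_ker_toCot, LinearMap.range_le_ker_iff]
    exact hc
  let e := LinearMap.quotKerEquivOfSurjective (CotT.toCot P) (toCot_surjective P)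
  refine ⟨(Submodule.liftQ _ c hk) ∘ₗ e.symm.toLinearMap, ?_⟩
  ext x
  simp only [LinearMap.coe_comp, Function.comp_apply, LinearEquiv.coe_coe]
  have : e.symm (CotT.toCot P x) = Submodule.Quotient.mk x := by
    rw [LinearEquiv.symm_apply_eq]
    rfl
  rw [this, Submodule.liftQ_apply]

lemma comp_toCot_injective (φ ψ : P.toExtension.Cotangent →ₗ[B] M)
    (h : φ ∘ₗ CotT.toCot P = ψ ∘ₗ CotT.toCot P) : φ = ψ := by
  ext c
  obtain ⟨x, rfl⟩ := toCot_surjective P c
  exact LinearMap.congr_fun h x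

end Groth.Agent.Lib.Helper62.CotTBasic
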