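import Groth.Agent.Lib.Helper62.CotTNine7

/-! Consequences of the nine term sequence: comparison of `T²(C/A)` and `T²(C/B)` when
`T¹(B/A)` and `T²(B/A)` vanish (helper62). -/

universe u v x m

open TensorProduct Function MvPolynomial

noncomputable section

namespace Groth.Agent.Lib.Helper62.CotTCI

open Groth.Agent.Lib.Helper62.CotTNine

section

variable (A : Type u) (B : Type v) (C : Type x) [CommRing A] [CommRing B] [CommRing C]
  [Algebra A B] [Algebra B C] [Algebra A C] [IsScalarTower A B C]
  (M : Type m) [AddCommGroup M] [Module C M] [Module B M] [IsScalarTower B C M]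

/-- if `T¹(B/A, M) = 0 = T²(B/A, M)` then `T²(C/B, M) → T²(C/A, M)` is bijective. -/
theorem T2pull_bijective (h1 : Subsingleton (CotT.T1 (CotT.canon A B) M))
    (h2 : Subsingleton (CotT.T2 (CotT.canon A B) M)) :
    Bijective ((CotT.canonHom A C B C).T2pull M) := by
  obtain ⟨-, -, -, e2, δ₀, δ₁, -, -, -, x3⟩ := nine_canon A B C M
  constructor
  · rw [injective_iff_map_eq_zero]
    intro t ht
    obtain ⟨s, hs⟩ := (x3 t).mp ht
    rw [← hs, Subsingleton.elim s 0, map_zero]
  · intro y
    exact (e2 y).mp (Subsingleton.elim _ _)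

theorem subsingleton_T2_iff (h1 : Subsingleton (CotT.T1 (CotT.canon A B) M))
    (h2 : Subsingleton (CotT.T2 (CotT.canon A B) M)) :
    Subsingleton (CotT.T2 (CotT.canon A C) M) ↔ Subsingleton (CotT.T2 (CotT.canon B C) M) := by
  have hb := T2pull_bijective A B C M h1 h2
  constructor
  · intro h
    exact hb.injective.subsingleton
  · intro h
    exact hb.surjective.subsingleton

end

end Groth.Agent.Lib.Helper62.CotTCI

end
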