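import Groth.Agent.Lib.Helper62.CotTBasic
import Mathlib.LinearAlgebra.TensorProduct.Quotient
import Mathlib.RingTheory.Ideal.Quotient.Operations
import Mathlib.RingTheory.Nakayama
import Mathlib.RingTheory.LocalRing.MaximalIdeal.Basic

/-! Vanishing of `L₂` of a presentation means that all relations are trivial (helper62). -/

universe u v w t m

open TensorProduct Function

noncomputable section

namespace Groth.Agent.Lib.Helper62.CotTCI

section Tensor

variable {R : Type*} {B : Type*} [CommRing R] [CommRing B] [Algebra R B]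
  (hs : Surjective (algebraMap R B)) {N : Type*} [AddCommGroup N] [Module R N]

include hs in
lemma mem_smul_top_of_one_tmul_eq_zero (x : N) (hx : (1 : B) ⊗ₜ[R] x = 0) :
    x ∈ (RingHom.ker (algebraMap R B)) • (⊤ : Submodule R N) := by
  have hs' : Surjective (Algebra.ofId R B) := hs
  let e := Ideal.quotientKerAlgEquivOfSurjective hs'
  let g : B →ₗ[R] (R ⧸ RingHom.ker (Algebra.ofId R B)) := e.symm.toLinearMap
  have hg1 : g 1 = 1 := map_one e.symm
  have h1 := congrArg (LinearMap.rTensor N g) hx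
  rw [LinearMap.rTensor_tmul, map_zero, hg1] at h1
  have h2 := congrArg (TensorProduct.quotTensorEquivQuotSMul N (RingHom.ker (Algebra.ofId R B))) h1
  rw [TensorProduct.quotTensorEquivQuotSMul_mk_one_tmul, map_zero,
    Submodule.Quotient.mk_eq_zero] at h2
  exact h2

include hs in
omit [AddCommGroup N] [Module R N] in
lemma exists_one_tmul' {N : Type*} [AddCommMonoid N] [Module R N] (z : B ⊗[R] N) :
    ∃ n : N, z = (1 : B) ⊗ₜ[R] n := by
  induction z using TensorProduct.induction_on with
  | zero => exact ⟨0, by simp⟩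
  | tmul b f =>
    obtain ⟨r, rfl⟩ := hs b
    refine ⟨r • f, ?_⟩
    rw [TensorProduct.tmul_smul, TensorProduct.smul_tmul', Algebra.smul_def, mul_one]
  | add x y hx hy =>
    obtain ⟨f, rfl⟩ := hx
    obtain ⟨g, rfl⟩ := hy
    exact ⟨f + g, by rw [TensorProduct.tmul_add]⟩

include hs in
lemma mem_of_one_tmul_mem_range (N₀ : Submodule R N)
    (hK : ∀ r ∈ RingHom.ker (algebraMap R B), ∀ n : N, r • n ∈ N₀) (x : N)
    (hx : (1 : B) ⊗ₜ[R] x ∈ LinearMap.range (N₀.subtype.baseChange B)) : x ∈ N₀ := by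
  obtain ⟨z, hz⟩ := hx
  obtain ⟨f₀, rfl⟩ := exists_one_tmul' hs z
  rw [LinearMap.baseChange_tmul] at hz
  have h1 := mem_smul_top_of_one_tmul_eq_zero hs (x - N₀.subtype f₀)
    (by rw [TensorProduct.tmul_sub, hz, sub_self])
  have hle : (RingHom.ker (algebraMap R B)) • (⊤ : Submodule R N) ≤ N₀ := by
    rw [Submodule.smul_le]
    intro r hr n _
    exact hK r hr n
  have h3 := hle h1
  have := Submodule.add_mem _ h3 f₀.2
  rwa [Submodule.subtype_apply, sub_add_cancel] at this

end Tensor

section Pres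

variable {A : Type u} {B : Type v} {ι : Type w} {σ : Type t}
variable [CommRing A] [CommRing B] [Algebra A B]
variable (P : Algebra.Presentation A B ι σ)

lemma ker_smul_mem_trivRel (r : P.toExtension.Ring) (hr : r ∈ P.toExtension.ker)
    (q : CotT.relMod P) (hq : q ∈ CotT.relKer P) : r • q ∈ CotT.trivRel P := by
  have hr' : r ∈ LinearMap.range (CotT.jmap P) := by
    rw [CotT.range_jmap]
    exact hr
  obtain ⟨f, rfl⟩ := hr'
  have hq0 : CotT.jmap P q = 0 := hq
  have : CotT.jmap P f • q = CotT.jmap P f • q - CotT.jmap P q • f := by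
    rw [hq0, zero_smul, sub_zero]
  rw [this]
  exact Submodule.subset_span ⟨f, q, rfl⟩

lemma relKer_le_trivRel_of_subsingleton_L2 (h : Subsingleton (CotT.L2 P)) :
    CotT.relKer P ≤ CotT.trivRel P := by
  intro q hq
  have hs : Surjective (algebraMap P.toExtension.Ring B) := P.toExtension.algebraMap_surjective
  have h0 : (Submodule.Quotient.mk ((1 : B) ⊗ₜ[P.toExtension.Ring] (⟨q, hq⟩ : CotT.relKer P)) :
      CotT.L2 P) = 0 := Subsingleton.elim _ _
  have h0' : ((1 : B) ⊗ₜ[P.toExtension.Ring] (⟨q, hq⟩ : CotT.relKer P)) ∈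
      LinearMap.range ((CotT.trivRelKer P).subtype.baseChange B) :=
    (Submodule.Quotient.mk_eq_zero _).mp h0
  have hK : ∀ r ∈ RingHom.ker (algebraMap P.toExtension.Ring B), ∀ n : ↥(CotT.relKer P),
      r • n ∈ CotT.trivRelKer P :=
    fun r hr n => ker_smul_mem_trivRel P r hr n.1 n.2
  have h4 := mem_of_one_tmul_mem_range (N := ↥(CotT.relKer P)) hs (CotT.trivRelKer P) hK
    (⟨q, hq⟩ : CotT.relKer P)
  exact h4 h0'

/-- if `T²(P, L₂) = 0` and `d₂` has image in `𝔪 L₁` then `L₂ = 0` (Nakayama). -/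
lemma subsingleton_L2_of_T2 [IsLocalRing B] [Module.Finite B (CotT.L2 P)]
    (hT : Subsingleton (CotT.T2 P (CotT.L2 P)))
    (hd : ∀ x, CotT.d2 P x ∈ (IsLocalRing.maximalIdeal B) • (⊤ : Submodule B (CotT.L1 P))) :
    Subsingleton (CotT.L2 P) := by
  have h1 : (Submodule.Quotient.mk (LinearMap.id : CotT.L2 P →ₗ[B] CotT.L2 P) :
      CotT.T2 P (CotT.L2 P)) = Submodule.Quotient.mk 0 := Subsingleton.elim _ _
  rw [Submodule.Quotient.eq, sub_zero] at h1
  obtain ⟨φ, hφ⟩ := h1
  have hx : ∀ x : CotT.L2 P, φ (CotT.d2 P x) = x := fun x => LinearMap.congr_fun hφ x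
  have hle : (⊤ : Submodule B (CotT.L2 P)) ≤
      (IsLocalRing.maximalIdeal B) • (⊤ : Submodule B (CotT.L2 P)) := by
    intro x _
    rw [← hx x]
    have h2 : φ (CotT.d2 P x) ∈ Submodule.map φ
        ((IsLocalRing.maximalIdeal B) • (⊤ : Submodule B (CotT.L1 P))) :=
      Submodule.mem_map_of_mem (hd x)
    rw [Submodule.map_smul''] at h2
    exact Submodule.smul_mono le_rfl le_top h2
  have h3 := Submodule.eq_bot_of_le_smul_of_le_jacobson_bot (IsLocalRing.maximalIdeal B)
    (⊤ : Submodule B (CotT.L2 P)) Module.Finite.fg_top hle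
    (IsLocalRing.maximalIdeal_le_jacobson _)
  exact (Submodule.subsingleton_iff B).mp (subsingleton_of_bot_eq_top h3.symm)

lemma tmul_mem_smul_top [Fintype σ] (J : Ideal B) (b : B) (g : CotT.relMod P)
    (hg : ∀ s, algebraMap P.toExtension.Ring B (g s) ∈ J) :
    (b ⊗ₜ[P.toExtension.Ring] g : CotT.L1 P) ∈ J • (⊤ : Submodule B (CotT.L1 P)) := by
  have h1 : g = ∑ s, Finsupp.single s (g s) := (Finsupp.univ_sum_single g).symm
  rw [h1, TensorProduct.tmul_sum]
  refine Submodule.sum_mem _ fun s _ => ?_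
  have h2 : (Finsupp.single s (g s) : CotT.relMod P) =
      g s • (Finsupp.single s 1 : CotT.relMod P) := by
    rw [Finsupp.smul_single, smul_eq_mul, mul_one]
  have h3 : (b ⊗ₜ[P.toExtension.Ring] (g s • (Finsupp.single s 1 : CotT.relMod P)) : CotT.L1 P) =
      algebraMap P.toExtension.Ring B (g s) •
        (b ⊗ₜ[P.toExtension.Ring] (Finsupp.single s 1 : CotT.relMod P) : CotT.L1 P) := by
    rw [TensorProduct.tmul_smul, TensorProduct.smul_tmul', TensorProduct.smul_tmul',
      Algebra.smul_def, smul_eq_mul]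
  rw [h2, h3]
  exact Submodule.smul_mem_smul (hg s) Submodule.mem_top

lemma d2_mem_smul_top [Fintype σ] (J : Ideal B)
    (hJ : ∀ q : CotT.relKer P, ∀ s, algebraMap P.toExtension.Ring B ((q : CotT.relMod P) s) ∈ J)
    (x : CotT.L2 P) : CotT.d2 P x ∈ J • (⊤ : Submodule B (CotT.L1 P)) := by
  induction x using Submodule.Quotient.induction_on with
  | H z =>
    induction z using TensorProduct.induction_on with
    | zero =>
      rw [Submodule.Quotient.mk_zero, map_zero]
      exact Submodule.zero_mem _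
    | add x y hx hy =>
      rw [Submodule.Quotient.mk_add, map_add]
      exact Submodule.add_mem _ hx hy
    | tmul b q =>
      rw [CotT.d2_mk_tmul]
      exact tmul_mem_smul_top P J b q (hJ q)

end Pres

end Groth.Agent.Lib.Helper62.CotTCI

end
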