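import Mathlib.RingTheory.Regular.RegularSequence

/-! Relations among a weakly regular sequence are generated by the Koszul relations
(`H₁` of the Koszul complex vanishes), for modules (helper62). -/

universe u v

open RingTheory.Sequence
open scoped Pointwise

namespace Groth.Agent.Lib.Helper62.KoszulH1

variable {R : Type u} [CommRing R]

/-- the submodule of `N^n` generated by the Koszul relations `a_i x e_j - a_j x e_i`. -/
def Kz (rs : List R) (N : Type v) [AddCommGroup N] [Module R N] :
    Submodule R (Fin rs.length → N) :=
  Submodule.span R {v | ∃ (i j : Fin rs.length) (x : N),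
    v = Pi.single j (rs.get i • x) - Pi.single i (rs.get j • x)}

section

variable {N : Type v} [AddCommGroup N] [Module R N]

lemma sum_eq_zero_of_mem_Kz {rs : List R} {f : Fin rs.length → N} (hf : f ∈ Kz rs N) :
    ∑ i, rs.get i • f i = 0 := by
  induction hf using Submodule.span_induction with
  | mem v hv =>
    obtain ⟨i, j, x, rfl⟩ := hv
    simp only [Pi.sub_apply, smul_sub, Finset.sum_sub_distrib]
    rw [Finset.sum_eq_single j, Finset.sum_eq_single i]
    · simp only [Pi.single_eq_same]
      rw [smul_smul, smul_smul, mul_comm, sub_self]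
    · intro b _ hb
      rw [Pi.single_eq_of_ne hb, smul_zero]
    · intro h; exact absurd (Finset.mem_univ _) h
    · intro b _ hb
      rw [Pi.single_eq_of_ne hb, smul_zero]
    · intro h; exact absurd (Finset.mem_univ _) h
  | zero => simp
  | add x y _ _ hx hy =>
    simp only [Pi.add_apply, smul_add, Finset.sum_add_distrib, hx, hy, add_zero]
  | smul a x _ hx =>
    simp only [Pi.smul_apply]
    have : ∀ i, rs.get i • a • x i = a • (rs.get i • x i) := fun i => smul_comm _ _ _
    simp only [this, ← Finset.smul_sum, hx, smul_zero]

/-- prepend a zero coordinate. -/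
def consZero (n : ℕ) : (Fin n → N) →ₗ[R] (Fin (n + 1) → N) where
  toFun g := Fin.cons 0 g
  map_add' g g' := by
    funext k
    refine Fin.cases ?_ (fun i => ?_) k <;> simp
  map_smul' a g := by
    funext k
    refine Fin.cases ?_ (fun i => ?_) k <;> simp

lemma consZero_zero (n : ℕ) (g : Fin n → N) : consZero (R := R) n g 0 = 0 := rfl

lemma consZero_succ (n : ℕ) (g : Fin n → N) (i : Fin n) : consZero (R := R) n g i.succ = g i := rfl

lemma consZero_single (n : ℕ) (j : Fin n) (x : N) :
    consZero (R := R) n (Pi.single j x) = Pi.single j.succ x := by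
  funext k
  refine Fin.cases ?_ (fun i => ?_) k
  · rw [consZero_zero, Pi.single_eq_of_ne (Fin.succ_ne_zero j).symm]
  · rw [consZero_succ]
    by_cases h : i = j
    · subst h; simp
    · rw [Pi.single_eq_of_ne h, Pi.single_eq_of_ne (fun h' => h (Fin.succ_injective _ h'))]

lemma consZero_mem_Kz (r : R) (rs : List R) {g : Fin rs.length → N} (hg : g ∈ Kz rs N) :
    consZero (R := R) rs.length g ∈ Kz (r :: rs) N := by
  have : Kz rs N ≤ Submodule.comap (consZero (R := R) rs.length) (Kz (r :: rs) N) := by
    refine Submodule.span_le.mpr ?_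
    rintro _ ⟨i, j, x, rfl⟩
    rw [SetLike.mem_coe, Submodule.mem_comap, map_sub, consZero_single, consZero_single]
    exact Submodule.subset_span ⟨i.succ, j.succ, x, rfl⟩
  exact this hg

end

theorem mem_Kz_of_sum_eq_zero {N : Type v} [AddCommGroup N] [Module R N] {rs : List R}
    (h : IsWeaklyRegular N rs) (f : Fin rs.length → N) (hf : ∑ i, rs.get i • f i = 0) :
    f ∈ Kz rs N := by
  induction h with
  | nil N =>
    have : f = 0 := funext fun i => i.elim0
    rw [this]
    exact Submodule.zero_mem _
  | @cons N _ _ r rs h1 h2 ih =>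
    -- split the sum
    have hf' : r • f 0 + ∑ i : Fin rs.length, rs.get i • f i.succ = 0 := by
      have : ∑ i : Fin (rs.length + 1), (r :: rs).get i • f i = 0 := hf
      rw [Fin.sum_univ_succ] at this
      exact this
    -- reduce modulo r
    let g : Fin rs.length → QuotSMulTop r N := fun i => Submodule.Quotient.mk (f i.succ)
    have hg : ∑ i, rs.get i • g i = 0 := by
      have h0 : (Submodule.Quotient.mk (∑ i : Fin rs.length, rs.get i • f i.succ) :
          QuotSMulTop r N) = 0 := by
        rw [Submodule.Quotient.mk_eq_zero, eq_neg_of_add_eq_zero_right hf', neg_mem_iff]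
        exact Submodule.smul_mem_pointwise_smul _ _ _ Submodule.mem_top
      rw [← h0]
      change _ = Submodule.mkQ _ _
      rw [map_sum]
      rfl
    have hgK := ih g hg
    -- lift
    have hle : Kz rs (QuotSMulTop r N) ≤
        Submodule.map ((Submodule.mkQ (r • (⊤ : Submodule R N))).compLeft (Fin rs.length))
          (Kz rs N) := by
      refine Submodule.span_le.mpr ?_
      rintro _ ⟨i, j, x, rfl⟩
      obtain ⟨x, rfl⟩ := Submodule.Quotient.mk_surjective _ x
      refine ⟨Pi.single j (rs.get i • x) - Pi.single i (rs.get j • x),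
        Submodule.subset_span ⟨i, j, x, rfl⟩, ?_⟩
      funext k
      simp only [LinearMap.compLeft_apply, Function.comp_apply, Pi.sub_apply, map_sub,
        Submodule.mkQ_apply]
      congr 1
      · by_cases hk : k = j
        · subst hk; simp
        · rw [Pi.single_eq_of_ne hk, Pi.single_eq_of_ne hk, Submodule.Quotient.mk_zero]
      · by_cases hk : k = i
        · subst hk; simp
        · rw [Pi.single_eq_of_ne hk, Pi.single_eq_of_ne hk, Submodule.Quotient.mk_zero]
    obtain ⟨gt, hgt, hgtg⟩ := hle hgK
    have hy : ∀ i : Fin rs.length, ∃ y : N, r • y = f i.succ - gt i := by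
      intro i
      have h1' : (Submodule.Quotient.mk (gt i) : QuotSMulTop r N) = Submodule.Quotient.mk (f i.succ) :=
        congrFun hgtg i
      have h2' : f i.succ - gt i ∈ (r • (⊤ : Submodule R N)) := by
        rw [← Submodule.Quotient.mk_eq_zero, Submodule.Quotient.mk_sub, h1', sub_self]
      obtain ⟨y, _, hy⟩ := (Submodule.mem_smul_pointwise_iff_exists _ _ _).mp h2'
      exact ⟨y, hy⟩
    choose y hy using hy
    have hgt0 : ∑ i, rs.get i • gt i = 0 := sum_eq_zero_of_mem_Kz hgt
    -- the remaining zeroth coordinate vanishes
    have hc : f 0 + ∑ i : Fin rs.length, rs.get i • y i = 0 := by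
      apply h1
      simp only [smul_add, Finset.smul_sum, smul_zero]
      have : ∀ i : Fin rs.length, r • rs.get i • y i = rs.get i • f i.succ - rs.get i • gt i := by
        intro i
        rw [smul_comm, hy i, smul_sub]
      simp only [this, Finset.sum_sub_distrib, hgt0, sub_zero]
      exact hf'
    -- assemble
    have hfe : f = consZero (R := R) rs.length gt +
        ∑ i : Fin rs.length, (Pi.single i.succ (r • y i) - Pi.single 0 (rs.get i • y i)) := by
      funext k
      refine Fin.cases ?_ (fun j => ?_) k
      · simp only [Pi.add_apply, consZero_zero, zero_add, Finset.sum_apply, Pi.sub_apply,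
          Pi.single_eq_same]
        have : ∀ i : Fin rs.length, (Pi.single i.succ (r • y i) : Fin (rs.length + 1) → N) 0 = 0 :=
          fun i => Pi.single_eq_of_ne (Fin.succ_ne_zero i).symm _
        simp only [this, zero_sub, Finset.sum_neg_distrib]
        exact eq_neg_of_add_eq_zero_left hc
      · simp only [Pi.add_apply, consZero_succ, Finset.sum_apply, Pi.sub_apply]
        have h0 : ∀ i : Fin rs.length,
            (Pi.single (0 : Fin (rs.length + 1)) (rs.get i • y i) : Fin (rs.length + 1) → N) j.succ = 0 :=
          fun i => Pi.single_eq_of_ne (Fin.succ_ne_zero j) _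
        simp only [h0, sub_zero]
        rw [Finset.sum_eq_single j]
        · rw [Pi.single_eq_same, hy j]; abel
        · intro b _ hb
          exact Pi.single_eq_of_ne (fun h' => hb (Fin.succ_injective _ h').symm) _
        · intro h; exact absurd (Finset.mem_univ _) h
    rw [hfe]
    refine Submodule.add_mem _ (consZero_mem_Kz r rs hgt) (Submodule.sum_mem _ fun i _ => ?_)
    exact Submodule.subset_span ⟨0, i.succ, y i, rfl⟩

end Groth.Agent.Lib.Helper62.KoszulH1
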