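import Groth.Agent.Lib.Helper62.ThreeTermHom

/-! Functoriality of `GT2` (cokernel of `Hom(X1, M) → Hom(X2, M)`) in the pair `X2 → X1`, and
homotopy invariance (helper62). -/

namespace Groth.Agent.Lib.Helper62.ThreeTermHom

universe v x1 x2 y1 y2 z1 z2 m

variable {B : Type v} [CommRing B]
  {X1 : Type x1} {X2 : Type x2} {Y1 : Type y1} {Y2 : Type y2} {Z1 : Type z1} {Z2 : Type z2}
  [AddCommGroup X1] [Module B X1] [AddCommGroup X2] [Module B X2]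
  [AddCommGroup Y1] [Module B Y1] [AddCommGroup Y2] [Module B Y2]
  [AddCommGroup Z1] [Module B Z1] [AddCommGroup Z2] [Module B Z2]
  {d2 : X2 →ₗ[B] X1} {e2 : Y2 →ₗ[B] Y1} {f2 : Z2 →ₗ[B] Z1}
  (M : Type m) [AddCommGroup M] [Module B M]

/-- the map on `GT2` induced by a commuting square. -/
def GT2pull (u2 : X2 →ₗ[B] Y2) (u1 : X1 →ₗ[B] Y1) (h : e2 ∘ₗ u2 = u1 ∘ₗ d2) :
    GT2 e2 M →ₗ[B] GT2 d2 M :=
  Submodule.mapQ _ _ (LinearMap.lcomp B M u2) (by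
    rintro _ ⟨χ, rfl⟩
    refine ⟨χ ∘ₗ u1, ?_⟩
    rw [s2_apply, s2_apply, LinearMap.lcomp_apply', LinearMap.comp_assoc, LinearMap.comp_assoc, h])

variable {M} in
lemma GT2pull_mk (u2 : X2 →ₗ[B] Y2) (u1 : X1 →ₗ[B] Y1) (h : e2 ∘ₗ u2 = u1 ∘ₗ d2)
    (ψ : Y2 →ₗ[B] M) :
    GT2pull M u2 u1 h (Submodule.Quotient.mk ψ) = Submodule.Quotient.mk (ψ ∘ₗ u2) := rfl

lemma GT2pull_eq_of_homotopy (u2 v2 : X2 →ₗ[B] Y2) (u1 v1 : X1 →ₗ[B] Y1)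
    (hu : e2 ∘ₗ u2 = u1 ∘ₗ d2) (hv : e2 ∘ₗ v2 = v1 ∘ₗ d2)
    (k : X1 →ₗ[B] Y2) (hk : k ∘ₗ d2 = u2 - v2) :
    GT2pull M u2 u1 hu = GT2pull M v2 v1 hv := by
  apply LinearMap.ext
  intro t
  obtain ⟨ψ, rfl⟩ := Submodule.Quotient.mk_surjective _ t
  rw [GT2pull_mk, GT2pull_mk, Submodule.Quotient.eq, LinearMap.mem_range]
  refine ⟨ψ ∘ₗ k, ?_⟩
  rw [s2_apply, LinearMap.comp_assoc, hk, LinearMap.comp_sub]

lemma GT2pull_id : GT2pull M (LinearMap.id : X2 →ₗ[B] X2) (LinearMap.id : X1 →ₗ[B] X1)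
    (d2 := d2) (e2 := d2) (by rw [LinearMap.comp_id, LinearMap.id_comp]) = LinearMap.id := by
  apply LinearMap.ext
  intro t
  obtain ⟨ψ, rfl⟩ := Submodule.Quotient.mk_surjective _ t
  rw [GT2pull_mk, LinearMap.comp_id, LinearMap.id_apply]

lemma GT2pull_comp (u2 : X2 →ₗ[B] Y2) (u1 : X1 →ₗ[B] Y1) (hu : e2 ∘ₗ u2 = u1 ∘ₗ d2)
    (v2 : Y2 →ₗ[B] Z2) (v1 : Y1 →ₗ[B] Z1) (hv : f2 ∘ₗ v2 = v1 ∘ₗ e2) :
    GT2pull M (v2 ∘ₗ u2) (v1 ∘ₗ u1)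
      (by rw [← LinearMap.comp_assoc, hv, LinearMap.comp_assoc, hu, LinearMap.comp_assoc]) =
      GT2pull M u2 u1 hu ∘ₗ GT2pull M v2 v1 hv := by
  apply LinearMap.ext
  intro t
  obtain ⟨ψ, rfl⟩ := Submodule.Quotient.mk_surjective _ t
  rw [LinearMap.comp_apply, GT2pull_mk, GT2pull_mk, GT2pull_mk, LinearMap.comp_assoc]

/-- a homotopy equivalence in degrees 1, 2 induces an isomorphism on `GT2`. -/
def GT2equiv (u2 : X2 →ₗ[B] Y2) (u1 : X1 →ₗ[B] Y1) (hu : e2 ∘ₗ u2 = u1 ∘ₗ d2)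
    (v2 : Y2 →ₗ[B] X2) (v1 : Y1 →ₗ[B] X1) (hv : d2 ∘ₗ v2 = v1 ∘ₗ e2)
    (k : X1 →ₗ[B] X2) (hk : k ∘ₗ d2 = v2 ∘ₗ u2 - LinearMap.id)
    (k' : Y1 →ₗ[B] Y2) (hk' : k' ∘ₗ e2 = u2 ∘ₗ v2 - LinearMap.id) :
    GT2 d2 M ≃ₗ[B] GT2 e2 M :=
  LinearEquiv.ofLinearMap (GT2pull M v2 v1 hv) (GT2pull M u2 u1 hu)
    (by
      rw [← GT2pull_comp, ← GT2pull_id (d2 := e2)]
      exact GT2pull_eq_of_homotopy M _ _ _ _ _ _ k' hk')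
    (by
      rw [← GT2pull_comp, ← GT2pull_id (d2 := d2)]
      exact GT2pull_eq_of_homotopy M _ _ _ _ _ _ k hk)

end Groth.Agent.Lib.Helper62.ThreeTermHom
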