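import Groth.Prelude.Def_CotT2
import Groth.Agent.Lib.Helper62.CotTBasic
import Mathlib.Algebra.Algebra.Unitization
import Groth.Agent.Lib.Helper62.TwoTermPull

/-! Comparison of `T²` of two presentations of one algebra `B` (possibly over different base
rings): morphisms of relation data, the induced maps, and the fact that two morphisms related by a
twisted derivation induce the same map on `T²` (helper62). -/

universe u u' u'' v w t w' t' w'' t'' m

open TensorProduct

noncomputable section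

namespace Groth.Agent.Lib.Helper62.CotTCompare

variable {A : Type u} {A' : Type u'} {A'' : Type u''} {B : Type v}
variable {ι : Type w} {σ : Type t} {ι' : Type w'} {σ' : Type t'} {ι'' : Type w''} {σ'' : Type t''}
variable [CommRing A] [CommRing A'] [CommRing A''] [CommRing B]
variable [Algebra A B] [Algebra A' B] [Algebra A'' B]

/-- a map semilinear over `algebraMap B B` is linear. -/
def semiToLin {X Y : Type*} [AddCommMonoid X] [Module B X] [AddCommMonoid Y] [Module B Y]
    (g : X →ₛₗ[(algebraMap B B : B →+* B)] Y) : X →ₗ[B] Y where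
  toFun := g
  map_add' := g.map_add
  map_smul' b x := by rw [g.map_smulₛₗ]; rfl

@[simp] lemma semiToLin_apply {X Y : Type*} [AddCommMonoid X] [Module B X] [AddCommMonoid Y]
    [Module B Y] (g : X →ₛₗ[(algebraMap B B : B →+* B)] Y) (x : X) : semiToLin g x = g x := rfl

/-- A morphism of relation data over the identity of `B`: a ring map between the polynomial rings
compatible with the maps to `B` and a semilinear map between the free modules on the relations
lying over it. -/
structure Mor (P : Algebra.Presentation A B ι σ) (P' : Algebra.Presentation A' B ι' σ') where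
  φ : P.toExtension.Ring →+* P'.toExtension.Ring
  hφ : ∀ x, algebraMap P'.toExtension.Ring B (φ x) = algebraMap P.toExtension.Ring B x
  Φ : CotT.relMod P →ₛₗ[φ] CotT.relMod P'
  hΦ : ∀ f, CotT.jmap P' (Φ f) = φ (CotT.jmap P f)

namespace Mor

variable {P : Algebra.Presentation A B ι σ} {P' : Algebra.Presentation A' B ι' σ'}
  {P'' : Algebra.Presentation A'' B ι'' σ''}

variable (m : Mor P P')

lemma hφ' (r : P.toExtension.Ring) :
    algebraMap P'.toExtension.Ring B (m.φ r) = algebraMap B B (algebraMap P.toExtension.Ring B r) :=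
  m.hφ r

/-- `Q → Q'`. -/
def Q : CotT.relKer P →ₛₗ[m.φ] CotT.relKer P' :=
  (m.Φ.comp (CotT.relKer P).subtype).codRestrict (CotT.relKer P') (fun q => by
    change CotT.jmap P' (m.Φ (q : CotT.relMod P)) = 0
    rw [m.hΦ, show CotT.jmap P (q : CotT.relMod P) = 0 from q.2, map_zero])

@[simp] lemma Q_coe (q : CotT.relKer P) : (m.Q q : CotT.relMod P') = m.Φ q := rfl

lemma Φ_mem_trivRel {y : CotT.relMod P} (hy : y ∈ CotT.trivRel P) : m.Φ y ∈ CotT.trivRel P' := by
  induction hy using Submodule.span_induction with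
  | mem x hx =>
    obtain ⟨a, b, rfl⟩ := hx
    refine Submodule.subset_span ⟨m.Φ a, m.Φ b, ?_⟩
    rw [map_sub, LinearMap.map_smulₛₗ, LinearMap.map_smulₛₗ, m.hΦ, m.hΦ]
  | zero => simp
  | add x y _ _ hx hy => rw [map_add]; exact Submodule.add_mem _ hx hy
  | smul r x _ hx => rw [LinearMap.map_smulₛₗ]; exact Submodule.smul_mem _ _ hx

/-- `L₁ → L₁'`. -/
def L1 : CotT.L1 P →ₗ[B] CotT.L1 P' :=
  semiToLin (CotT.tensorMap m.φ m.hφ' m.Φ)

@[simp] lemma L1_tmul (b : B) (f : CotT.relMod P) : m.L1 (b ⊗ₜ f) = b ⊗ₜ m.Φ f := rfl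

/-- auxiliary. -/
def L2aux : B ⊗[P.toExtension.Ring] CotT.relKer P →ₗ[B] CotT.L2 P' :=
  (Submodule.mkQ _) ∘ₗ semiToLin (CotT.tensorMap m.φ m.hφ' m.Q)

lemma L2aux_tmul (b : B) (q : CotT.relKer P) :
    m.L2aux (b ⊗ₜ q) = Submodule.Quotient.mk (b ⊗ₜ m.Q q) := rfl

/-- `L₂ → L₂'`. -/
def L2 : CotT.L2 P →ₗ[B] CotT.L2 P' :=
  Submodule.liftQ _ m.L2aux (by
    rintro _ ⟨z, rfl⟩
    rw [LinearMap.mem_ker]
    induction z using TensorProduct.induction_on with
    | zero => simp
    | add x y hx hy => rw [map_add, map_add, hx, hy, add_zero]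
    | tmul b k =>
      rw [LinearMap.baseChange_tmul, L2aux_tmul, Submodule.Quotient.mk_eq_zero]
      refine ⟨b ⊗ₜ ⟨m.Q (k : CotT.relKer P), ?_⟩, rfl⟩
      change (m.Q (k : CotT.relKer P) : CotT.relMod P') ∈ CotT.trivRel P'
      rw [Q_coe]
      exact m.Φ_mem_trivRel k.2)

@[simp] lemma L2_mk_tmul (b : B) (q : CotT.relKer P) :
    m.L2 (Submodule.Quotient.mk (b ⊗ₜ q)) = Submodule.Quotient.mk (b ⊗ₜ m.Q q) := rfl

lemma d2_L2 : CotT.d2 P' ∘ₗ m.L2 = m.L1 ∘ₗ CotT.d2 P := by
  refine Submodule.linearMap_qext _ ?_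
  refine TensorProduct.AlgebraTensorModule.ext fun b q => ?_
  simp only [LinearMap.coe_comp, Function.comp_apply, Submodule.mkQ_apply]
  rw [L2_mk_tmul, CotT.d2_mk_tmul, CotT.d2_mk_tmul, L1_tmul, Q_coe]

/-- the identity. -/
protected def id (P : Algebra.Presentation A B ι σ) : Mor P P where
  φ := RingHom.id _
  hφ _ := rfl
  Φ := LinearMap.id
  hΦ _ := rfl

/-- composition. -/
def comp (m : Mor P P') (n : Mor P' P'') : Mor P P'' where
  φ := n.φ.comp m.φ
  hφ x := by rw [RingHom.comp_apply, n.hφ, m.hφ]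
  Φ :=
    { toFun := fun f => n.Φ (m.Φ f)
      map_add' := fun f g => by rw [map_add, map_add]
      map_smul' := fun r f => by rw [m.Φ.map_smulₛₗ, n.Φ.map_smulₛₗ]; rfl }
  hΦ f := by
    change CotT.jmap P'' (n.Φ (m.Φ f)) = _
    rw [n.hΦ, m.hΦ]; rfl

lemma id_L1 (P : Algebra.Presentation A B ι σ) : (Mor.id P).L1 = LinearMap.id := by
  refine TensorProduct.AlgebraTensorModule.ext fun b f => ?_
  rfl

lemma id_L2 (P : Algebra.Presentation A B ι σ) : (Mor.id P).L2 = LinearMap.id := by
  refine Submodule.linearMap_qext _ ?_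
  refine TensorProduct.AlgebraTensorModule.ext fun b q => ?_
  rfl

lemma comp_L1 (m : Mor P P') (n : Mor P' P'') : (m.comp n).L1 = n.L1 ∘ₗ m.L1 := by
  refine TensorProduct.AlgebraTensorModule.ext fun b f => ?_
  rfl

lemma comp_L2 (m : Mor P P') (n : Mor P' P'') : (m.comp n).L2 = n.L2 ∘ₗ m.L2 := by
  refine Submodule.linearMap_qext _ ?_
  refine TensorProduct.AlgebraTensorModule.ext fun b q => ?_
  rfl

end Mor

section TQ

variable (P : Algebra.Presentation A B ι σ)

/-- `F/F₀`, the free module on the relations modulo the trivial relations, as a type synonym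
(it carries a commutative non-unital ring structure `a * b = j(a) • b`). -/
def TQ : Type (max t w u) := CotT.relMod P ⧸ CotT.trivRel P

instance : AddCommGroup (TQ P) :=
  inferInstanceAs (AddCommGroup (CotT.relMod P ⧸ CotT.trivRel P))

instance : Module P.toExtension.Ring (TQ P) :=
  inferInstanceAs (Module P.toExtension.Ring (CotT.relMod P ⧸ CotT.trivRel P))

/-- the quotient map. -/
def TQ.mk : CotT.relMod P →ₗ[P.toExtension.Ring] TQ P := (CotT.trivRel P).mkQ

lemma TQ.mk_surjective : Function.Surjective (TQ.mk P) := Submodule.mkQ_surjective _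

lemma TQ.mk_eq_zero (f : CotT.relMod P) : TQ.mk P f = 0 ↔ f ∈ CotT.trivRel P :=
  Submodule.Quotient.mk_eq_zero _

/-- the map induced by `j`. -/
def TQ.j : TQ P →ₗ[P.toExtension.Ring] P.toExtension.Ring :=
  (CotT.trivRel P).liftQ (CotT.jmap P) (CotT.trivRel_le_relKer P)

@[simp] lemma TQ.j_mk (f : CotT.relMod P) : TQ.j P (TQ.mk P f) = CotT.jmap P f := rfl

lemma TQ.comm (a b : TQ P) : TQ.j P a • b = TQ.j P b • a := by
  obtain ⟨x, rfl⟩ := TQ.mk_surjective P a
  obtain ⟨y, rfl⟩ := TQ.mk_surjective P b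
  rw [TQ.j_mk, TQ.j_mk, ← map_smul, ← map_smul, ← sub_eq_zero, ← map_sub, TQ.mk_eq_zero]
  exact Submodule.subset_span ⟨x, y, rfl⟩

instance : Mul (TQ P) := ⟨fun a b => TQ.j P a • b⟩

lemma TQ.mul_def (a b : TQ P) : a * b = TQ.j P a • b := rfl

instance : NonUnitalCommRing (TQ P) :=
  { (inferInstance : AddCommGroup (TQ P)) with
    mul := (· * ·)
    left_distrib := fun a b c => by simp only [TQ.mul_def, smul_add]
    right_distrib := fun a b c => by simp only [TQ.mul_def, map_add, add_smul]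
    zero_mul := fun a => by simp only [TQ.mul_def, map_zero, zero_smul]
    mul_zero := fun a => by simp only [TQ.mul_def, smul_zero]
    mul_assoc := fun a b c => by simp only [TQ.mul_def, map_smul, smul_eq_mul, mul_smul]
    mul_comm := fun a b => TQ.comm P a b }

instance : IsScalarTower P.toExtension.Ring (TQ P) (TQ P) :=
  ⟨fun r a b => by
    change (r • a) * b = r • (a * b)
    simp only [TQ.mul_def, map_smul, smul_eq_mul, mul_smul]⟩

instance : SMulCommClass P.toExtension.Ring (TQ P) (TQ P) :=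
  ⟨fun r a b => by
    change r • (a * b) = a * (r • b)
    simp only [TQ.mul_def]
    rw [smul_comm]⟩

/-- `j` as a non-unital algebra map. -/
def TQ.jNA : TQ P →ₙₐ[P.toExtension.Ring] P.toExtension.Ring :=
  { toFun := TQ.j P
    map_smul' := fun r a => by simp
    map_zero' := map_zero _
    map_add' := map_add _
    map_mul' := fun a b => by simp only [TQ.mul_def, map_smul, smul_eq_mul] }

/-- the second projection `(r, a) ↦ r + j a` of the unitization. -/
def TQ.p2 : Unitization P.toExtension.Ring (TQ P) →ₐ[P.toExtension.Ring] P.toExtension.Ring :=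
  (TQ.jNA P).toAlgHom

lemma TQ.p2_apply (x : Unitization P.toExtension.Ring (TQ P)) :
    TQ.p2 P x = x.fst + TQ.j P x.snd := rfl

end TQ

section Homotopy

variable {P : Algebra.Presentation A B ι σ} {P' : Algebra.Presentation A' B ι' σ'}

/-- a ring map into the unitization of `F'/F₀'` lifting the pair `(ψ, φ)`: the datum of a
`(φ, ψ)`-twisted derivation `θ` with values in `F'/F₀'` such that `j θ = φ - ψ`. -/
structure Tw (φ ψ : P.toExtension.Ring →+* P'.toExtension.Ring) where
  Θ : P.toExtension.Ring →+* Unitization P'.toExtension.Ring (TQ P')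
  fst_Θ : ∀ x, (Θ x).fst = ψ x
  p2_Θ : ∀ x, TQ.p2 P' (Θ x) = φ x

namespace Tw

variable {φ ψ : P.toExtension.Ring →+* P'.toExtension.Ring} (T : Tw φ ψ)

/-- the twisted derivation. -/
def θ (x : P.toExtension.Ring) : TQ P' := (T.Θ x).snd

lemma θ_add (x y : P.toExtension.Ring) : T.θ (x + y) = T.θ x + T.θ y := by
  simp only [θ, map_add, Unitization.snd_add]

lemma θ_zero : T.θ 0 = 0 := by
  simp only [θ, map_zero, Unitization.snd_zero]

lemma j_θ (x : P.toExtension.Ring) : TQ.j P' (T.θ x) = φ x - ψ x := by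
  have h := T.p2_Θ x
  rw [TQ.p2_apply, T.fst_Θ] at h
  rw [← h]
  simp only [θ]
  ring

lemma θ_mul (x y : P.toExtension.Ring) : T.θ (x * y) = φ x • T.θ y + ψ y • T.θ x := by
  have h1 : T.θ (x * y) = ψ x • T.θ y + ψ y • T.θ x + T.θ x * T.θ y := by
    simp only [θ, map_mul, Unitization.snd_mul, T.fst_Θ]
  rw [h1, TQ.mul_def, T.j_θ, sub_smul]
  abel

end Tw

/-- the additive map `Q → L₂`, `q ↦` class of `1 ⊗ q`. -/
def kap (P : Algebra.Presentation A B ι σ) (q : CotT.relKer P) : CotT.L2 P :=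
  Submodule.Quotient.mk ((1 : B) ⊗ₜ q)

lemma kap_add (q q' : CotT.relKer P) : kap P (q + q') = kap P q + kap P q' := by
  simp only [kap, TensorProduct.tmul_add, Submodule.Quotient.mk_add]

lemma kap_sub (q q' : CotT.relKer P) : kap P (q - q') = kap P q - kap P q' := by
  rw [eq_sub_iff_add_eq, ← kap_add]
  congr 1
  abel

lemma kap_zero : kap P (0 : CotT.relKer P) = 0 := by
  simp only [kap, TensorProduct.tmul_zero, Submodule.Quotient.mk_zero]

lemma kap_smul (r : P.toExtension.Ring) (q : CotT.relKer P) :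
    kap P (r • q) = algebraMap P.toExtension.Ring B r • kap P q := by
  simp only [kap]
  rw [← Submodule.Quotient.mk_smul, TensorProduct.tmul_smul, TensorProduct.smul_tmul',
    TensorProduct.smul_tmul', Algebra.smul_def, smul_eq_mul]

lemma smul_kap (b : B) (q : CotT.relKer P) :
    b • kap P q = Submodule.Quotient.mk (b ⊗ₜ q) := by
  simp only [kap]
  rw [← Submodule.Quotient.mk_smul, TensorProduct.smul_tmul', smul_eq_mul, mul_one]

lemma kap_eq_zero (q : CotT.relKer P) (hq : (q : CotT.relMod P) ∈ CotT.trivRel P) :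
    kap P q = 0 := by
  rw [kap, Submodule.Quotient.mk_eq_zero]
  exact ⟨(1 : B) ⊗ₜ ⟨q, hq⟩, rfl⟩

lemma kap_wd (q q' : CotT.relKer P)
    (h : TQ.mk P (q : CotT.relMod P) = TQ.mk P (q' : CotT.relMod P)) : kap P q = kap P q' := by
  rw [← sub_eq_zero, ← kap_sub]
  apply kap_eq_zero
  rw [← sub_eq_zero, ← map_sub, TQ.mk_eq_zero] at h
  exact h

section H1

variable (m n : Mor P P') (T : Tw m.φ n.φ)

/-- the class in `F'/F₀'` attached to `f ∈ F`. -/
def cc (f : CotT.relMod P) : TQ P' :=
  TQ.mk P' (m.Φ f) - TQ.mk P' (n.Φ f) - T.θ (CotT.jmap P f)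

lemma cc_zero : cc m n T 0 = 0 := by
  simp only [cc, map_zero, T.θ_zero, sub_zero]

lemma cc_add (f g : CotT.relMod P) : cc m n T (f + g) = cc m n T f + cc m n T g := by
  simp only [cc, map_add, T.θ_add]
  abel

lemma j_cc (f : CotT.relMod P) : TQ.j P' (cc m n T f) = 0 := by
  simp only [cc, map_sub, TQ.j_mk, m.hΦ, n.hΦ, T.j_θ]
  ring

lemma cc_smul (r : P.toExtension.Ring) (f : CotT.relMod P) :
    cc m n T (r • f) = m.φ r • cc m n T f := by
  have h1 : T.θ (r * CotT.jmap P f) =
      m.φ r • T.θ (CotT.jmap P f) + n.φ (CotT.jmap P f) • T.θ r := T.θ_mul _ _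
  have h2 : (m.φ r - n.φ r) • TQ.mk P' (n.Φ f) = n.φ (CotT.jmap P f) • T.θ r := by
    rw [← T.j_θ, TQ.comm, TQ.j_mk, n.hΦ]
  simp only [cc, LinearMap.map_smulₛₗ, map_smul, smul_eq_mul, h1, smul_sub]
  rw [← h2, sub_smul]
  abel

lemma exists_lift_cc (f : CotT.relMod P) :
    ∃ q : CotT.relKer P', TQ.mk P' (q : CotT.relMod P') = cc m n T f := by
  obtain ⟨x, hx⟩ := TQ.mk_surjective P' (cc m n T f)
  refine ⟨⟨x, ?_⟩, hx⟩
  change CotT.jmap P' x = 0
  rw [← TQ.j_mk, hx, j_cc]

/-- the homotopy `L₁ → L₂'`. -/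
def hom1 : CotT.L1 P →ₗ[B] CotT.L2 P' :=
  (CotT.L1basis P).constr B
    (fun s => kap P' (Classical.choose (exists_lift_cc m n T (Finsupp.single s 1))))

lemma hom1_basis (s : σ) :
    ∃ u : CotT.relKer P', TQ.mk P' (u : CotT.relMod P') = cc m n T (Finsupp.single s 1) ∧
    hom1 m n T ((1 : B) ⊗ₜ Finsupp.single s (1 : P.toExtension.Ring)) = kap P' u := by
  refine ⟨Classical.choose (exists_lift_cc m n T (Finsupp.single s 1)),
    Classical.choose_spec (exists_lift_cc m n T (Finsupp.single s 1)), ?_⟩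
  rw [← CotT.L1basis_apply, hom1, Module.Basis.constr_basis]

lemma hom1_one_tmul (f : CotT.relMod P) (q : CotT.relKer P')
    (hq : TQ.mk P' (q : CotT.relMod P') = cc m n T f) :
    hom1 m n T ((1 : B) ⊗ₜ f) = kap P' q := by
  induction f using Finsupp.induction_linear generalizing q with
  | zero =>
    rw [TensorProduct.tmul_zero, map_zero]
    symm
    apply kap_eq_zero
    rw [← TQ.mk_eq_zero, hq, cc_zero]
  | add f g hf hg =>
    obtain ⟨qf, hqf⟩ := exists_lift_cc m n T f
    obtain ⟨qg, hqg⟩ := exists_lift_cc m n T g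
    rw [TensorProduct.tmul_add, map_add, hf qf hqf, hg qg hqg, ← kap_add]
    apply kap_wd
    rw [hq, cc_add, ← hqf, ← hqg, ← map_add]
    rfl
  | single s r =>
    obtain ⟨u, hs, hb⟩ := hom1_basis m n T s
    have e1 : (Finsupp.single s r : CotT.relMod P) = r • Finsupp.single s 1 := by
      rw [Finsupp.smul_single, smul_eq_mul, mul_one]
    have e2 : (1 : B) ⊗ₜ[P.toExtension.Ring] (r • (Finsupp.single s 1 : CotT.relMod P)) =
        algebraMap P.toExtension.Ring B r • ((1 : B) ⊗ₜ[P.toExtension.Ring]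
          (Finsupp.single s 1 : CotT.relMod P)) := by
      rw [TensorProduct.tmul_smul, TensorProduct.smul_tmul', TensorProduct.smul_tmul',
        Algebra.smul_def, smul_eq_mul]
    rw [e1, e2, map_smul, hb, ← m.hφ r, ← kap_smul]
    apply kap_wd
    rw [hq, e1, cc_smul, ← hs, ← map_smul]
    rfl

lemma hom1_comp_d2 : hom1 m n T ∘ₗ CotT.d2 P = m.L2 - n.L2 := by
  refine Submodule.linearMap_qext _ ?_
  refine TensorProduct.AlgebraTensorModule.ext fun b q => ?_
  simp only [LinearMap.coe_comp, Function.comp_apply, Submodule.mkQ_apply, LinearMap.sub_apply]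
  rw [CotT.d2_mk_tmul, Mor.L2_mk_tmul, Mor.L2_mk_tmul]
  have e : b ⊗ₜ[P.toExtension.Ring] (q : CotT.relMod P) =
      b • ((1 : B) ⊗ₜ[P.toExtension.Ring] (q : CotT.relMod P)) := by
    rw [TensorProduct.smul_tmul', smul_eq_mul, mul_one]
  have hq : TQ.mk P' ((m.Q q - n.Q q : CotT.relKer P') : CotT.relMod P') =
      cc m n T (q : CotT.relMod P) := by
    have h0 : CotT.jmap P (q : CotT.relMod P) = 0 := q.2
    simp only [cc, h0, T.θ_zero, sub_zero]
    rw [← map_sub]
    rfl
  rw [e, map_smul, hom1_one_tmul m n T q (m.Q q - n.Q q) hq, kap_sub, smul_sub, smul_kap, smul_kap]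

end H1

end Homotopy

section Existence

variable {P : Algebra.Presentation A B ι σ} {P' : Algebra.Presentation A' B ι' σ'}

lemma exists_tw (φ ψ : P.toExtension.Ring →+* P'.toExtension.Ring)
    (hφ : ∀ x, algebraMap P'.toExtension.Ring B (φ x) = algebraMap P.toExtension.Ring B x)
    (hψ : ∀ x, algebraMap P'.toExtension.Ring B (ψ x) = algebraMap P.toExtension.Ring B x)
    (hC : ∀ a : A, φ (MvPolynomial.C a : MvPolynomial ι A) = ψ (MvPolynomial.C a : MvPolynomial ι A)) :
    Nonempty (Tw φ ψ) := by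
  let φ' : MvPolynomial ι A →+* P'.toExtension.Ring := φ
  let ψ' : MvPolynomial ι A →+* P'.toExtension.Ring := ψ
  have hC' : ∀ a : A, φ' (MvPolynomial.C a) = ψ' (MvPolynomial.C a) := hC
  have ht : ∀ i : ι, ∃ t : CotT.relMod P', CotT.jmap P' t =
      φ' (MvPolynomial.X i) - ψ' (MvPolynomial.X i) := by
    intro i
    have hmem : φ' (MvPolynomial.X i) - ψ' (MvPolynomial.X i) ∈
        LinearMap.range (CotT.jmap P') := by
      rw [CotT.range_jmap]
      change _ ∈ RingHom.ker _
      rw [RingHom.mem_ker, map_sub]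
      have e1 := hφ (MvPolynomial.X i : MvPolynomial ι A)
      have e2 := hψ (MvPolynomial.X i : MvPolynomial ι A)
      change algebraMap P'.toExtension.Ring B (φ (MvPolynomial.X i : MvPolynomial ι A)) -
        algebraMap P'.toExtension.Ring B (ψ (MvPolynomial.X i : MvPolynomial ι A)) = 0
      rw [e1, e2, sub_self]
    exact hmem
  choose t ht using ht
  let f₀ : A →+* Unitization P'.toExtension.Ring (TQ P') :=
    (Unitization.inlRingHom P'.toExtension.Ring (TQ P')).comp (ψ'.comp MvPolynomial.C)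
  let g₀ : ι → Unitization P'.toExtension.Ring (TQ P') := fun i =>
    Unitization.inl (ψ' (MvPolynomial.X i)) + Unitization.inr (TQ.mk P' (t i))
  let Θ : MvPolynomial ι A →+* Unitization P'.toExtension.Ring (TQ P') := MvPolynomial.eval₂Hom f₀ g₀
  have h1 : (Unitization.fstHom P'.toExtension.Ring (TQ P')).toRingHom.comp Θ = ψ' := by
    apply MvPolynomial.ringHom_ext
    · intro a
      simp [Θ, f₀]
    · intro i
      simp [Θ, g₀]
  have h2 : (TQ.p2 P').toRingHom.comp Θ = φ' := by
    apply MvPolynomial.ringHom_ext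
    · intro a
      simp [Θ, f₀, TQ.p2_apply, hC']
    · intro i
      simp [Θ, g₀, TQ.p2_apply, ht]
  exact ⟨⟨Θ, fun x => RingHom.congr_fun h1 x, fun x => RingHom.congr_fun h2 x⟩⟩

/-- a morphism of relation data lying over a given compatible ring map (by choice of lifts of the
images of the relations). -/
lemma exists_mor (φ : P.toExtension.Ring →+* P'.toExtension.Ring)
    (hφ : ∀ x, algebraMap P'.toExtension.Ring B (φ x) = algebraMap P.toExtension.Ring B x) :
    ∃ m : Mor P P', m.φ = φ := by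
  have hrel : ∀ s : σ, ∃ y : CotT.relMod P', CotT.jmap P' y = φ (CotT.rel P s) := by
    intro s
    have hmem : φ (CotT.rel P s) ∈ LinearMap.range (CotT.jmap P') := by
      rw [CotT.range_jmap]
      change _ ∈ RingHom.ker _
      rw [RingHom.mem_ker, hφ, CotT.algebraMap_rel]
    exact hmem
  choose relVal hrel using hrel
  let Φ : CotT.relMod P →ₛₗ[φ] CotT.relMod P' :=
    { toFun := fun f => Finsupp.linearCombination P'.toExtension.Ring relVal
        (Finsupp.mapRange φ (map_zero _) f)
      map_add' := fun f g => by rw [Finsupp.mapRange_add (map_add _), map_add]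
      map_smul' := fun r f => by
        rw [← map_smul]
        congr 1
        ext s
        simp [Finsupp.mapRange_apply, map_mul] }
  have hΦs : ∀ (s : σ) (r : P.toExtension.Ring), Φ (Finsupp.single s r) = φ r • relVal s := by
    intro s r
    simp [Φ]
  refine ⟨⟨φ, hφ, Φ, ?_⟩, rfl⟩
  intro f
  induction f using Finsupp.induction_linear with
  | zero => simp
  | add f g hf hg => rw [map_add, map_add, hf, hg, map_add, map_add]
  | single s r => rw [hΦs, map_smul, hrel, CotT.jmap_single, smul_eq_mul, map_mul]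

end Existence

section Main

open Groth.Agent.Lib.Helper62.ThreeTermHom

variable {P : Algebra.Presentation A B ι σ} {P' : Algebra.Presentation A' B ι' σ'}

lemma hom1_comp_id (m : Mor P P') (n : Mor P' P) (T : Tw (m.comp n).φ (Mor.id P).φ) :
    hom1 (m.comp n) (Mor.id P) T ∘ₗ CotT.d2 P = n.L2 ∘ₗ m.L2 - LinearMap.id := by
  rw [hom1_comp_d2, Mor.comp_L2, Mor.id_L2]

theorem GT2_equiv_aux (m : Mor P P') (n : Mor P' P)
    (T : Tw (m.comp n).φ (Mor.id P).φ) (T' : Tw (n.comp m).φ (Mor.id P').φ)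
    (M : Type m) [AddCommGroup M] [Module B M] :
    Nonempty (GT2 (CotT.d2 P) M ≃ₗ[B] GT2 (CotT.d2 P') M) :=
  ⟨GT2equiv M m.L2 m.L1 m.d2_L2 n.L2 n.L1 n.d2_L2 _ (hom1_comp_id m n T) _ (hom1_comp_id n m T')⟩

/-- Two presentations of `B` (over possibly different base rings) related by morphisms of relation
data in both directions whose composites fix the constants have isomorphic `T²`. -/
theorem T2_equiv (m : Mor P P') (n : Mor P' P)
    (hm : ∀ a : A, n.φ (m.φ (MvPolynomial.C a : MvPolynomial ι A)) = (MvPolynomial.C a : MvPolynomial ι A))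
    (hn : ∀ a : A', m.φ (n.φ (MvPolynomial.C a : MvPolynomial ι' A')) = (MvPolynomial.C a : MvPolynomial ι' A'))
    (M : Type m) [AddCommGroup M] [Module B M] :
    Nonempty (CotT.T2 P M ≃ₗ[B] CotT.T2 P' M) := by
  obtain ⟨T⟩ := exists_tw (m.comp n).φ (Mor.id P).φ (m.comp n).hφ (Mor.id P).hφ hm
  obtain ⟨T'⟩ := exists_tw (n.comp m).φ (Mor.id P').φ (n.comp m).hφ (Mor.id P').hφ hn
  exact GT2_equiv_aux m n T T' M

end Main

end Groth.Agent.Lib.Helper62.CotTCompare

end
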