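import Groth.Agent.Lib.Helper62.CotTCI2
import Groth.Agent.Lib.Helper15.Koszul
import Groth.Agent.S12288
import Mathlib.RingTheory.LocalRing.MaximalIdeal.Basic

/-! For a quotient `B = A/(rs)` of a Noetherian local ring by a minimal generating list:
vanishing of `T²(B/A, -)` implies that `rs` is a regular sequence (helper62). -/

universe u

open TensorProduct Function MvPolynomial

noncomputable section

namespace Groth.Agent.Lib.Helper62.CotTCI

open Groth.Agent.S12288 Groth.Agent.Lib.Helper15.Koszul

section MinList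

variable {A : Type u} [CommRing A]

lemma ofList_eraseIdx_eq (rs : List A) (c : Fin rs.length → A)
    (hc : ∑ i, rs.get i * c i = 0) (j : Fin rs.length) (hj : IsUnit (c j)) :
    Ideal.ofList (rs.eraseIdx j) = Ideal.ofList rs := by
  apply le_antisymm
  · exact Ideal.span_mono fun r hr => List.mem_of_mem_eraseIdx hr
  · refine Ideal.span_le.mpr ?_
    intro r hr
    obtain ⟨i, rfl⟩ := List.get_of_mem hr
    have hmem : ∀ i : Fin rs.length, i ≠ j → rs.get i ∈ Ideal.ofList (rs.eraseIdx j) := by
      intro i hij
      refine Ideal.subset_span ?_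
      exact List.mem_eraseIdx_iff_getElem.mpr ⟨i, i.2, fun h => hij (Fin.ext h), rfl⟩
    by_cases hij : i = j
    · subst hij
      obtain ⟨u, hu⟩ := hj
      have h1 : rs.get i * c i + ∑ k ∈ Finset.univ.erase i, rs.get k * c k = 0 := by
        rw [Finset.add_sum_erase _ (fun k => rs.get k * c k) (Finset.mem_univ i)]
        exact hc
      have h2 : rs.get i = -(∑ k ∈ Finset.univ.erase i, rs.get k * c k) * (↑u⁻¹ : A) := by
        have h3 : rs.get i * c i = -(∑ k ∈ Finset.univ.erase i, rs.get k * c k) :=
          eq_neg_of_add_eq_zero_left h1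
        rw [← h3, ← hu, mul_assoc, Units.mul_inv, mul_one]
      rw [SetLike.mem_coe, h2]
      refine Ideal.mul_mem_right _ _ (Ideal.neg_mem_iff _ |>.mpr ?_)
      refine Ideal.sum_mem _ fun k hk => ?_
      exact Ideal.mul_mem_right _ _ (hmem k (Finset.ne_of_mem_erase hk))
    · exact hmem i hij

lemma exists_minimal_list [IsNoetherianRing A] [IsLocalRing A] (I : Ideal A) :
    ∃ rs : List A, Ideal.ofList rs = I ∧ ∀ c : Fin rs.length → A, ∑ i, rs.get i * c i = 0 →
      ∀ i, c i ∈ IsLocalRing.maximalIdeal A := by
  have hex : ∃ n, ∃ rs : List A, rs.length = n ∧ Ideal.ofList rs = I := by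
    obtain ⟨S, hS⟩ := IsNoetherian.noetherian I
    refine ⟨_, S.toList, rfl, ?_⟩
    rw [← hS]
    change Ideal.span {r | r ∈ S.toList} = Ideal.span (S : Set A)
    congr 1
    ext x
    simp
  classical
  obtain ⟨rs, hlen, hrs⟩ := Nat.find_spec hex
  refine ⟨rs, hrs, ?_⟩
  intro c hc i
  by_contra hi
  have hu : IsUnit (c i) := IsLocalRing.notMem_maximalIdeal.mp hi
  have h1 := ofList_eraseIdx_eq rs c hc i hu
  have hlt : (rs.eraseIdx i).length < Nat.find hex := by
    rw [List.length_eraseIdx_of_lt i.2, ← hlen]
    have := i.2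
    omega
  exact Nat.find_min hex hlt ⟨_, rfl, h1.trans hrs⟩

end MinList

section

variable {A B : Type u} [CommRing A] [CommRing B] [Algebra A B]
  (hs : Surjective (algebraMap A B)) (rs : List A)
  (hI : RingHom.ker (algebraMap A B) = Ideal.ofList rs)

lemma cs_length : (cs rs).length = rs.length := List.length_map _

/-- the identification of the polynomial ring in no variables with `A`. -/
def eR : (regPres hs rs hI).toExtension.Ring →+* A :=
  ((isEmptyAlgEquiv A PEmpty.{u + 1} : MvPolynomial PEmpty.{u + 1} A ≃ₐ[A] A) :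
    MvPolynomial PEmpty.{u + 1} A →+* A)

lemma eR_C (a : A) : eR hs rs hI (C a : MvPolynomial PEmpty.{u + 1} A) = a :=
  (isEmptyAlgEquiv A PEmpty.{u + 1}).commutes a

lemma eR_injective : Injective (eR hs rs hI) :=
  (isEmptyAlgEquiv A PEmpty.{u + 1}).injective

lemma C_eR (r : (regPres hs rs hI).toExtension.Ring) :
    (C (eR hs rs hI r) : MvPolynomial PEmpty.{u + 1} A) = r := by
  apply eR_injective hs rs hI
  exact eR_C hs rs hI _

lemma algebraMap_eq (r : (regPres hs rs hI).toExtension.Ring) :
    algebraMap (regPres hs rs hI).toExtension.Ring B r = algebraMap A B (eR hs rs hI r) := by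
  rw [CotT.algebraMap_toExtension]
  have h := C_eR hs rs hI r
  have h2 : (aeval (regPres hs rs hI).val) (C (eR hs rs hI r) : MvPolynomial PEmpty.{u + 1} A) =
      algebraMap A B (eR hs rs hI r) := aeval_C _ _
  exact (congrArg (aeval (regPres hs rs hI).val) h).symm.trans h2

/-- the coefficient vector of an element of the free module on the relations. -/
def coeffVec (g : CotT.relMod (regPres hs rs hI)) : Fin rs.length → A :=
  fun i => eR hs rs hI (g ⟨Fin.cast (cs_length rs).symm i⟩)

lemma coeffVec_apply (g : CotT.relMod (regPres hs rs hI)) (i : Fin rs.length) :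
    coeffVec hs rs hI g i = eR hs rs hI (g ⟨Fin.cast (cs_length rs).symm i⟩) := rfl

lemma coeffVec_add (g g' : CotT.relMod (regPres hs rs hI)) :
    coeffVec hs rs hI (g + g') = coeffVec hs rs hI g + coeffVec hs rs hI g' := by
  funext i
  rw [Pi.add_apply, coeffVec_apply, coeffVec_apply, coeffVec_apply, Finsupp.add_apply, map_add]

lemma coeffVec_zero : coeffVec hs rs hI 0 = 0 := by
  funext i
  rw [Pi.zero_apply, coeffVec_apply, Finsupp.zero_apply, map_zero]

lemma coeffVec_smul (r : (regPres hs rs hI).toExtension.Ring)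
    (g : CotT.relMod (regPres hs rs hI)) :
    coeffVec hs rs hI (r • g) = eR hs rs hI r • coeffVec hs rs hI g := by
  funext i
  rw [coeffVec_apply, Pi.smul_apply, coeffVec_apply, Finsupp.smul_apply, smul_eq_mul, map_mul,
    smul_eq_mul]

lemma coeffVec_sub (g g' : CotT.relMod (regPres hs rs hI)) :
    coeffVec hs rs hI (g - g') = coeffVec hs rs hI g - coeffVec hs rs hI g' := by
  funext i
  rw [Pi.sub_apply, coeffVec_apply, coeffVec_apply, coeffVec_apply, Finsupp.sub_apply, map_sub]

lemma rel_eq (s : ULift.{u} (Fin (cs rs).length)) :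
    CotT.rel (regPres hs rs hI) s =
      (C (rs.get (Fin.cast (cs_length rs) s.down)) : MvPolynomial PEmpty.{u + 1} A) := by
  change (cs rs).get s.down = _
  simp only [cs, List.get_eq_getElem, List.getElem_map]
  rfl

/-- the index equivalence. -/
def idxEquiv : ULift.{u} (Fin (cs rs).length) ≃ Fin rs.length :=
  Equiv.ulift.trans (finCongr (cs_length rs))

lemma eR_jmap (g : CotT.relMod (regPres hs rs hI)) :
    eR hs rs hI (CotT.jmap (regPres hs rs hI) g) =
      ∑ i : Fin rs.length, rs.get i * coeffVec hs rs hI g i := by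
  rw [CotT.jmap, Finsupp.linearCombination_apply, Finsupp.sum_fintype _ _ (by simp), map_sum]
  refine Fintype.sum_equiv (idxEquiv rs) _ _ (fun s => ?_)
  rw [smul_eq_mul, map_mul, rel_eq, eR_C, mul_comm]
  rfl

omit [CommRing B] [Algebra A B] in
lemma key_triv {n : ℕ} (f : Fin n → A) (u v : Fin n → A) :
    (∑ i, f i * u i) • v - (∑ i, f i * v i) • u ∈ Submodule.span A (trivSet f A) := by
  have h : (∑ i, f i * u i) • v - (∑ i, f i * v i) • u =
      ∑ i, ∑ j, (f i • (Pi.single j (u i * v j) : Fin n → A) -
        f j • (Pi.single i (u i * v j) : Fin n → A)) := by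
    funext k
    simp only [Pi.sub_apply, Pi.smul_apply, Finset.sum_apply, smul_eq_mul, Pi.single_apply,
      Finset.sum_sub_distrib, mul_ite, mul_zero, Finset.sum_ite_eq, Finset.mem_univ, if_true]
    rw [Finset.sum_mul, Finset.sum_mul]
    congr 1
    · apply Finset.sum_congr rfl
      intro i _
      ring
    · rw [Finset.sum_comm]
      apply Finset.sum_congr rfl
      intro i _
      simp only [Finset.sum_ite_eq, Finset.mem_univ, if_true]
      ring
  rw [h]
  exact Submodule.sum_mem _ fun i _ => Submodule.sum_mem _ fun j _ =>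
    Submodule.subset_span ⟨j, i, u i * v j, rfl⟩

lemma coeffVec_mem_of_trivRel (y : CotT.relMod (regPres hs rs hI))
    (hy : y ∈ CotT.trivRel (regPres hs rs hI)) :
    coeffVec hs rs hI y ∈ Submodule.span A (trivSet (fun i : Fin rs.length => rs.get i) A) := by
  induction hy using Submodule.span_induction with
  | mem y hy =>
    obtain ⟨a, b, rfl⟩ := hy
    rw [coeffVec_sub, coeffVec_smul, coeffVec_smul, eR_jmap, eR_jmap]
    exact key_triv _ _ _
  | zero =>
    rw [coeffVec_zero]
    exact Submodule.zero_mem _
  | add x y _ _ hx hy =>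
    rw [coeffVec_add]
    exact Submodule.add_mem _ hx hy
  | smul r x _ hx =>
    rw [coeffVec_smul]
    exact Submodule.smul_mem _ _ hx

/-- the element of the free module on the relations with given coefficient vector. -/
def liftVec (m : Fin rs.length → A) : CotT.relMod (regPres hs rs hI) :=
  Finsupp.equivFunOnFinite.symm
    (fun s : ULift.{u} (Fin (cs rs).length) =>
      (C (m (idxEquiv rs s)) : MvPolynomial PEmpty.{u + 1} A))

lemma coeffVec_liftVec (m : Fin rs.length → A) : coeffVec hs rs hI (liftVec hs rs hI m) = m := by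
  funext i
  rw [coeffVec_apply]
  change eR hs rs hI (C (m (idxEquiv rs ⟨Fin.cast (cs_length rs).symm i⟩))) = m i
  rw [eR_C]
  rfl

/-- if all relations are trivial then the first Koszul homology vanishes. -/
lemma koszulH1Zero_of_relKer_le
    (h : CotT.relKer (regPres hs rs hI) ≤ CotT.trivRel (regPres hs rs hI)) :
    CInt.KoszulH1Zero (fun i : Fin rs.length => rs.get i) A := by
  rw [koszulH1Zero_iff]
  intro m hm
  rw [LinearMap.mem_ker, relMap_apply] at hm
  have h1 : liftVec hs rs hI m ∈ CotT.relKer (regPres hs rs hI) := by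
    change CotT.jmap (regPres hs rs hI) (liftVec hs rs hI m) = 0
    apply eR_injective hs rs hI
    rw [eR_jmap, coeffVec_liftVec, map_zero]
    exact hm
  have h2 := coeffVec_mem_of_trivRel hs rs hI _ (h h1)
  rwa [coeffVec_liftVec] at h2

section Local

variable [IsLocalRing A] [IsNoetherianRing A] [IsLocalRing B]

include hs in
omit [IsNoetherianRing A] in
lemma algebraMap_mem_maximalIdeal (a : A) (ha : a ∈ IsLocalRing.maximalIdeal A) :
    algebraMap A B a ∈ IsLocalRing.maximalIdeal B := by
  have : IsLocalHom (algebraMap A B) := IsLocalHom.of_surjective _ hs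
  exact map_nonunit (algebraMap A B) a ha

omit [IsNoetherianRing A] in
lemma coeff_mem_maximalIdeal
    (hmin : ∀ c : Fin rs.length → A, ∑ i, rs.get i * c i = 0 →
      ∀ i, c i ∈ IsLocalRing.maximalIdeal A)
    (q : CotT.relKer (regPres hs rs hI)) (s : ULift.{u} (Fin (cs rs).length)) :
    algebraMap (regPres hs rs hI).toExtension.Ring B ((q : CotT.relMod (regPres hs rs hI)) s) ∈
      IsLocalRing.maximalIdeal B := by
  rw [algebraMap_eq]
  apply algebraMap_mem_maximalIdeal hs
  have h0 : ∑ i, rs.get i * coeffVec hs rs hI (q : CotT.relMod (regPres hs rs hI)) i = 0 := by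
    rw [← eR_jmap, show CotT.jmap (regPres hs rs hI) (q : CotT.relMod (regPres hs rs hI)) = 0
      from q.2, map_zero]
  exact hmin _ h0 (idxEquiv rs s)

instance : Module.Finite B (CotT.L2 (regPres hs rs hI)) := by
  have : IsNoetherianRing (regPres hs rs hI).toExtension.Ring :=
    (inferInstance : IsNoetherianRing (MvPolynomial PEmpty.{u + 1} A))
  have : Module.Finite (regPres hs rs hI).toExtension.Ring (CotT.relMod (regPres hs rs hI)) :=
    (inferInstance : Module.Finite (regPres hs rs hI).toExtension.Ring
      (ULift.{u} (Fin (cs rs).length) →₀ (regPres hs rs hI).toExtension.Ring))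
  have : IsNoetherian (regPres hs rs hI).toExtension.Ring (CotT.relMod (regPres hs rs hI)) :=
    isNoetherian_of_isNoetherianRing_of_finite _ _
  have : Module.Finite (regPres hs rs hI).toExtension.Ring (CotT.relKer (regPres hs rs hI)) :=
    Module.IsNoetherian.finite _ _
  infer_instance

/-- vanishing of `T²` for the presentation given by a minimal list of generators of the kernel
implies that the list is a weakly regular sequence. -/
theorem isWeaklyRegular_of_T2
    (hmin : ∀ c : Fin rs.length → A, ∑ i, rs.get i * c i = 0 →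
      ∀ i, c i ∈ IsLocalRing.maximalIdeal A)
    (hrs : ∀ i : Fin rs.length, rs.get i ∈ IsLocalRing.maximalIdeal A)
    (hT : Subsingleton (CotT.T2 (regPres hs rs hI) (CotT.L2 (regPres hs rs hI)))) :
    RingTheory.Sequence.IsWeaklyRegular A rs := by
  have hL2 : Subsingleton (CotT.L2 (regPres hs rs hI)) :=
    subsingleton_L2_of_T2 (regPres hs rs hI) hT
      (d2_mem_smul_top (regPres hs rs hI) _ (coeff_mem_maximalIdeal hs rs hI hmin))
  have h1 := relKer_le_trivRel_of_subsingleton_L2 (regPres hs rs hI) hL2
  have h2 := koszulH1Zero_of_relKer_le hs rs hI h1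
  have h3 := isWeaklyRegular_of_koszulH1Zero (M := A) (fun i : Fin rs.length => rs.get i)
    (fun i => by
      rw [IsLocalRing.jacobson_eq_maximalIdeal ⊥ bot_ne_top]
      exact hrs i) h2
  rwa [List.ofFn_get] at h3

end Local

end

end Groth.Agent.Lib.Helper62.CotTCI

end
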