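import Mathlib.RingTheory.Localization.Basic
import Mathlib.Algebra.Module.LinearMap.Defs

/-! Lifting semilinear maps along a "localization" of modules, by hand (helper62). -/

open Function

noncomputable section

namespace Groth.Agent.Lib.Helper62.CotTLoc

section LocLift

variable {R₀ R₀' : Type*} [CommRing R₀] [CommRing R₀'] (τ : R₀ →+* R₀') (S : Submonoid R₀)
  {X X' N : Type*} [AddCommMonoid X] [Module R₀ X] [AddCommMonoid X'] [Module R₀' X']
  [AddCommGroup N] [Module R₀' N]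
  (f : X →ₛₗ[τ] X') (g : X →ₛₗ[τ] N)

/-- Let `f : X → X'` be semilinear over `τ : R₀ → R₀'`, where every element of `X'` is a fraction
of an element of `f(X)` with denominator in `S`, elements of `S` become units in `R₀'`, every
element of `R₀'` is a fraction, and `f x = 0` implies that `x` is `S`-torsion. Then every semilinear
map from `X` to an `R₀'`-module factors through `f`. -/
theorem exists_lift (hunit : ∀ s ∈ S, IsUnit (τ s))
    (hfrac : ∀ r' : R₀', ∃ s ∈ S, ∃ r, r' * τ s = τ r)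
    (hsurj : ∀ x' : X', ∃ s ∈ S, ∃ x, τ s • x' = f x)
    (hinj : ∀ x y, f x = f y → ∃ s ∈ S, s • x = s • y) :
    ∃ g' : X' →ₗ[R₀'] N, ∀ x, g' (f x) = g x := by
  classical
  choose s₀ hs₀ x₀ hx₀ using hsurj
  -- the value
  let v : X' → N := fun x' => ((hunit (s₀ x') (hs₀ x')).unit⁻¹ : R₀'ˣ) • g (x₀ x')
  have hv : ∀ x', τ (s₀ x') • v x' = g (x₀ x') := by
    intro x'
    change τ (s₀ x') • (((hunit (s₀ x') (hs₀ x')).unit⁻¹ : R₀'ˣ) • g (x₀ x')) = _
    rw [Units.smul_def, smul_smul, IsUnit.mul_val_inv, one_smul]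
  have wd : ∀ (x' : X') (s : R₀) (_ : s ∈ S) (x : X), τ s • x' = f x → τ s • v x' = g x := by
    intro x' s hs x hx
    have h1 : f (s • x₀ x') = f (s₀ x' • x) := by
      rw [LinearMap.map_smulₛₗ, LinearMap.map_smulₛₗ, ← hx₀, ← hx, smul_comm]
    obtain ⟨t, ht, h2⟩ := hinj _ _ h1
    have h3 : τ t • (τ s • g (x₀ x')) = τ t • (τ (s₀ x') • g x) := by
      rw [← LinearMap.map_smulₛₗ, ← LinearMap.map_smulₛₗ, ← LinearMap.map_smulₛₗ,
        ← LinearMap.map_smulₛₗ, h2]
    have h4 : τ s • g (x₀ x') = τ (s₀ x') • g x := (hunit t ht).smul_left_cancel.mp h3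
    rw [← hv, smul_comm] at h4
    exact (hunit _ (hs₀ x')).smul_left_cancel.mp h4
  refine ⟨{ toFun := v, map_add' := ?_, map_smul' := ?_ }, ?_⟩
  · intro a b
    have ha := hx₀ a
    have hb := hx₀ b
    have h1 : τ (s₀ a * s₀ b) • (a + b) = f (s₀ b • x₀ a + s₀ a • x₀ b) := by
      rw [map_add, LinearMap.map_smulₛₗ, LinearMap.map_smulₛₗ, ← ha, ← hb, map_mul, smul_add,
        smul_smul, smul_smul, mul_comm]
    have h2 := wd _ _ (S.mul_mem (hs₀ a) (hs₀ b)) _ h1
    rw [map_add, LinearMap.map_smulₛₗ, LinearMap.map_smulₛₗ, ← hv a, ← hv b, smul_smul,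
      smul_smul, mul_comm (τ (s₀ b)), ← map_mul, ← smul_add] at h2
    exact (hunit _ (S.mul_mem (hs₀ a) (hs₀ b))).smul_left_cancel.mp h2
  · intro r' a
    obtain ⟨t, ht, r, hr⟩ := hfrac r'
    have ha := hx₀ a
    have h1 : τ (t * s₀ a) • (r' • a) = f (r • x₀ a) := by
      rw [LinearMap.map_smulₛₗ, ← ha, ← hr, map_mul, smul_smul, smul_smul]
      congr 1
      ring
    have h2 := wd _ _ (S.mul_mem ht (hs₀ a)) _ h1
    rw [LinearMap.map_smulₛₗ, ← hv a, ← hr, smul_smul] at h2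
    have h3 : r' * τ t * τ (s₀ a) = τ (t * s₀ a) * r' := by rw [map_mul]; ring
    rw [h3, ← smul_smul] at h2
    rw [RingHom.id_apply]
    exact (hunit _ (S.mul_mem ht (hs₀ a))).smul_left_cancel.mp h2
  · intro x
    have h1 : τ 1 • f x = f x := by rw [map_one, one_smul]
    have h2 := wd (f x) 1 S.one_mem x h1
    rw [map_one, one_smul] at h2
    exact h2

end LocLift

end Groth.Agent.Lib.Helper62.CotTLoc

end
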