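import Groth.Agent.Lib.Helper62.CotTLoc1
import Groth.Agent.Lib.Helper62.CotTCompare

/-! `T²` and localization of the polynomial ring of a presentation: if `P → P'` is a morphism of
presentations with the same relations such that the polynomial ring of `P'` is a localization of
that of `P`, then every linear map `L₂(P) → N` into a `B'`-module is pulled back from `L₂(P')`
(helper62). -/

universe u v w t u' v' w' m

open TensorProduct Function

noncomputable section

namespace Groth.Agent.Lib.Helper62.CotTLoc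

open Groth.Agent.Lib.Helper62.CotTCompare

variable {A : Type u} {B : Type v} {ι : Type w} {σ : Type t}
variable {A' : Type u'} {B' : Type v'} {ι' : Type w'}
variable [CommRing A] [CommRing B] [Algebra A B] [CommRing A'] [CommRing B'] [Algebra A' B']
variable [Algebra A A'] [Algebra B B'] [Algebra A B'] [IsScalarTower A A' B'] [IsScalarTower A B B']
variable {P : Algebra.Presentation A B ι σ} {P' : Algebra.Presentation A' B' ι' σ}
variable (h : CotT.PresHom P P') (S : Submonoid P.toExtension.Ring)
variable [Algebra P.toExtension.Ring P'.toExtension.Ring] [IsLocalization S P'.toExtension.Ring]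

section

variable (hτ : ∀ r, h.ringHom r = algebraMap P.toExtension.Ring P'.toExtension.Ring r)
  (hrel : ∀ s, h.relVal s = Finsupp.single s 1)

include hτ in
lemma isUnit_ringHom (s : P.toExtension.Ring) (hs : s ∈ S) : IsUnit (h.ringHom s) := by
  rw [hτ]
  exact IsLocalization.map_units _ ⟨s, hs⟩

include hτ in
lemma exists_frac (r' : P'.toExtension.Ring) :
    ∃ s ∈ S, ∃ r, r' * h.ringHom s = h.ringHom r := by
  obtain ⟨⟨r, s⟩, hrs⟩ := IsLocalization.surj S r'
  exact ⟨s.1, s.2, r, by rw [hτ, hτ]; exact hrs⟩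

include hτ in
lemma exists_mul_eq_zero (r : P.toExtension.Ring) (hr : h.ringHom r = 0) :
    ∃ s ∈ S, s * r = 0 := by
  rw [hτ, IsLocalization.map_eq_zero_iff S] at hr
  obtain ⟨m, hm⟩ := hr
  exact ⟨m.1, m.2, hm⟩

omit [Algebra P.toExtension.Ring P'.toExtension.Ring] in
include hrel in
lemma relModMap_apply (f : CotT.relMod P) (a : σ) : h.relModMap f a = h.ringHom (f a) := by
  classical
  induction f using Finsupp.induction_linear with
  | zero => simp
  | add f g hf hg => rw [map_add, Finsupp.add_apply, hf, hg, Finsupp.add_apply, map_add]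
  | single s r =>
    rw [CotT.PresHom.relModMap_single, hrel, Finsupp.smul_apply, Finsupp.single_apply,
      Finsupp.single_apply]
    split_ifs <;> simp

include hτ hrel in
lemma exists_relModMap_eq (f' : CotT.relMod P') :
    ∃ s ∈ S, ∃ f : CotT.relMod P, h.ringHom s • f' = h.relModMap f := by
  classical
  induction f' using Finsupp.induction_linear with
  | zero => exact ⟨1, S.one_mem, 0, by simp⟩
  | add f' g' hf hg =>
    obtain ⟨s, hs, f, hf⟩ := hf
    obtain ⟨t, ht, g, hg⟩ := hg
    refine ⟨s * t, S.mul_mem hs ht, t • f + s • g, ?_⟩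
    rw [map_add, LinearMap.map_smulₛₗ, LinearMap.map_smulₛₗ, ← hf, ← hg, map_mul, smul_add,
      smul_smul, smul_smul, mul_comm]
  | single a r' =>
    obtain ⟨s, hs, r, hr⟩ := exists_frac h S hτ r'
    refine ⟨s, hs, Finsupp.single a r, ?_⟩
    rw [CotT.PresHom.relModMap_single, hrel, Finsupp.smul_single, Finsupp.smul_single,
      smul_eq_mul, smul_eq_mul, mul_one, mul_comm, hr]

include hτ hrel in
lemma exists_smul_eq_zero (f : CotT.relMod P) (hf : h.relModMap f = 0) :
    ∃ s ∈ S, s • f = 0 := by
  classical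
  have h1 : ∀ a, ∃ s ∈ S, s * f a = 0 := by
    intro a
    apply exists_mul_eq_zero h S hτ
    rw [← relModMap_apply h hrel, hf, Finsupp.zero_apply]
  choose s hs hsf using h1
  refine ⟨∏ a ∈ f.support, s a, S.prod_mem fun a _ => hs a, ?_⟩
  ext a
  rw [Finsupp.smul_apply, Finsupp.zero_apply, smul_eq_mul]
  by_cases ha : a ∈ f.support
  · obtain ⟨c, hc⟩ := Finset.dvd_prod_of_mem s ha
    rw [hc, mul_comm (s a), mul_assoc, hsf, mul_zero]
  · rw [Finsupp.notMem_support_iff.mp ha, mul_zero]

include hτ hrel in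
lemma exists_relKerMap_eq (q' : CotT.relKer P') :
    ∃ s ∈ S, ∃ q : CotT.relKer P, h.ringHom s • q' = h.relKerMap q := by
  obtain ⟨s, hs, f, hf⟩ := exists_relModMap_eq h S hτ hrel (q' : CotT.relMod P')
  have h1 : h.ringHom (CotT.jmap P f) = 0 := by
    rw [← h.jmap_relModMap, ← hf, map_smul]
    have : CotT.jmap P' (q' : CotT.relMod P') = 0 := q'.2
    rw [this, smul_zero]
  obtain ⟨t, ht, h2⟩ := exists_mul_eq_zero h S hτ _ h1
  have h3 : t • f ∈ CotT.relKer P := by
    change CotT.jmap P (t • f) = 0
    rw [map_smul, smul_eq_mul, h2]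
  refine ⟨t * s, S.mul_mem ht hs, ⟨t • f, h3⟩, ?_⟩
  apply Subtype.ext
  rw [CotT.PresHom.relKerMap_coe]
  change h.ringHom (t * s) • (q' : CotT.relMod P') = h.relModMap (t • f)
  rw [LinearMap.map_smulₛₗ, ← hf, map_mul, smul_smul]

include hτ hrel in
lemma exists_smul_relKer_eq (q₁ q₂ : CotT.relKer P) (hq : h.relKerMap q₁ = h.relKerMap q₂) :
    ∃ s ∈ S, s • q₁ = s • q₂ := by
  have h1 : h.relModMap ((q₁ : CotT.relMod P) - (q₂ : CotT.relMod P)) = 0 := by
    rw [map_sub, ← CotT.PresHom.relKerMap_coe, ← CotT.PresHom.relKerMap_coe, hq, sub_self]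
  obtain ⟨s, hs, h2⟩ := exists_smul_eq_zero h S hτ hrel _ h1
  refine ⟨s, hs, Subtype.ext ?_⟩
  rw [smul_sub, sub_eq_zero] at h2
  exact h2

variable (N : Type m) [AddCommGroup N] [Module B' N] [Module B N] [IsScalarTower B B' N]

include S hτ hrel in
/-- every `B`-linear map `L₂(P) → N` is the pull back of a `B'`-linear map `L₂(P') → N`. -/
theorem exists_pull2_eq (φ : CotT.L2 P →ₗ[B] N) :
    ∃ φ' : CotT.L2 P' →ₗ[B'] N, h.pull2 N φ' = φ := by
  letI : Module P'.toExtension.Ring N := Module.compHom N (algebraMap P'.toExtension.Ring B')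
  haveI : IsScalarTower P'.toExtension.Ring B' N := IsScalarTower.of_compHom _ _ _
  let g : CotT.relKer P →ₛₗ[h.ringHom] N :=
    { toFun := fun q => φ (kap P q)
      map_add' := by intro a b; rw [kap_add, map_add]
      map_smul' := by
        intro r q
        rw [kap_smul, φ.map_smul]
        change _ = algebraMap P'.toExtension.Ring B' (h.ringHom r) • φ (kap P q)
        rw [h.algebraMap_ringHom]
        exact (IsScalarTower.algebraMap_smul B' _ _).symm }
  obtain ⟨g', hg'⟩ := exists_lift h.ringHom S h.relKerMap g (isUnit_ringHom h S hτ)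
    (exists_frac h S hτ) (exists_relKerMap_eq h S hτ hrel) (exists_smul_relKer_eq h S hτ hrel)
  -- `g'` kills the trivial relations
  have hg'0 : ∀ (y' : CotT.relMod P') (hy' : y' ∈ CotT.trivRel P'),
      g' ⟨y', CotT.trivRel_le_relKer P' hy'⟩ = 0 := by
    intro y' hy'
    induction hy' using Submodule.span_induction with
    | mem x hx =>
      obtain ⟨a', b', rfl⟩ := hx
      obtain ⟨s, hs, a, ha⟩ := exists_relModMap_eq h S hτ hrel a'
      obtain ⟨t, ht, b, hb⟩ := exists_relModMap_eq h S hτ hrel b'
      have hy : CotT.jmap P a • b - CotT.jmap P b • a ∈ CotT.trivRel P :=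
        Submodule.subset_span ⟨a, b, rfl⟩
      have hy' : CotT.jmap P' a' • b' - CotT.jmap P' b' • a' ∈ CotT.trivRel P' :=
        Submodule.subset_span ⟨a', b', rfl⟩
      have h1 : h.ringHom (s * t) • (⟨CotT.jmap P' a' • b' - CotT.jmap P' b' • a',
          CotT.trivRel_le_relKer P' hy'⟩ :
          CotT.relKer P') = h.relKerMap ⟨_, CotT.trivRel_le_relKer P hy⟩ := by
        apply Subtype.ext
        rw [CotT.PresHom.relKerMap_coe]
        change h.ringHom (s * t) • (CotT.jmap P' a' • b' - CotT.jmap P' b' • a') =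
          h.relModMap (CotT.jmap P a • b - CotT.jmap P b • a)
        rw [map_sub, LinearMap.map_smulₛₗ, LinearMap.map_smulₛₗ, ← h.jmap_relModMap,
          ← h.jmap_relModMap, ← ha, ← hb, map_smul, map_smul, map_mul, smul_sub]
        simp only [smul_smul, smul_eq_mul]
        congr 2 <;> ring
      have h2 := congrArg g' h1
      rw [map_smul, hg'] at h2
      have h3 : g ⟨_, CotT.trivRel_le_relKer P hy⟩ = 0 := by
        change φ (kap P _) = 0
        rw [kap_eq_zero _ hy, map_zero]
      rw [h3] at h2
      exact (isUnit_ringHom h S hτ _ (S.mul_mem hs ht)).smul_left_cancel.mp (h2.trans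
        (smul_zero _).symm)
    | zero => exact map_zero g'
    | add x y hx hy ihx ihy =>
      have : (⟨x + y, CotT.trivRel_le_relKer P' (Submodule.add_mem _ hx hy)⟩ : CotT.relKer P') =
          ⟨x, CotT.trivRel_le_relKer P' hx⟩ + ⟨y, CotT.trivRel_le_relKer P' hy⟩ := rfl
      rw [this, map_add, ihx, ihy, add_zero]
    | smul r x hx ihx =>
      have : (⟨r • x, CotT.trivRel_le_relKer P' (Submodule.smul_mem _ r hx)⟩ : CotT.relKer P') =
          r • ⟨x, CotT.trivRel_le_relKer P' hx⟩ := rfl
      rw [this, map_smul, ihx, smul_zero]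
  have hker : LinearMap.range ((CotT.trivRelKer P').subtype.baseChange B') ≤
      LinearMap.ker (LinearMap.liftBaseChange B' g') := by
    rintro _ ⟨z, rfl⟩
    rw [LinearMap.mem_ker]
    induction z using TensorProduct.induction_on with
    | zero => simp
    | add x y hx hy => rw [map_add, map_add, hx, hy, add_zero]
    | tmul b k =>
      rw [LinearMap.baseChange_tmul, LinearMap.liftBaseChange_tmul, Submodule.subtype_apply]
      have hk : ((k : CotT.relKer P') : CotT.relMod P') ∈ CotT.trivRel P' := k.2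
      have := hg'0 _ hk
      rw [this, smul_zero]
  refine ⟨Submodule.liftQ _ (LinearMap.liftBaseChange B' g') hker, ?_⟩
  apply LinearMap.ext
  intro z
  induction z using Submodule.Quotient.induction_on with
  | H z =>
    induction z using TensorProduct.induction_on with
    | zero => simp
    | add x y hx hy =>
      rw [Submodule.Quotient.mk_add, map_add, map_add, hx, hy]
    | tmul b q =>
      rw [CotT.PresHom.pull2_apply, CotT.PresHom.L2map_mk_tmul, Submodule.liftQ_apply,
        LinearMap.liftBaseChange_tmul, hg', ← smul_kap, map_smul, IsScalarTower.algebraMap_smul]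
      rfl

include S hτ hrel in
/-- if `T²(P', N)` vanishes then so does `T²(P, N)`. -/
theorem subsingleton_T2 (hT : Subsingleton (CotT.T2 P' N)) : Subsingleton (CotT.T2 P N) := by
  refine ⟨fun x y => ?_⟩
  suffices ∀ x : CotT.T2 P N, x = 0 by rw [this x, this y]
  intro x
  obtain ⟨φ, rfl⟩ := Submodule.Quotient.mk_surjective _ x
  obtain ⟨φ', rfl⟩ := exists_pull2_eq h S hτ hrel N φ
  have h1 : (Submodule.Quotient.mk φ' : CotT.T2 P' N) = 0 := Subsingleton.elim _ _
  rw [Submodule.Quotient.mk_eq_zero] at h1 ⊢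
  obtain ⟨ψ', rfl⟩ := h1
  exact ⟨h.pull1 N ψ', (h.pull2_d2Star N ψ').symm⟩

end

end Groth.Agent.Lib.Helper62.CotTLoc

end
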