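import Groth.Agent.Lib.Helper62.CotTLoc2
import Groth.Agent.S12283
import Mathlib.RingTheory.Localization.BaseChange
import Mathlib.RingTheory.MvPolynomial.Localization

/-! Localizing the base ring of a presentation; `T²` of a localization (helper62). -/

universe u w t m

open TensorProduct Function MvPolynomial

noncomputable section

namespace Groth.Agent.Lib.Helper62.CotTLoc

section LocPres

variable {A B : Type u} (A' B' : Type u) {ι : Type w} {σ : Type t}
variable [CommRing A] [CommRing B] [Algebra A B] [CommRing A'] [CommRing B'] [Algebra A' B']
variable [Algebra A A'] [Algebra B B'] [Algebra A B'] [IsScalarTower A A' B'] [IsScalarTower A B B']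
variable (W : Submonoid A) [IsLocalization W A'] [IsLocalization (Algebra.algebraMapSubmonoid B W) B']
variable (P : Algebra.Presentation A B ι σ)

/-- the presentation of `B' = W⁻¹B` over `A' = W⁻¹A` with the same variables and relations. -/
def locPres : Algebra.Presentation A' B' ι σ :=
  haveI : Algebra.IsPushout A A' B B' := (Algebra.isPushout_of_isLocalization W A' B B').symm
  (P.baseChange A').ofAlgEquiv (Algebra.IsPushout.equiv A A' B B')

lemma locPres_val (i : ι) : (locPres A' B' W P).val i = algebraMap B B' (P.val i) := by
  haveI : Algebra.IsPushout A A' B B' := (Algebra.isPushout_of_isLocalization W A' B B').symm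
  change Algebra.IsPushout.equiv A A' B B' ((1 : A') ⊗ₜ[A] P.val i) = _
  rw [Algebra.IsPushout.equiv_tmul, map_one, one_mul]

lemma locPres_relation (s : σ) :
    (locPres A' B' W P).relation s = MvPolynomial.map (algebraMap A A') (P.relation s) := rfl

/-- the morphism from a presentation to its localization. -/
def locHom : CotT.PresHom P (locPres A' B' W P) where
  hom :=
    { val := fun i => X i
      aeval_val := fun i => by
        rw [aeval_X]
        exact locPres_val A' B' W P i }
  relVal s := Finsupp.single s 1
  jmap_relVal s := by
    rw [CotT.jmap_single, one_mul]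
    change MvPolynomial.map (algebraMap A A') (P.relation s) =
      aeval (R := A) (fun i => (X i : MvPolynomial ι A')) (P.relation s)
    generalize P.relation s = x
    induction x using MvPolynomial.induction_on with
    | C a => rw [map_C, aeval_C, IsScalarTower.algebraMap_apply A A' (MvPolynomial ι A')]; rfl
    | add p q hp hq => rw [map_add, map_add, hp, hq]
    | mul_X p i hp => rw [map_mul, map_mul, hp, map_X, aeval_X]

lemma locHom_ringHom (x : P.toExtension.Ring) :
    (locHom A' B' W P).ringHom x = MvPolynomial.map (algebraMap A A') x := by
  change aeval (R := A) (fun i => (X i : MvPolynomial ι A')) x = _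
  induction x using MvPolynomial.induction_on with
  | C a => rw [map_C, aeval_C, IsScalarTower.algebraMap_apply A A' (MvPolynomial ι A')]; rfl
  | add p q hp hq => rw [map_add, map_add, hp, hq]
  | mul_X p i hp => rw [map_mul, map_mul, hp, map_X, aeval_X]

/-- if `T²` of the localized presentation vanishes then `T²(P, N)` vanishes for every
`B'`-module `N`. -/
theorem subsingleton_T2_of_locPres (N : Type m) [AddCommGroup N] [Module B' N] [Module B N]
    [IsScalarTower B B' N] (hT : Subsingleton (CotT.T2 (locPres A' B' W P) N)) :
    Subsingleton (CotT.T2 P N) := by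
  letI inst : Algebra P.toExtension.Ring (locPres A' B' W P).toExtension.Ring :=
    MvPolynomial.algebraMvPolynomial (σ := ι) (R := A) (S := A')
  let S : Submonoid P.toExtension.Ring := W.map (C (σ := ι))
  haveI : IsLocalization S (locPres A' B' W P).toExtension.Ring :=
    MvPolynomial.isLocalization (σ := ι) W A'
  exact subsingleton_T2 (locHom A' B' W P) S
    (fun r => locHom_ringHom A' B' W P r) (fun s => rfl) N hT

end LocPres

section Canon

variable (A B A' B' : Type u)
variable [CommRing A] [CommRing B] [Algebra A B] [CommRing A'] [CommRing B'] [Algebra A' B']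
variable [Algebra A A'] [Algebra B B'] [Algebra A B'] [IsScalarTower A A' B'] [IsScalarTower A B B']
variable (W : Submonoid A) [IsLocalization W A'] [IsLocalization (Algebra.algebraMapSubmonoid B W) B']

include W in
/-- **Localization and `T²`**: for `A' = W⁻¹A`, `B' = W⁻¹B` and a `B'`-module `N`, if
`T²(B'/A', N) = 0` then `T²(B/A, N) = 0`. -/
theorem subsingleton_T2_canon_of_loc (N : Type m) [AddCommGroup N] [Module B' N] [Module B N]
    [IsScalarTower B B' N] (hT : Subsingleton (CotT.T2 (CotT.canon A' B') N)) :
    Subsingleton (CotT.T2 (CotT.canon A B) N) := by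
  apply subsingleton_T2_of_locPres A' B' W (CotT.canon A B) N
  obtain ⟨-, -, ⟨e⟩⟩ := Groth.Agent.S12283.result A' B' B (CotT.CanonRels A B) B'
    (CotT.CanonRels A' B') (locPres A' B' W (CotT.canon A B)) (CotT.canon A' B') N
  exact e.toEquiv.subsingleton

end Canon

end Groth.Agent.Lib.Helper62.CotTLoc

end
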