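import Groth.Agent.Lib.Helper62.CotTLoc3
import Groth.Agent.Lib.Helper62.CotTCI
import Groth.Agent.S12287
import Groth.Agent.S12288
import Groth.Agent.S0559
import Groth.Agent.S0561

/-! `T²` of a localization vanishes; consequences (helper62). -/

universe u

open TensorProduct Function MvPolynomial

noncomputable section

namespace Groth.Agent.Lib.Helper62.CotTLoc

section W2

variable (R T : Type u) [CommRing R] [CommRing T] [Algebra R T] (W : Submonoid R)
  [IsLocalization W T]

include W in
/-- `T²(W⁻¹R / R, M) = 0`. -/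
theorem subsingleton_T2_localization (M : Type u) [AddCommGroup M] [Module T M] :
    Subsingleton (CotT.T2 (CotT.canon R T) M) := by
  haveI : IsLocalization (Algebra.algebraMapSubmonoid T W) T := by
    apply IsLocalization.of_le_isUnit
    rintro _ ⟨w, hw, rfl⟩
    exact IsLocalization.map_units T ⟨w, hw⟩
  apply subsingleton_T2_canon_of_loc R T T T W M
  exact (Groth.Agent.S12287.result T T PEmpty (MvPolynomial.isEmptyAlgEquiv T PEmpty) M).2

end W2

section Mid

open Groth.Agent.Lib.Helper62.CotTNine

variable (A B C : Type u) [CommRing A] [CommRing B] [CommRing C]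
  [Algebra A B] [Algebra B C] [Algebra A C] [IsScalarTower A B C]
  (M : Type u) [AddCommGroup M] [Module C M] [Module B M] [IsScalarTower B C M]

/-- if `T²(C/B, M) = 0` and `T²(B/A, M) = 0` then `T²(C/A, M) = 0`. -/
theorem subsingleton_T2_mid (hBC : Subsingleton (CotT.T2 (CotT.canon B C) M))
    (hAB : Subsingleton (CotT.T2 (CotT.canon A B) M)) :
    Subsingleton (CotT.T2 (CotT.canon A C) M) := by
  obtain ⟨-, -, -, e2, -⟩ := nine_canon A B C M
  refine ⟨fun x y => ?_⟩
  suffices ∀ x : CotT.T2 (CotT.canon A C) M, x = 0 by rw [this x, this y]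
  intro x
  obtain ⟨y, rfl⟩ := (e2 x).mp (Subsingleton.elim _ _)
  rw [Subsingleton.elim y 0, map_zero]

end Mid

section PolyLoc

variable (k R T : Type u) [CommRing k] [CommRing R] [CommRing T] [Algebra k R] [Algebra R T]
  [Algebra k T] [IsScalarTower k R T] (κ : Type u) (e : MvPolynomial κ k ≃ₐ[k] R)
  (W : Submonoid R) [IsLocalization W T]

include e W in
/-- `T²` of a localization of a polynomial ring over the base vanishes. -/
theorem subsingleton_T2_polyLoc (M : Type u) [AddCommGroup M] [Module T M] :
    Subsingleton (CotT.T2 (CotT.canon k T) M) := by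
  letI : Module R M := Module.compHom M (algebraMap R T)
  haveI : IsScalarTower R T M := IsScalarTower.of_compHom R T M
  exact subsingleton_T2_mid k R T M (subsingleton_T2_localization R T W M)
    (Groth.Agent.S12287.result k R κ e M).2

end PolyLoc

section RegQuot

open IsLocalRing RingTheory.Sequence

variable (T A : Type u) [CommRing T] [IsRegularLocalRing T] [CommRing A] [IsRegularLocalRing A]
  [Algebra T A]

/-- a surjection of regular local rings has vanishing `T²`. -/
theorem subsingleton_T2_of_regular (hs : Surjective (algebraMap T A)) (M : Type u)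
    [AddCommGroup M] [Module A M] : Subsingleton (CotT.T2 (CotT.canon T A) M) := by
  haveI : IsRegularLocalRing (T ⧸ RingHom.ker (algebraMap T A)) :=
    IsRegularLocalRing.of_ringEquiv (RingHom.quotientKerEquivOfSurjective hs).symm
  obtain ⟨d, hd⟩ : ∃ d : ℕ, ringKrullDim T = d :=
    ⟨(maximalIdeal T).spanFinrank, IsRegularLocalRing.spanFinrank_maximalIdeal.symm⟩
  obtain ⟨x, c, hc, hx, hJ⟩ := Groth.Agent.S0561.result T d hd (RingHom.ker (algebraMap T A))
  have hreg := Groth.Agent.S0559.result T d hd x hx
  have hy : List.ofFn (fun i : Fin c => x (Fin.castLE hc i)) = (List.ofFn x).take c := by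
    apply List.ext_getElem
    · simp [hc]
    · intro i h1 h2
      simp
  have hwr : IsWeaklyRegular T (List.ofFn (fun i : Fin c => x (Fin.castLE hc i))) := by
    have h1 := hreg.toIsWeaklyRegular
    rw [← List.take_append_drop c (List.ofFn x), isWeaklyRegular_append_iff] at h1
    rw [hy]
    exact h1.1
  have hmem : ∀ r ∈ List.ofFn (fun i : Fin c => x (Fin.castLE hc i)), r ∈ maximalIdeal T := by
    intro r hr
    rw [List.mem_ofFn'] at hr
    obtain ⟨i, rfl⟩ := hr
    rw [← hx]
    exact Ideal.subset_span ⟨_, rfl⟩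
  have hreg' : IsRegular T (List.ofFn (fun i : Fin c => x (Fin.castLE hc i))) :=
    IsRegular.of_isWeaklyRegular_of_mem_maximalIdeal T hmem hwr
  have hI : RingHom.ker (algebraMap T A) =
      Ideal.ofList (List.ofFn (fun i : Fin c => x (Fin.castLE hc i))) := by
    rw [hJ, Ideal.ofList]
    congr 1
    ext r
    simp [List.mem_ofFn']
  exact Groth.Agent.S12288.result T A hs _ hreg' hI M

end RegQuot

section Prod

variable {A B : Type u} {ι σ : Type u} [CommRing A] [CommRing B] [Algebra A B]
  (P : Algebra.Presentation A B ι σ)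

/-- `T²` of a product of modules vanishes if all `T²` of the factors vanish. -/
theorem subsingleton_T2_pi {I : Type u} (N : I → Type u) [∀ i, AddCommGroup (N i)]
    [∀ i, Module B (N i)] (h : ∀ i, Subsingleton (CotT.T2 P (N i))) :
    Subsingleton (CotT.T2 P (∀ i, N i)) := by
  refine ⟨fun x y => ?_⟩
  suffices ∀ x : CotT.T2 P (∀ i, N i), x = 0 by rw [this x, this y]
  intro x
  obtain ⟨φ, rfl⟩ := Submodule.Quotient.mk_surjective _ x
  rw [Submodule.Quotient.mk_eq_zero]
  have h1 : ∀ i, ∃ ψ : CotT.L1 P →ₗ[B] N i, CotT.d2Star P (N i) ψ = LinearMap.proj i ∘ₗ φ := by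
    intro i
    have h2 : (Submodule.Quotient.mk (LinearMap.proj i ∘ₗ φ) : CotT.T2 P (N i)) = 0 :=
      @Subsingleton.elim _ (h i) _ _
    rw [Submodule.Quotient.mk_eq_zero] at h2
    exact h2
  choose ψ hψ using h1
  refine ⟨LinearMap.pi ψ, ?_⟩
  apply LinearMap.ext
  intro z
  funext i
  have := congrArg (fun f => f z) (hψ i)
  exact this

end Prod

end Groth.Agent.Lib.Helper62.CotTLoc

end
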