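import Groth.Agent.Lib.Helper62.CotTLoc4
import Mathlib.RingTheory.RingHom.Surjective
import Mathlib.RingTheory.RegularLocalRing.Polynomial
import Mathlib.RingTheory.Nilpotent.GeometricallyReduced
import Mathlib.FieldTheory.IsAlgClosed.AlgebraicClosure

/-! `T²` at a regular point of a finite type algebra over a field (helper62). -/

universe u

open TensorProduct Function MvPolynomial

noncomputable section

namespace Groth.Agent.Lib.Helper62.CotTLoc

section GeomRed

/-- over an algebraically closed field every reduced algebra is geometrically reduced. -/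
theorem isGeometricallyReduced_of_isAlgClosed (k A : Type*) [Field k] [IsAlgClosed k]
    [CommRing A] [Algebra k A] [IsReduced A] : Algebra.IsGeometricallyReduced k A := by
  rw [Algebra.isGeometricallyReduced_field_iff]
  have hb : Bijective (algebraMap k (AlgebraicClosure k)) :=
    IsAlgClosed.algebraMap_bijective_of_isIntegral
  let e : k ≃ₐ[k] AlgebraicClosure k := AlgEquiv.ofBijective (Algebra.ofId k _) hb
  let e' : AlgebraicClosure k ⊗[k] A ≃ₐ[k] A :=
    (Algebra.TensorProduct.congr e.symm AlgEquiv.refl).trans (Algebra.TensorProduct.lid k A)
  exact isReduced_of_injective e'.toAlgHom e'.injective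

end GeomRed

section AtRegular

variable (k B : Type u) [Field k] [CommRing B] [Algebra k B] [Algebra.FiniteType k B]
  (p : Ideal B) [p.IsPrime] [IsRegularLocalRing (Localization.AtPrime p)]

/-- at a regular point `p` of a finite type `k`-algebra `B`: `T²(B_p/k, M) = 0` and
`T²(B/k, M) = 0` for every `B_p`-module `M`. -/
theorem subsingleton_T2_at_regular (M : Type u) [AddCommGroup M]
    [Module (Localization.AtPrime p) M] :
    Subsingleton (CotT.T2 (CotT.canon k (Localization.AtPrime p)) M) ∧
      ∀ [Module B M] [IsScalarTower B (Localization.AtPrime p) M],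
        Subsingleton (CotT.T2 (CotT.canon k B) M) := by
  obtain ⟨n, f₀, hf₀⟩ := Algebra.FiniteType.iff_quotient_mvPolynomial''.mp
    (inferInstance : Algebra.FiniteType k B)
  let Q : Ideal (MvPolynomial (Fin n) k) := p.comap f₀.toRingHom
  let T := Localization.AtPrime Q
  let fP : T →+* Localization.AtPrime p := Localization.localRingHom Q p f₀.toRingHom rfl
  have hfP : Function.Surjective fP :=
    RingHom.surjective_localRingHom_of_surjective f₀.toRingHom hf₀ p
  algebraize [fP]
  have : IsScalarTower k T (Localization.AtPrime p) := by
    refine IsScalarTower.of_algebraMap_eq fun x => ?_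
    rw [IsScalarTower.algebraMap_apply k (MvPolynomial (Fin n) k) T, RingHom.algebraMap_toAlgebra]
    change _ = Localization.localRingHom Q p f₀.toRingHom rfl _
    rw [Localization.localRingHom_to_map]
    change _ = algebraMap B _ (f₀ _)
    rw [f₀.commutes, ← IsScalarTower.algebraMap_apply]
  let e : MvPolynomial (ULift.{u} (Fin n)) k ≃ₐ[k] MvPolynomial (Fin n) k :=
    MvPolynomial.renameEquiv k Equiv.ulift
  have hreg : Subsingleton (CotT.T2 (CotT.canon T (Localization.AtPrime p)) M) :=
    subsingleton_T2_of_regular T (Localization.AtPrime p) hfP M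
  constructor
  · letI : Module T M := Module.compHom M (algebraMap T (Localization.AtPrime p))
    haveI : IsScalarTower T (Localization.AtPrime p) M := IsScalarTower.of_compHom _ _ _
    exact subsingleton_T2_mid k T (Localization.AtPrime p) M hreg
      (subsingleton_T2_polyLoc k (MvPolynomial (Fin n) k) T (ULift.{u} (Fin n)) e Q.primeCompl M)
  · intro _ _
    algebraize [f₀.toRingHom]
    have : IsScalarTower k (MvPolynomial (Fin n) k) B :=
      IsScalarTower.of_algebraMap_eq' f₀.comp_algebraMap.symm
    have : IsScalarTower (MvPolynomial (Fin n) k) T (Localization.AtPrime p) := by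
      refine IsScalarTower.of_algebraMap_eq fun x => ?_
      rw [IsScalarTower.algebraMap_apply (MvPolynomial (Fin n) k) B (Localization.AtPrime p)]
      change algebraMap B _ (f₀ x) = Localization.localRingHom Q p f₀.toRingHom rfl _
      rw [Localization.localRingHom_to_map]
      rfl
    have : IsLocalization (Algebra.algebraMapSubmonoid B Q.primeCompl)
        (Localization.AtPrime p) := by
      have hW : Algebra.algebraMapSubmonoid B Q.primeCompl = p.primeCompl :=
        Submonoid.map_comap_eq_of_surjective hf₀ p.primeCompl
      rw [hW]
      infer_instance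
    have h1 : Subsingleton (CotT.T2 (CotT.canon (MvPolynomial (Fin n) k) B) M) :=
      subsingleton_T2_canon_of_loc (MvPolynomial (Fin n) k) B T (Localization.AtPrime p)
        Q.primeCompl M hreg
    letI : Module (MvPolynomial (Fin n) k) M :=
      Module.compHom M (algebraMap (MvPolynomial (Fin n) k) B)
    haveI : IsScalarTower (MvPolynomial (Fin n) k) B M := IsScalarTower.of_compHom _ _ _
    exact subsingleton_T2_mid k (MvPolynomial (Fin n) k) B M h1
      (Groth.Agent.S12287.result k (MvPolynomial (Fin n) k) (ULift.{u} (Fin n)) e M).2

end AtRegular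

end Groth.Agent.Lib.Helper62.CotTLoc

end
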