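import Mathlib.Algebra.Module.SnakeLemma
import Mathlib.GroupTheory.QuotientGroup.Basic
import Mathlib.Algebra.Module.LinearMap.Basic
import Mathlib.Tactic.Abel

/-! The nine term exact cohomology sequence of a left exact sequence `0 → K' → K → K''` of three term
cochain complexes of abelian groups (`K → K''` surjective in degrees `0` and `1`), with the
cohomology groups given through an interface (helper62). -/

open Function

namespace Groth.Agent.Lib.Helper62.NineTerm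

/-- An interface for the cohomology of a three term complex `C0 → C1 → C2`. -/
structure Coh {C0 C1 C2 : Type*} [AddCommGroup C0] [AddCommGroup C1] [AddCommGroup C2]
    (d0 : C0 →+ C1) (d1 : C1 →+ C2) (H0 H1 H2 : Type*)
    [AddCommGroup H0] [AddCommGroup H1] [AddCommGroup H2] where
  ι0 : H0 →+ C0
  ι0_inj : Injective ι0
  ι0_exact : Exact ι0 d0
  π1 : d1.ker →+ H1
  π1_surj : Surjective π1
  π1_ker : ∀ z : d1.ker, π1 z = 0 ↔ ∃ φ, d0 φ = z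
  π2 : C2 →+ H2
  π2_surj : Surjective π2
  π2_exact : Exact d1 π2

section kerMap

variable {C1 C2 D1 D2 : Type*} [AddCommGroup C1] [AddCommGroup C2] [AddCommGroup D1]
  [AddCommGroup D2] {d1 : C1 →+ C2} {e1 : D1 →+ D2} (f1 : C1 →+ D1) (f2 : C2 →+ D2)
  (h : ∀ x, e1 (f1 x) = f2 (d1 x))

/-- the induced map on kernels. -/
def kerMap : d1.ker →+ e1.ker :=
  (f1.comp d1.ker.subtype).codRestrict e1.ker (fun z => by
    rw [AddMonoidHom.mem_ker, AddMonoidHom.comp_apply, h]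
    have : d1 (z : C1) = 0 := z.2
    rw [AddSubgroup.coe_subtype, this, map_zero])

@[simp] lemma kerMap_coe (z : d1.ker) : ((kerMap f1 f2 h z : e1.ker) : D1) = f1 (z : C1) := rfl

end kerMap

section main

variable {C0' C1' C2' C0 C1 C2 C0'' C1'' C2'' : Type*}
  [AddCommGroup C0'] [AddCommGroup C1'] [AddCommGroup C2']
  [AddCommGroup C0] [AddCommGroup C1] [AddCommGroup C2]
  [AddCommGroup C0''] [AddCommGroup C1''] [AddCommGroup C2'']
  {d0' : C0' →+ C1'} {d1' : C1' →+ C2'} {d0 : C0 →+ C1} {d1 : C1 →+ C2}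
  {d0'' : C0'' →+ C1''} {d1'' : C1'' →+ C2''}
  (hd' : ∀ x, d1' (d0' x) = 0) (hd : ∀ x, d1 (d0 x) = 0) (hd'' : ∀ x, d1'' (d0'' x) = 0)
  (a0 : C0' →+ C0) (a1 : C1' →+ C1) (a2 : C2' →+ C2)
  (b0 : C0 →+ C0'') (b1 : C1 →+ C1'') (b2 : C2 →+ C2'')
  (ha0 : ∀ x, d0 (a0 x) = a1 (d0' x)) (ha1 : ∀ x, d1 (a1 x) = a2 (d1' x))
  (hb0 : ∀ x, d0'' (b0 x) = b1 (d0 x)) (hb1 : ∀ x, d1'' (b1 x) = b2 (d1 x))
  (ia0 : Injective a0) (ia1 : Injective a1) (ia2 : Injective a2)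
  (e0 : Exact a0 b0) (e1 : Exact a1 b1) (e2 : Exact a2 b2)
  (sb0 : Surjective b0) (sb1 : Surjective b1)
  {H0' H1' H2' H0 H1 H2 H0'' H1'' H2'' : Type*}
  [AddCommGroup H0'] [AddCommGroup H1'] [AddCommGroup H2']
  [AddCommGroup H0] [AddCommGroup H1] [AddCommGroup H2]
  [AddCommGroup H0''] [AddCommGroup H1''] [AddCommGroup H2'']
  (K' : Coh d0' d1' H0' H1' H2') (K : Coh d0 d1 H0 H1 H2) (K'' : Coh d0'' d1'' H0'' H1'' H2'')
  (α0 : H0' →+ H0) (α1 : H1' →+ H1) (α2 : H2' →+ H2)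
  (β0 : H0 →+ H0'') (β1 : H1 →+ H1'') (β2 : H2 →+ H2'')
  (hα0 : ∀ t, K.ι0 (α0 t) = a0 (K'.ι0 t))
  (hα1 : ∀ z, α1 (K'.π1 z) = K.π1 (kerMap a1 a2 ha1 z))
  (hα2 : ∀ x, α2 (K'.π2 x) = K.π2 (a2 x))
  (hβ0 : ∀ t, K''.ι0 (β0 t) = b0 (K.ι0 t))
  (hβ1 : ∀ z, β1 (K.π1 z) = K''.π1 (kerMap b1 b2 hb1 z))
  (hβ2 : ∀ x, β2 (K.π2 x) = K''.π2 (b2 x))

include ia0 hα0 in
lemma α0_injective : Injective α0 := by
  rw [injective_iff_map_eq_zero]
  intro t ht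
  apply K'.ι0_inj
  apply ia0
  rw [← hα0, ht, map_zero, map_zero, map_zero]

include ia1 e0 ha0 hα0 hβ0 in
lemma exact_α0_β0 : Exact α0 β0 := by
  intro t
  constructor
  · intro h
    have h1 : b0 (K.ι0 t) = 0 := by rw [← hβ0, h, map_zero]
    obtain ⟨x', hx'⟩ := (e0 _).mp h1
    have h2 : d0' x' = 0 := by
      apply ia1
      rw [← ha0, hx', map_zero]
      exact (K.ι0_exact _).mpr ⟨t, rfl⟩
    obtain ⟨t', ht'⟩ := (K'.ι0_exact _).mp h2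
    refine ⟨t', ?_⟩
    apply K.ι0_inj
    rw [hα0, ht', hx']
  · rintro ⟨t', rfl⟩
    apply K''.ι0_inj
    rw [hβ0, hα0, map_zero]
    exact (e0 _).mpr ⟨_, rfl⟩

/-- `d0 φ` as an element of the kernel of `d1`. -/
def bdry (φ : C0) : d1.ker := ⟨d0 φ, hd φ⟩

lemma π1_bdry (φ : C0) : K.π1 (bdry hd φ) = 0 := (K.π1_ker _).mpr ⟨φ, rfl⟩

include ia2 e1 sb0 hb0 hα1 hβ1 hd in
lemma exact_α1_β1 : Exact α1 β1 := by
  intro t
  constructor
  · intro h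
    obtain ⟨z, rfl⟩ := K.π1_surj t
    rw [hβ1, K''.π1_ker] at h
    obtain ⟨φ'', hφ''⟩ := h
    obtain ⟨φ, rfl⟩ := sb0 φ''
    have h1 : b1 ((z : C1) - d0 φ) = 0 := by
      rw [map_sub, ← hb0, hφ'']
      exact sub_self _
    obtain ⟨z', hz'⟩ := (e1 _).mp h1
    have h2 : d1' z' = 0 := by
      apply ia2
      rw [← ha1, hz', map_sub, hd, sub_zero, map_zero]
      exact z.2
    refine ⟨K'.π1 ⟨z', h2⟩, ?_⟩
    rw [hα1]
    have h3 : kerMap a1 a2 ha1 ⟨z', h2⟩ = z - bdry hd φ := by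
      apply Subtype.ext
      exact hz'
    rw [h3, map_sub, π1_bdry, sub_zero]
  · rintro ⟨t', rfl⟩
    obtain ⟨z', rfl⟩ := K'.π1_surj t'
    rw [hα1, hβ1]
    have : kerMap b1 b2 hb1 (kerMap a1 a2 ha1 z') = 0 := by
      apply Subtype.ext
      exact (e1 _).mpr ⟨_, rfl⟩
    rw [this, map_zero]

include e2 sb1 hb1 hα2 hβ2 in
lemma exact_α2_β2 : Exact α2 β2 := by
  intro t
  constructor
  · intro h
    obtain ⟨x, rfl⟩ := K.π2_surj t
    rw [hβ2] at h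
    obtain ⟨c'', hc''⟩ := (K''.π2_exact _).mp h
    obtain ⟨c, rfl⟩ := sb1 c''
    have h1 : b2 (x - d1 c) = 0 := by
      rw [map_sub, ← hb1, hc'']
      exact sub_self _
    obtain ⟨x', hx'⟩ := (e2 _).mp h1
    refine ⟨K'.π2 x', ?_⟩
    rw [hα2, hx', map_sub, (K.π2_exact _).mpr ⟨c, rfl⟩, sub_zero]
  · rintro ⟨t', rfl⟩
    obtain ⟨x', rfl⟩ := K'.π2_surj t'
    rw [hα2, hβ2, (e2 _).mpr ⟨_, rfl⟩, map_zero]


section connecting0

/-- `d0` with values in the kernel of `d1`. -/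
def toZ : C0 →+ d1.ker := d0.codRestrict d1.ker (fun φ => hd φ)

lemma toZ_coe (φ : C0) : ((toZ hd φ : d1.ker) : C1) = d0 φ := rfl

lemma exact_ι0_toZ : Exact K.ι0 (toZ hd) := by
  intro x
  rw [← K.ι0_exact x]
  constructor
  · intro h
    exact congrArg Subtype.val h
  · intro h
    exact Subtype.ext h

lemma exact_toZ_π1 : Exact (toZ hd) K.π1 := by
  intro z
  rw [K.π1_ker]
  constructor
  · rintro ⟨φ, hφ⟩
    exact ⟨φ, Subtype.ext hφ⟩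
  · rintro ⟨φ, rfl⟩
    exact ⟨φ, rfl⟩

include ia1 in
lemma kerMap_a_injective : Injective (kerMap a1 a2 ha1) := by
  intro z z' h
  apply Subtype.ext
  apply ia1
  exact congrArg Subtype.val h

include ia2 e1 in
lemma exact_kerMap : Exact (kerMap a1 a2 ha1) (kerMap b1 b2 hb1) := by
  intro z
  constructor
  · intro h
    have h1 : b1 (z : C1) = 0 := congrArg Subtype.val h
    obtain ⟨z', hz'⟩ := (e1 _).mp h1
    have h2 : d1' z' = 0 := by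
      apply ia2
      rw [← ha1, hz', map_zero]
      exact z.2
    exact ⟨⟨z', h2⟩, Subtype.ext hz'⟩
  · rintro ⟨z', rfl⟩
    apply Subtype.ext
    exact (e1 _).mpr ⟨_, rfl⟩

/-- the first connecting map. -/
noncomputable def δ0 : H0'' →+ H1' :=
  (SnakeLemma.δ' (toZ hd').toIntLinearMap (toZ hd).toIntLinearMap (toZ hd'').toIntLinearMap
    a0.toIntLinearMap b0.toIntLinearMap e0
    (kerMap a1 a2 ha1).toIntLinearMap (kerMap b1 b2 hb1).toIntLinearMap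
    (exact_kerMap a1 a2 b1 b2 ha1 hb1 ia2 e1)
    (by ext φ; exact (ha0 φ).symm) (by ext φ; exact (hb0 φ).symm)
    K''.ι0.toIntLinearMap (exact_ι0_toZ hd'' K'')
    K'.π1.toIntLinearMap (exact_toZ_π1 hd' K') sb0
    (kerMap_a_injective a1 a2 ha1 ia1)).toAddMonoidHom

include hβ0 in
lemma exact_β0_δ0 : Exact β0 (δ0 hd' hd hd'' a0 a1 a2 b0 b1 b2 ha0 ha1 hb0 hb1 ia1 ia2 e0 e1 sb0 K' K'') :=
  SnakeLemma.exact_δ'_right (toZ hd').toIntLinearMap (toZ hd).toIntLinearMap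
    (toZ hd'').toIntLinearMap a0.toIntLinearMap b0.toIntLinearMap e0
    (kerMap a1 a2 ha1).toIntLinearMap (kerMap b1 b2 hb1).toIntLinearMap
    (exact_kerMap a1 a2 b1 b2 ha1 hb1 ia2 e1)
    (by ext φ; exact (ha0 φ).symm) (by ext φ; exact (hb0 φ).symm)
    K.ι0.toIntLinearMap (exact_ι0_toZ hd K)
    K''.ι0.toIntLinearMap (exact_ι0_toZ hd'' K'')
    K'.π1.toIntLinearMap (exact_toZ_π1 hd' K') sb0
    (kerMap_a_injective a1 a2 ha1 ia1) β0.toIntLinearMap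
    (by ext t; exact (hβ0 t).symm) K''.ι0_inj

include hα1 in
lemma exact_δ0_α1 : Exact (δ0 hd' hd hd'' a0 a1 a2 b0 b1 b2 ha0 ha1 hb0 hb1 ia1 ia2 e0 e1 sb0 K' K'') α1 :=
  SnakeLemma.exact_δ'_left (toZ hd').toIntLinearMap (toZ hd).toIntLinearMap
    (toZ hd'').toIntLinearMap a0.toIntLinearMap b0.toIntLinearMap e0
    (kerMap a1 a2 ha1).toIntLinearMap (kerMap b1 b2 hb1).toIntLinearMap
    (exact_kerMap a1 a2 b1 b2 ha1 hb1 ia2 e1)
    (by ext φ; exact (ha0 φ).symm) (by ext φ; exact (hb0 φ).symm)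
    K''.ι0.toIntLinearMap (exact_ι0_toZ hd'' K'')
    K'.π1.toIntLinearMap (exact_toZ_π1 hd' K')
    K.π1.toIntLinearMap (exact_toZ_π1 hd K) sb0
    (kerMap_a_injective a1 a2 ha1 ia1) α1.toIntLinearMap
    (by ext z; exact hα1 z) K'.π1_surj

end connecting0

section connecting1

/-- `C1 / im d0`. -/
abbrev Q1 (d0 : C0 →+ C1) : Type _ := C1 ⧸ d0.range

/-- the map `C1 / im d0 → C2` induced by `d1`. -/
def fromQ : Q1 d0 →+ C2 :=
  QuotientAddGroup.lift d0.range d1 (by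
    rintro _ ⟨φ, rfl⟩
    exact hd φ)

lemma fromQ_mk (c : C1) : fromQ hd (QuotientAddGroup.mk c : Q1 d0) = d1 c := rfl

/-- the map induced on `C1 / im d0`. -/
def Qmap {D0 D1 : Type*} [AddCommGroup D0] [AddCommGroup D1] {e0 : D0 →+ D1}
    (f0 : C0 →+ D0) (f1 : C1 →+ D1) (h : ∀ x, e0 (f0 x) = f1 (d0 x)) : Q1 d0 →+ Q1 e0 :=
  QuotientAddGroup.map d0.range e0.range f1 (by
    rintro _ ⟨φ, rfl⟩
    exact ⟨f0 φ, h φ⟩)

lemma Qmap_mk {D0 D1 : Type*} [AddCommGroup D0] [AddCommGroup D1] {e0 : D0 →+ D1}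
    (f0 : C0 →+ D0) (f1 : C1 →+ D1) (h : ∀ x, e0 (f0 x) = f1 (d0 x)) (c : C1) :
    Qmap f0 f1 h (QuotientAddGroup.mk c : Q1 d0) = (QuotientAddGroup.mk (f1 c) : Q1 e0) := rfl

/-- the cocycles modulo coboundaries inside `C1 / im d0`, before passing to `H1`. -/
def preJ : d1.ker →+ Q1 d0 := (QuotientAddGroup.mk' d0.range).comp d1.ker.subtype

lemma ker_π1_le : K.π1.ker ≤ (preJ (d0 := d0) (d1 := d1)).ker := by
  intro z hz
  rw [AddMonoidHom.mem_ker] at hz ⊢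
  obtain ⟨φ, hφ⟩ := (K.π1_ker z).mp hz
  change (QuotientAddGroup.mk (z : C1) : Q1 d0) = 0
  rw [QuotientAddGroup.eq_zero_iff]
  exact ⟨φ, hφ⟩

/-- the inclusion `H1 → C1 / im d0`. -/
noncomputable def j1 : H1 →+ Q1 d0 :=
  (QuotientAddGroup.lift K.π1.ker preJ (ker_π1_le K)).comp
    (QuotientAddGroup.quotientKerEquivOfSurjective K.π1 K.π1_surj).symm.toAddMonoidHom

lemma j1_π1 (z : d1.ker) : j1 K (K.π1 z) = (QuotientAddGroup.mk (z : C1) : Q1 d0) := by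
  have h : (QuotientAddGroup.quotientKerEquivOfSurjective K.π1 K.π1_surj).symm (K.π1 z) =
      QuotientAddGroup.mk z := by
    rw [AddEquiv.symm_apply_eq]
    rfl
  change QuotientAddGroup.lift K.π1.ker preJ (ker_π1_le K)
    ((QuotientAddGroup.quotientKerEquivOfSurjective K.π1 K.π1_surj).symm (K.π1 z)) = _
  rw [h]
  rfl

lemma j1_injective : Injective (j1 K) := by
  rw [injective_iff_map_eq_zero]
  intro t ht
  obtain ⟨z, rfl⟩ := K.π1_surj t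
  rw [j1_π1, QuotientAddGroup.eq_zero_iff] at ht
  obtain ⟨φ, hφ⟩ := ht
  exact (K.π1_ker z).mpr ⟨φ, hφ⟩

lemma exact_j1_fromQ : Exact (j1 K) (fromQ hd) := by
  intro y
  obtain ⟨c, rfl⟩ := QuotientAddGroup.mk_surjective y
  rw [fromQ_mk]
  constructor
  · intro h
    exact ⟨K.π1 ⟨c, h⟩, j1_π1 K _⟩
  · rintro ⟨t, ht⟩
    obtain ⟨z, rfl⟩ := K.π1_surj t
    rw [j1_π1, QuotientAddGroup.eq] at ht
    obtain ⟨φ, hφ⟩ := ht
    have hc : c = (z : C1) + d0 φ := by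
      rw [hφ]; abel
    rw [hc, map_add, hd, add_zero]
    exact z.2

lemma exact_fromQ_π2 : Exact (fromQ hd) K.π2 := by
  intro x
  rw [K.π2_exact x]
  constructor
  · rintro ⟨c, hc⟩
    exact ⟨QuotientAddGroup.mk c, hc⟩
  · rintro ⟨y, hy⟩
    obtain ⟨c, rfl⟩ := QuotientAddGroup.mk_surjective y
    exact ⟨c, hy⟩

include sb1 in
lemma Qmap_b_surjective : Surjective (Qmap b0 b1 hb0) := by
  intro y
  obtain ⟨c'', rfl⟩ := QuotientAddGroup.mk_surjective y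
  obtain ⟨c, rfl⟩ := sb1 c''
  exact ⟨QuotientAddGroup.mk c, rfl⟩

include sb0 e1 in
lemma exact_Qmap : Exact (Qmap a0 a1 ha0) (Qmap b0 b1 hb0) := by
  intro y
  obtain ⟨c, rfl⟩ := QuotientAddGroup.mk_surjective y
  rw [Qmap_mk]
  constructor
  · intro h
    rw [QuotientAddGroup.eq_zero_iff] at h
    obtain ⟨φ'', hφ''⟩ := h
    obtain ⟨φ, rfl⟩ := sb0 φ''
    have h1 : b1 (c - d0 φ) = 0 := by
      rw [map_sub, ← hb0, hφ'']
      exact sub_self _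
    obtain ⟨c', hc'⟩ := (e1 _).mp h1
    refine ⟨QuotientAddGroup.mk c', ?_⟩
    rw [Qmap_mk, hc', QuotientAddGroup.eq]
    refine ⟨φ, ?_⟩
    abel
  · rintro ⟨y', hy'⟩
    obtain ⟨c', rfl⟩ := QuotientAddGroup.mk_surjective y'
    rw [Qmap_mk, QuotientAddGroup.eq] at hy'
    obtain ⟨φ, hφ⟩ := hy'
    have hc : c = a1 c' + d0 φ := by
      rw [hφ]; abel
    rw [QuotientAddGroup.eq_zero_iff, hc, map_add, (e1 _).mpr ⟨c', rfl⟩, zero_add, ← hb0]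
    exact ⟨_, rfl⟩

/-- the second connecting map. -/
noncomputable def δ1 : H1'' →+ H2' :=
  (SnakeLemma.δ' (fromQ hd').toIntLinearMap (fromQ hd).toIntLinearMap (fromQ hd'').toIntLinearMap
    (Qmap a0 a1 ha0).toIntLinearMap (Qmap b0 b1 hb0).toIntLinearMap
    (exact_Qmap a0 a1 b0 b1 ha0 hb0 e1 sb0)
    a2.toIntLinearMap b2.toIntLinearMap e2
    (by
      ext y
      obtain ⟨c, rfl⟩ := QuotientAddGroup.mk_surjective y
      exact (ha1 c).symm)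
    (by
      ext y
      obtain ⟨c, rfl⟩ := QuotientAddGroup.mk_surjective y
      exact (hb1 c).symm)
    (j1 K'').toIntLinearMap (exact_j1_fromQ hd'' K'')
    K'.π2.toIntLinearMap (exact_fromQ_π2 hd' K')
    (Qmap_b_surjective b0 b1 hb0 sb1) ia2).toAddMonoidHom

include hβ1 in
lemma exact_β1_δ1 :
    Exact β1 (δ1 hd' hd'' a0 a1 a2 b0 b1 b2 ha0 ha1 hb0 hb1 ia2 e1 e2 sb0 sb1 K' K'' (hd := hd)) :=
  SnakeLemma.exact_δ'_right (fromQ hd').toIntLinearMap (fromQ hd).toIntLinearMap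
    (fromQ hd'').toIntLinearMap
    (Qmap a0 a1 ha0).toIntLinearMap (Qmap b0 b1 hb0).toIntLinearMap
    (exact_Qmap a0 a1 b0 b1 ha0 hb0 e1 sb0)
    a2.toIntLinearMap b2.toIntLinearMap e2
    (by
      ext y
      obtain ⟨c, rfl⟩ := QuotientAddGroup.mk_surjective y
      exact (ha1 c).symm)
    (by
      ext y
      obtain ⟨c, rfl⟩ := QuotientAddGroup.mk_surjective y
      exact (hb1 c).symm)
    (j1 K).toIntLinearMap (exact_j1_fromQ hd K)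
    (j1 K'').toIntLinearMap (exact_j1_fromQ hd'' K'')
    K'.π2.toIntLinearMap (exact_fromQ_π2 hd' K')
    (Qmap_b_surjective b0 b1 hb0 sb1) ia2 β1.toIntLinearMap
    (by
      ext t
      obtain ⟨z, rfl⟩ := K.π1_surj t
      change Qmap b0 b1 hb0 (j1 K (K.π1 z)) = j1 K'' (β1 (K.π1 z))
      rw [hβ1, j1_π1, j1_π1]
      rfl)
    (j1_injective K'')

include hα2 in
lemma exact_δ1_α2 :
    Exact (δ1 hd' hd'' a0 a1 a2 b0 b1 b2 ha0 ha1 hb0 hb1 ia2 e1 e2 sb0 sb1 K' K'' (hd := hd)) α2 :=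
  SnakeLemma.exact_δ'_left (fromQ hd').toIntLinearMap (fromQ hd).toIntLinearMap
    (fromQ hd'').toIntLinearMap
    (Qmap a0 a1 ha0).toIntLinearMap (Qmap b0 b1 hb0).toIntLinearMap
    (exact_Qmap a0 a1 b0 b1 ha0 hb0 e1 sb0)
    a2.toIntLinearMap b2.toIntLinearMap e2
    (by
      ext y
      obtain ⟨c, rfl⟩ := QuotientAddGroup.mk_surjective y
      exact (ha1 c).symm)
    (by
      ext y
      obtain ⟨c, rfl⟩ := QuotientAddGroup.mk_surjective y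
      exact (hb1 c).symm)
    (j1 K'').toIntLinearMap (exact_j1_fromQ hd'' K'')
    K'.π2.toIntLinearMap (exact_fromQ_π2 hd' K')
    K.π2.toIntLinearMap (exact_fromQ_π2 hd K)
    (Qmap_b_surjective b0 b1 hb0 sb1) ia2 α2.toIntLinearMap
    (by ext x; exact hα2 x) K'.π2_surj

end connecting1

include hd' hd hd'' ha0 hb0 ia0 ia1 ia2 e0 e1 e2 sb0 sb1 hα0 hα1 hα2 hβ0 hβ1 hβ2 in
/-- the nine term exact sequence. -/
theorem nine_term :
    Injective α0 ∧ Exact α0 β0 ∧ Exact α1 β1 ∧ Exact α2 β2 ∧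
    ∃ (δ₀ : H0'' →+ H1') (δ₁ : H1'' →+ H2'),
      Exact β0 δ₀ ∧ Exact δ₀ α1 ∧ Exact β1 δ₁ ∧ Exact δ₁ α2 :=
  ⟨α0_injective (a0 := a0) (ia0 := ia0) (K' := K') (K := K) (α0 := α0) (hα0 := hα0),
   exact_α0_β0 (a0 := a0) (a1 := a1) (b0 := b0) (ha0 := ha0) (ia1 := ia1) (e0 := e0) (K' := K')
     (K := K) (K'' := K'') (α0 := α0) (β0 := β0) (hα0 := hα0) (hβ0 := hβ0),
   exact_α1_β1 (hd := hd) (a1 := a1) (a2 := a2) (b0 := b0) (b1 := b1) (b2 := b2) (ha1 := ha1)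
     (hb0 := hb0) (hb1 := hb1) (ia2 := ia2) (e1 := e1) (sb0 := sb0) (K' := K') (K := K)
     (K'' := K'') (α1 := α1) (β1 := β1) (hα1 := hα1) (hβ1 := hβ1),
   exact_α2_β2 (a2 := a2) (b1 := b1) (b2 := b2) (hb1 := hb1) (e2 := e2) (sb1 := sb1) (K' := K')
     (K := K) (K'' := K'') (α2 := α2) (β2 := β2) (hα2 := hα2) (hβ2 := hβ2),
   δ0 hd' hd hd'' a0 a1 a2 b0 b1 b2 ha0 ha1 hb0 hb1 ia1 ia2 e0 e1 sb0 K' K'',
   δ1 hd' hd'' a0 a1 a2 b0 b1 b2 ha0 ha1 hb0 hb1 ia2 e1 e2 sb0 sb1 K' K'' (hd := hd),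
   exact_β0_δ0 (hd' := hd') (hd := hd) (hd'' := hd'') (ha0 := ha0) (ha1 := ha1) (hb0 := hb0)
     (hb1 := hb1) (ia1 := ia1) (ia2 := ia2) (e0 := e0) (e1 := e1) (sb0 := sb0) (K' := K') (K := K)
     (K'' := K'') (β0 := β0) (hβ0 := hβ0),
   exact_δ0_α1 (hd' := hd') (hd := hd) (hd'' := hd'') (ha0 := ha0) (ha1 := ha1) (hb0 := hb0)
     (hb1 := hb1) (ia1 := ia1) (ia2 := ia2) (e0 := e0) (e1 := e1) (sb0 := sb0) (K' := K') (K := K)
     (K'' := K'') (α1 := α1) (hα1 := hα1),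
   exact_β1_δ1 (hd' := hd') (hd := hd) (hd'' := hd'') (ha0 := ha0) (ha1 := ha1) (hb0 := hb0)
     (hb1 := hb1) (ia2 := ia2) (e1 := e1) (e2 := e2) (sb0 := sb0) (sb1 := sb1) (K' := K') (K := K)
     (K'' := K'') (β1 := β1) (hβ1 := hβ1),
   exact_δ1_α2 (hd' := hd') (hd := hd) (hd'' := hd'') (ha0 := ha0) (ha1 := ha1) (hb0 := hb0)
     (hb1 := hb1) (ia2 := ia2) (e1 := e1) (e2 := e2) (sb0 := sb0) (sb1 := sb1) (K' := K') (K := K)
     (K'' := K'') (α2 := α2) (hα2 := hα2)⟩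

end main

end Groth.Agent.Lib.Helper62.NineTerm
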