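import Groth.Prelude.Def_CotT2
import Groth.Agent.Lib.Helper62.CotTBasic
import Groth.Agent.Lib.Helper62.NineTerm

/-! The cotangent functors `Tⁱ` of a presentation as the cohomology (in the sense of the interface
`NineTerm.Coh`) of `Hom(L•, M)`; compatibility of the maps induced by a morphism of presentations;
description of maps out of `L₂` through the relation module (helper62). -/

universe u v w t u' v' w' t' m

open TensorProduct Function

noncomputable section

namespace Groth.Agent.Lib.Helper62.CotTNine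

open Groth.Agent.Lib.Helper62.NineTerm

section CohLin

variable {B : Type*} [CommRing B] {C0 C1 C2 : Type*} [AddCommGroup C0] [Module B C0]
  [AddCommGroup C1] [Module B C1] [AddCommGroup C2] [Module B C2]
  (f : C0 →ₗ[B] C1) (g : C1 →ₗ[B] C2)

/-- the class of a cocycle. -/
def cls1 : g.toAddMonoidHom.ker →+
    (LinearMap.ker g ⧸ (LinearMap.range f).comap (LinearMap.ker g).subtype) where
  toFun z := Submodule.Quotient.mk ⟨z.1, z.2⟩
  map_zero' := rfl
  map_add' _ _ := rfl

lemma cls1_apply (z : g.toAddMonoidHom.ker) :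
    cls1 f g z = Submodule.Quotient.mk ⟨z.1, z.2⟩ := rfl

/-- kernel, cocycles modulo coboundaries and cokernel are the cohomology groups. -/
def cohOfLin : Coh f.toAddMonoidHom g.toAddMonoidHom
    (LinearMap.ker f) (LinearMap.ker g ⧸ (LinearMap.range f).comap (LinearMap.ker g).subtype)
    (C2 ⧸ LinearMap.range g) where
  ι0 := (LinearMap.ker f).subtype.toAddMonoidHom
  ι0_inj := Subtype.val_injective
  ι0_exact := fun x => ⟨fun h => ⟨⟨x, h⟩, rfl⟩, by rintro ⟨t, rfl⟩; exact t.2⟩
  π1 := cls1 f g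
  π1_surj := by
    intro t
    obtain ⟨c, rfl⟩ := Submodule.Quotient.mk_surjective _ t
    exact ⟨⟨c.1, c.2⟩, rfl⟩
  π1_ker := fun z => by
    rw [cls1_apply, Submodule.Quotient.mk_eq_zero, Submodule.mem_comap, LinearMap.mem_range]
    rfl
  π2 := (LinearMap.range g).mkQ.toAddMonoidHom
  π2_surj := Submodule.mkQ_surjective _
  π2_exact := fun x => by
    change (LinearMap.range g).mkQ x = 0 ↔ _
    rw [Submodule.mkQ_apply, Submodule.Quotient.mk_eq_zero, LinearMap.mem_range]
    rfl

end CohLin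

section CohOf

variable {A : Type u} {B : Type v} {ι : Type w} {σ : Type t}
variable [CommRing A] [CommRing B] [Algebra A B]
variable (P : Algebra.Presentation A B ι σ) (M : Type m) [AddCommGroup M] [Module B M]

/-- `Tⁱ(P, M)` are the cohomology groups of `Hom(L•, M)`. -/
def cohOf : Coh (CotT.d1Star P M).toAddMonoidHom (CotT.d2Star P M).toAddMonoidHom
    (CotT.T0 P M) (CotT.T1 P M) (CotT.T2 P M) :=
  cohOfLin (CotT.d1Star P M) (CotT.d2Star P M)

lemma exists_mk_T2 (t : CotT.T2 P M) :
    ∃ ψ : CotT.L2 P →ₗ[B] M, (Submodule.Quotient.mk ψ : CotT.T2 P M) = t :=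
  (cohOf P M).π2_surj t

lemma exists_mk_T1 (t : CotT.T1 P M) :
    ∃ c : CotT.cocycles1 P M, (Submodule.Quotient.mk c : CotT.T1 P M) = t :=
  Submodule.Quotient.mk_surjective _ t

lemma d2Star_d1Star_apply (x : CotT.L0 P →ₗ[B] M) :
    (CotT.d2Star P M).toAddMonoidHom ((CotT.d1Star P M).toAddMonoidHom x) = 0 :=
  LinearMap.congr_fun (CotT.d2Star_comp_d1Star P M) x

end CohOf

section Pull

variable {A : Type u} {B : Type v} {ι : Type w} {σ : Type t}
variable {A' : Type u'} {B' : Type v'} {ι' : Type w'} {σ' : Type t'}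
variable [CommRing A] [CommRing B] [Algebra A B] [CommRing A'] [CommRing B'] [Algebra A' B']
variable [Algebra A A'] [Algebra B B'] [Algebra A B'] [IsScalarTower A A' B'] [IsScalarTower A B B']
variable {P : Algebra.Presentation A B ι σ} {P' : Algebra.Presentation A' B' ι' σ'}
variable (h : CotT.PresHom P P')
variable (M' : Type m) [AddCommGroup M'] [Module B' M'] [Module B M'] [IsScalarTower B B' M']

lemma pull1_d1Star' (x : CotT.L0 P' →ₗ[B'] M') :
    (CotT.d1Star P M').toAddMonoidHom ((h.pull0 M').toAddMonoidHom x) =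
      (h.pull1 M').toAddMonoidHom ((CotT.d1Star P' M').toAddMonoidHom x) :=
  (h.pull1_d1Star M' x).symm

lemma pull2_d2Star' (x : CotT.L1 P' →ₗ[B'] M') :
    (CotT.d2Star P M').toAddMonoidHom ((h.pull1 M').toAddMonoidHom x) =
      (h.pull2 M').toAddMonoidHom ((CotT.d2Star P' M').toAddMonoidHom x) :=
  (h.pull2_d2Star M' x).symm

lemma T0pull_compat (t : CotT.T0 P' M') :
    (cohOf P M').ι0 ((h.T0pull M').toAddMonoidHom t) =
      (h.pull0 M').toAddMonoidHom ((cohOf P' M').ι0 t) := rfl

lemma T1pull_compat (z : (CotT.d2Star P' M').toAddMonoidHom.ker) :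
    (h.T1pull M').toAddMonoidHom ((cohOf P' M').π1 z) =
      (cohOf P M').π1 (kerMap (h.pull1 M').toAddMonoidHom (h.pull2 M').toAddMonoidHom
        (pull2_d2Star' h M') z) := rfl

lemma T2pull_compat (x : CotT.L2 P' →ₗ[B'] M') :
    (h.T2pull M').toAddMonoidHom ((cohOf P' M').π2 x) =
      (cohOf P M').π2 ((h.pull2 M').toAddMonoidHom x) := rfl

end Pull

section Pattern

variable {B : Type*} {C : Type*} [CommRing B] [CommRing C]
  {X Y Z M : Type*} [AddCommGroup X] [Module B X] [AddCommGroup Y] [Module C Y]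
  [AddCommGroup Z] [Module C Z] [AddCommGroup M] [Module C M] [Module B M]
  {κ κ' : Type*} (bX : Module.Basis κ B X) (bY : Module.Basis (κ' ⊕ κ) C Y)
  (bZ : Module.Basis κ' C Z) (U : Y → Z) (V : X → Y)
  (hUl : ∀ i, U (bY (Sum.inl i)) = bZ i) (hUr : ∀ j, U (bY (Sum.inr j)) = 0)
  (hV : ∀ j, V (bX j) = bY (Sum.inr j))
  (a : (Z →ₗ[C] M) → (Y →ₗ[C] M)) (ha : ∀ ψ y, a ψ y = ψ (U y))
  (b : (Y →ₗ[C] M) → (X →ₗ[B] M)) (hb : ∀ ψ x, b ψ x = ψ (V x))

include hUl ha in
lemma pat_injective : Injective a := by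
  intro ψ ψ' h
  apply bZ.ext
  intro i
  rw [← hUl i, ← ha, ← ha, h]

include hUl hUr hV ha hb in
lemma pat_exact : Function.Exact a b := by
  intro ψ
  constructor
  · intro h
    refine ⟨bZ.constr C (fun i => ψ (bY (Sum.inl i))), ?_⟩
    apply bY.ext
    rintro (i | j)
    · rw [ha, hUl, Module.Basis.constr_basis]
    · rw [ha, hUr, map_zero]
      have := LinearMap.congr_fun h (bX j)
      rw [hb, hV] at this
      exact this.symm
  · rintro ⟨ψ', rfl⟩
    apply bX.ext
    intro j
    rw [hb, ha, hV, hUr, map_zero, LinearMap.zero_apply]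

include hV hb in
lemma pat_surjective : Surjective b := by
  intro φ
  refine ⟨bY.constr C (Sum.elim (fun _ => 0) (fun j => φ (bX j))), ?_⟩
  apply bX.ext
  intro j
  rw [hb, hV, Module.Basis.constr_basis]
  rfl

end Pattern

section Chi

variable {A : Type u} {B : Type v} {ι : Type w} {σ : Type t}
variable [CommRing A] [CommRing B] [Algebra A B]
variable (P : Algebra.Presentation A B ι σ) (M : Type m) [AddCommGroup M] [Module B M]

/-- the class of `b ⊗ q` in `L₂`. -/
def mk2 (b : B) (q : CotT.relKer P) : CotT.L2 P :=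
  Submodule.Quotient.mk (b ⊗ₜ[P.toExtension.Ring] q)

lemma mk2_add (b : B) (q q' : CotT.relKer P) : mk2 P b (q + q') = mk2 P b q + mk2 P b q' := by
  unfold mk2
  rw [TensorProduct.tmul_add, Submodule.Quotient.mk_add]

lemma mk2_smul (p : P.toExtension.Ring) (q : CotT.relKer P) :
    mk2 P 1 (p • q) = algebraMap P.toExtension.Ring B p • mk2 P 1 q := by
  unfold mk2
  rw [← Submodule.Quotient.mk_smul, TensorProduct.smul_tmul', TensorProduct.tmul_smul,
    TensorProduct.smul_tmul', Algebra.smul_def, mul_one, smul_eq_mul, mul_one]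

lemma mk2_eq_smul (b : B) (q : CotT.relKer P) : mk2 P b q = b • mk2 P 1 q := by
  unfold mk2
  rw [← Submodule.Quotient.mk_smul, TensorProduct.smul_tmul', smul_eq_mul, mul_one]

lemma mk2_eq_zero (q : CotT.relKer P) (hq : (q : CotT.relMod P) ∈ CotT.trivRel P) :
    mk2 P 1 q = 0 := by
  unfold mk2
  rw [Submodule.Quotient.mk_eq_zero]
  exact ⟨(1 : B) ⊗ₜ ⟨q, hq⟩, rfl⟩

/-- maps out of `L₂` agreeing on the classes of `1 ⊗ q` are equal. -/
lemma L2_hom_ext {ψ ψ' : CotT.L2 P →ₗ[B] M} (h : ∀ q, ψ (mk2 P 1 q) = ψ' (mk2 P 1 q)) :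
    ψ = ψ' := by
  apply LinearMap.ext
  intro z
  obtain ⟨y, rfl⟩ := Submodule.Quotient.mk_surjective _ z
  induction y using TensorProduct.induction_on with
  | zero => simp
  | add x y hx hy => rw [Submodule.Quotient.mk_add, map_add, map_add, hx, hy]
  | tmul b q =>
    change ψ (mk2 P b q) = ψ' (mk2 P b q)
    rw [mk2_eq_smul, map_smul, map_smul, h]

section ofChi

variable {P M}
variable (χ : CotT.relKer P →+ M)
  (hsmul : ∀ (p : P.toExtension.Ring) (q : CotT.relKer P),
    χ (p • q) = algebraMap P.toExtension.Ring B p • χ q)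
  (htriv : ∀ q : CotT.relKer P, (q : CotT.relMod P) ∈ CotT.trivRel P → χ q = 0)

/-- auxiliary additive map `B ⊗ Q → M`, `b ⊗ q ↦ b • χ q`. -/
def ofChiAdd : B ⊗[P.toExtension.Ring] CotT.relKer P →+ M :=
  TensorProduct.liftAddHom
    { toFun := fun b =>
        { toFun := fun q => b • χ q
          map_zero' := by rw [map_zero, smul_zero]
          map_add' := fun x y => by rw [map_add, smul_add] }
      map_zero' := AddMonoidHom.ext fun q => zero_smul _ _
      map_add' := fun b b' => AddMonoidHom.ext fun q => add_smul _ _ _ }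
    (fun r b q => by
      change (r • b) • χ q = b • χ (r • q)
      rw [hsmul, smul_smul, Algebra.smul_def, mul_comm])

lemma ofChiAdd_tmul (b : B) (q : CotT.relKer P) : ofChiAdd χ hsmul (b ⊗ₜ q) = b • χ q := rfl

/-- auxiliary linear map `B ⊗ Q → M`, `b ⊗ q ↦ b • χ q`. -/
def ofChiLin : B ⊗[P.toExtension.Ring] CotT.relKer P →ₗ[B] M where
  toFun := ofChiAdd χ hsmul
  map_add' x y := map_add _ x y
  map_smul' b z := by
    induction z using TensorProduct.induction_on with
    | zero => rw [smul_zero, map_zero, smul_zero]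
    | add x y hx hy => rw [smul_add, map_add, hx, hy, map_add, smul_add]
    | tmul c q =>
      rw [TensorProduct.smul_tmul', ofChiAdd_tmul, ofChiAdd_tmul, smul_eq_mul, mul_smul]
      rfl

lemma ofChiLin_tmul (b : B) (q : CotT.relKer P) : ofChiLin χ hsmul (b ⊗ₜ q) = b • χ q := rfl

/-- the linear map out of `L₂` given by a semilinear map on the relation module killing the
trivial relations. -/
def ofChi : CotT.L2 P →ₗ[B] M :=
  Submodule.liftQ _ (ofChiLin χ hsmul) (by
    rintro _ ⟨z, rfl⟩
    rw [LinearMap.mem_ker]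
    induction z using TensorProduct.induction_on with
    | zero => simp
    | add x y hx hy => rw [map_add, map_add, hx, hy, add_zero]
    | tmul b k =>
      rw [LinearMap.baseChange_tmul, ofChiLin_tmul]
      change b • χ (k : CotT.relKer P) = 0
      rw [htriv _ k.2, smul_zero])

lemma ofChi_mk2 (q : CotT.relKer P) : ofChi χ hsmul htriv (mk2 P 1 q) = χ q := by
  unfold ofChi mk2
  rw [Submodule.liftQ_apply, ofChiLin_tmul, one_smul]

end ofChi

end Chi

section ChiPull

variable {A : Type u} {B : Type v} {ι : Type w} {σ : Type t}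
variable {A' : Type u'} {B' : Type v'} {ι' : Type w'} {σ' : Type t'}
variable [CommRing A] [CommRing B] [Algebra A B] [CommRing A'] [CommRing B'] [Algebra A' B']
variable [Algebra A A'] [Algebra B B'] [Algebra A B'] [IsScalarTower A A' B'] [IsScalarTower A B B']
variable {P : Algebra.Presentation A B ι σ} {P' : Algebra.Presentation A' B' ι' σ'}
variable (h : CotT.PresHom P P')
variable (M' : Type m) [AddCommGroup M'] [Module B' M'] [Module B M'] [IsScalarTower B B' M']

lemma L2map_mk2 (q : CotT.relKer P) : h.L2map (mk2 P 1 q) = mk2 P' 1 (h.relKerMap q) := by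
  unfold mk2
  rw [CotT.PresHom.L2map_mk_tmul, map_one]

lemma pull2_mk2 (ψ : CotT.L2 P' →ₗ[B'] M') (q : CotT.relKer P) :
    h.pull2 M' ψ (mk2 P 1 q) = ψ (mk2 P' 1 (h.relKerMap q)) := by
  rw [CotT.PresHom.pull2_apply, L2map_mk2]

lemma L1map_basis (s : σ) :
    h.L1map (CotT.L1basis P s) = (1 : B') ⊗ₜ[P'.toExtension.Ring] h.relVal s := by
  rw [CotT.L1basis_apply, CotT.PresHom.L1map_tmul, map_one, CotT.PresHom.relModMap_single, map_one,
    one_smul]

end ChiPull

end Groth.Agent.Lib.Helper62.CotTNine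

end
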