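import Groth.Agent.Lib.Helper62.CotTNine1
import Mathlib.RingTheory.Kaehler.JacobiZariski

/-! The composite presentation of `C` over `A` built from presentations of `B` over `A` and of `C`
over `B`; the morphisms of presentations to and from it; exactness of the induced sequence of
`Hom(L•, M)` in degrees `0` and `1` (helper62). -/

universe u v x w t w' t' m

open TensorProduct Function MvPolynomial

noncomputable section

namespace Groth.Agent.Lib.Helper62.CotTNine

variable {A : Type u} {B : Type v} {C : Type x} [CommRing A] [CommRing B] [CommRing C]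
  [Algebra A B] [Algebra B C] [Algebra A C] [IsScalarTower A B C]
  {ι : Type w} {σ : Type t} {ι' : Type w'} {σ' : Type t'}
  (Q : Algebra.Presentation B C ι' σ') (P : Algebra.Presentation A B ι σ)

/-- the morphism from the composite presentation to the presentation over `B`. -/
def uHom : CotT.PresHom (Q.comp P) Q where
  hom := Q.toGenerators.ofComp P.toGenerators
  relVal := Sum.elim (fun r => Finsupp.single r 1) (fun _ => 0)
  jmap_relVal := by
    rintro (r | r)
    · rw [Sum.elim_inl, CotT.jmap_single, one_mul]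
      exact (Q.comp_aeval_relation_inl P r).symm
    · rw [Sum.elim_inr, map_zero]
      symm
      change (Q.toGenerators.ofComp P.toGenerators).toAlgHom (rename Sum.inr (P.relation r)) = 0
      rw [Algebra.Generators.toAlgHom_ofComp_rename]
      have : algebraMap P.toExtension.Ring B (P.relation r) = 0 := CotT.algebraMap_rel P r
      change MvPolynomial.C (algebraMap P.toExtension.Ring B (P.relation r)) = 0
      rw [this, map_zero]

/-- the morphism from the presentation of `B` over `A` to the composite presentation. -/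
def vHom : CotT.PresHom P (Q.comp P) where
  hom := Q.toGenerators.toComp P.toGenerators
  relVal r := Finsupp.single (Sum.inr r) 1
  jmap_relVal r := by
    rw [CotT.jmap_single, one_mul]
    change rename Sum.inr (P.relation r) = (Q.toGenerators.toComp P.toGenerators).toAlgHom _
    rw [Algebra.Generators.toComp_toAlgHom]

lemma uHom_ringHom (x : (Q.comp P).toExtension.Ring) :
    (uHom Q P).ringHom x = (Q.toGenerators.ofComp P.toGenerators).toAlgHom x := rfl

lemma vHom_ringHom (x : P.toExtension.Ring) :
    (vHom Q P).ringHom x = rename Sum.inr x := by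
  change (Q.toGenerators.toComp P.toGenerators).toAlgHom x = _
  rw [Algebra.Generators.toComp_toAlgHom]

section L0basis

variable {A' : Type*} {B' : Type*} {ι₁ : Type*} {σ₁ : Type*} {ι₂ : Type*} {σ₂ : Type*}
  {A₁ : Type*} {B₁ : Type*}
  [CommRing A₁] [CommRing B₁] [Algebra A₁ B₁] [CommRing A'] [CommRing B'] [Algebra A' B']
  [Algebra A₁ A'] [Algebra B₁ B'] [Algebra A₁ B'] [IsScalarTower A₁ A' B'] [IsScalarTower A₁ B₁ B']
  {P₁ : Algebra.Presentation A₁ B₁ ι₁ σ₁} {P₂ : Algebra.Presentation A' B' ι₂ σ₂}
  (h : CotT.PresHom P₁ P₂)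

lemma L0map_basis (i : ι₁) :
    h.L0map (P₁.toGenerators.cotangentSpaceBasis i) =
      (1 : B') ⊗ₜ[P₂.toExtension.Ring] KaehlerDifferential.D A' P₂.toExtension.Ring
        (h.ringHom (X i)) := by
  have e1 := Algebra.Generators.cotangentSpaceBasis_apply P₁.toGenerators i
  have e2 := Algebra.Extension.CotangentSpace.map_tmul h.hom.toExtensionHom (1 : B₁)
    (X i : MvPolynomial ι₁ A₁)
  rw [map_one] at e2
  exact (congrArg (Algebra.Extension.CotangentSpace.map h.hom.toExtensionHom) e1).trans e2

end L0basis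

section deg0

variable (M : Type m) [AddCommGroup M] [Module C M] [Module B M] [IsScalarTower B C M]

lemma uHom_L0map_inl (i : ι') :
    (uHom Q P).L0map ((Q.comp P).toGenerators.cotangentSpaceBasis (Sum.inl i)) =
      Q.toGenerators.cotangentSpaceBasis i := by
  refine (L0map_basis (uHom Q P) (Sum.inl i)).trans ?_
  refine Eq.trans ?_ (Algebra.Generators.cotangentSpaceBasis_apply Q.toGenerators i).symm
  have : (uHom Q P).ringHom (X (Sum.inl i) : MvPolynomial (ι' ⊕ ι) A) = (X i : MvPolynomial ι' B) :=
    Algebra.Generators.Hom.toAlgHom_X (Q.toGenerators.ofComp P.toGenerators) (Sum.inl i)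
  exact congrArg (fun y => (1 : C) ⊗ₜ[Q.toExtension.Ring]
    KaehlerDifferential.D B Q.toExtension.Ring y) this

lemma uHom_L0map_inr (j : ι) :
    (uHom Q P).L0map ((Q.comp P).toGenerators.cotangentSpaceBasis (Sum.inr j)) = 0 := by
  refine (L0map_basis (uHom Q P) (Sum.inr j)).trans ?_
  have : (uHom Q P).ringHom (X (Sum.inr j) : MvPolynomial (ι' ⊕ ι) A) =
      algebraMap B Q.toExtension.Ring (P.val j) :=
    Algebra.Generators.Hom.toAlgHom_X (Q.toGenerators.ofComp P.toGenerators) (Sum.inr j)
  refine (congrArg (fun y => (1 : C) ⊗ₜ[Q.toExtension.Ring]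
    KaehlerDifferential.D B Q.toExtension.Ring y) this).trans ?_
  change (1 : C) ⊗ₜ[Q.toExtension.Ring] KaehlerDifferential.D B Q.toExtension.Ring
    (algebraMap B Q.toExtension.Ring (P.val j)) = 0
  rw [Derivation.map_algebraMap, TensorProduct.tmul_zero]

lemma vHom_L0map (j : ι) :
    (vHom Q P).L0map (P.toGenerators.cotangentSpaceBasis j) =
      (Q.comp P).toGenerators.cotangentSpaceBasis (Sum.inr j) := by
  refine (L0map_basis (vHom Q P) j).trans ?_
  refine Eq.trans ?_
    (Algebra.Generators.cotangentSpaceBasis_apply (Q.comp P).toGenerators (Sum.inr j)).symm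
  have : (vHom Q P).ringHom (X j : MvPolynomial ι A) = (X (Sum.inr j) : MvPolynomial (ι' ⊕ ι) A) :=
    (vHom_ringHom Q P _).trans (rename_X _ _)
  exact congrArg (fun y => (1 : C) ⊗ₜ[(Q.comp P).toExtension.Ring]
    KaehlerDifferential.D A (Q.comp P).toExtension.Ring y) this

omit [Module B M] [IsScalarTower B C M] in
lemma pull0_u_injective : Injective ((uHom Q P).pull0 M) :=
  pat_injective (Q.comp P).toGenerators.cotangentSpaceBasis Q.toGenerators.cotangentSpaceBasis
    (uHom Q P).L0map (uHom_L0map_inl Q P) _ (fun _ _ => rfl)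

lemma pull0_exact : Function.Exact ((uHom Q P).pull0 M) ((vHom Q P).pull0 M) :=
  pat_exact P.toGenerators.cotangentSpaceBasis (Q.comp P).toGenerators.cotangentSpaceBasis
    Q.toGenerators.cotangentSpaceBasis
    (uHom Q P).L0map (vHom Q P).L0map (uHom_L0map_inl Q P) (uHom_L0map_inr Q P) (vHom_L0map Q P)
    _ (fun _ _ => rfl) _ (fun _ _ => rfl)

lemma pull0_v_surjective : Surjective ((vHom Q P).pull0 M) :=
  pat_surjective P.toGenerators.cotangentSpaceBasis (Q.comp P).toGenerators.cotangentSpaceBasis
    (vHom Q P).L0map (vHom_L0map Q P) _ (fun _ _ => rfl)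

end deg0

section deg1

variable (M : Type m) [AddCommGroup M] [Module C M] [Module B M] [IsScalarTower B C M]

lemma uHom_L1map_inl (r : σ') :
    (uHom Q P).L1map (CotT.L1basis (Q.comp P) (Sum.inl r)) = CotT.L1basis Q r := by
  rw [L1map_basis, CotT.L1basis_apply]
  rfl

lemma uHom_L1map_inr (r : σ) :
    (uHom Q P).L1map (CotT.L1basis (Q.comp P) (Sum.inr r)) = 0 := by
  rw [L1map_basis]
  change (1 : C) ⊗ₜ[Q.toExtension.Ring] (0 : CotT.relMod Q) = 0
  rw [TensorProduct.tmul_zero]

lemma vHom_L1map (r : σ) :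
    (vHom Q P).L1map (CotT.L1basis P r) = CotT.L1basis (Q.comp P) (Sum.inr r) := by
  rw [L1map_basis, CotT.L1basis_apply]
  rfl

omit [Module B M] [IsScalarTower B C M] in
lemma pull1_u_injective : Injective ((uHom Q P).pull1 M) :=
  pat_injective (CotT.L1basis (Q.comp P)) (CotT.L1basis Q)
    (uHom Q P).L1map (uHom_L1map_inl Q P) _ (fun _ _ => rfl)

lemma pull1_exact : Function.Exact ((uHom Q P).pull1 M) ((vHom Q P).pull1 M) :=
  pat_exact (CotT.L1basis P) (CotT.L1basis (Q.comp P)) (CotT.L1basis Q)
    (uHom Q P).L1map (vHom Q P).L1map (uHom_L1map_inl Q P) (uHom_L1map_inr Q P) (vHom_L1map Q P)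
    _ (fun _ _ => rfl) _ (fun _ _ => rfl)

lemma pull1_v_surjective : Surjective ((vHom Q P).pull1 M) :=
  pat_surjective (CotT.L1basis P) (CotT.L1basis (Q.comp P))
    (vHom Q P).L1map (vHom_L1map Q P) _ (fun _ _ => rfl)

end deg1

end Groth.Agent.Lib.Helper62.CotTNine

end
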