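import Mathlib.Algebra.MvPolynomial.Equiv
import Mathlib.LinearAlgebra.Finsupp.LinearCombination
import Mathlib.LinearAlgebra.Span.Basic

/-! `A[Y, X]` is free over `A[X]`: relations with coefficients in `A[Y, X]` among elements of `A[X]`
are combinations of relations with coefficients in `A[X]` (helper62). -/

open MvPolynomial

namespace Groth.Agent.Lib.Helper62.PolyFree

variable {A : Type*} [CommRing A] {ι' ι σ : Type*}

local notation "RX" => MvPolynomial ι A
local notation "RY" => MvPolynomial (ι' ⊕ ι) A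

/-- the inclusion `A[X] → A[Y, X]`. -/
noncomputable abbrev tc : RX →ₐ[A] RY := rename Sum.inr

/-- the `Y`-coefficient functions `A[Y, X] → A[X]`. -/
noncomputable def cf (m : ι' →₀ ℕ) (x : RY) : RX := coeff m (sumAlgEquiv A ι' ι x)

lemma cf_zero (m : ι' →₀ ℕ) : cf (ι := ι) (A := A) m 0 = 0 := by
  unfold cf
  rw [map_zero, coeff_zero]

lemma cf_add (m : ι' →₀ ℕ) (x y : RY) : cf m (x + y) = cf m x + cf m y := by
  unfold cf
  rw [map_add, coeff_add]

lemma sumAlgEquiv_tc (p : RX) : sumAlgEquiv A ι' ι (tc p) = C p :=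
  DFunLike.congr_fun (sumAlgEquiv_comp_rename_inr (R := A) (S₁ := ι') (S₂ := ι)) p

lemma cf_mul_tc (m : ι' →₀ ℕ) (x : RY) (p : RX) : cf m (x * tc p) = cf m x * p := by
  unfold cf
  rw [map_mul, sumAlgEquiv_tc, mul_comm, coeff_C_mul, mul_comm]

lemma cf_sum {κ : Type*} (m : ι' →₀ ℕ) (s : Finset κ) (x : κ → RY) :
    cf m (∑ i ∈ s, x i) = ∑ i ∈ s, cf m (x i) := by
  unfold cf
  rw [map_sum, coeff_sum]

/-- the monomials in `Y`. -/
noncomputable def mon (m : ι' →₀ ℕ) : RY := (sumAlgEquiv A ι' ι).symm (monomial m 1)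

lemma eq_sum_mon (x : RY) (T : Finset (ι' →₀ ℕ)) (hT : (sumAlgEquiv A ι' ι x).support ⊆ T) :
    x = ∑ m ∈ T, mon m * tc (cf m x) := by
  apply (sumAlgEquiv A ι' ι).injective
  rw [map_sum]
  have h1 : ∀ m ∈ T, sumAlgEquiv A ι' ι (mon m * tc (cf m x)) =
      monomial m (coeff m (sumAlgEquiv A ι' ι x)) := by
    intro m _
    unfold mon cf
    rw [map_mul, AlgEquiv.apply_symm_apply, sumAlgEquiv_tc, mul_comm, C_mul_monomial, mul_one]
  rw [Finset.sum_congr rfl h1]
  conv_lhs => rw [(sumAlgEquiv A ι' ι x).as_sum]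
  apply Finset.sum_subset hT
  intro m _ hm
  rw [notMem_support_iff.mp hm, monomial_zero]


/-- relations with coefficients in `A[Y, X]` among the images of the `rho r` are combinations of
relations with coefficients in `A[X]`. -/
theorem mem_span_of_sum_eq_zero (rho : σ → RX) (g : σ →₀ RY)
    (hg : (g.sum fun r a => a * tc (rho r)) = 0) :
    g ∈ Submodule.span RY {y | ∃ f : σ →₀ RX, (f.sum fun r a => a * rho r) = 0 ∧
      y = f.mapRange tc (map_zero _)} := by
  classical
  let T : Finset (ι' →₀ ℕ) := g.support.biUnion fun r => (sumAlgEquiv A ι' ι (g r)).support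
  have hT : ∀ r, (sumAlgEquiv A ι' ι (g r)).support ⊆ T := by
    intro r
    by_cases hr : r ∈ g.support
    · exact Finset.subset_biUnion_of_mem (fun r => (sumAlgEquiv A ι' ι (g r)).support) hr
    · rw [Finsupp.notMem_support_iff.mp hr, map_zero, support_zero]
      exact Finset.empty_subset _
  let f : (ι' →₀ ℕ) → (σ →₀ RX) := fun m => g.mapRange (cf m) (cf_zero m)
  have hf : ∀ m, ((f m).sum fun r a => a * rho r) = 0 := by
    intro m
    rw [Finsupp.sum_mapRange_index (fun r => zero_mul _)]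
    have : cf m (g.sum fun r a => a * tc (rho r)) = 0 := by rw [hg, cf_zero]
    rw [Finsupp.sum, cf_sum] at this
    rw [Finsupp.sum, ← this]
    exact Finset.sum_congr rfl fun r _ => (cf_mul_tc m (g r) (rho r)).symm
  have hgsum : g = ∑ m ∈ T, (mon m : RY) • ((f m).mapRange tc (map_zero _) : σ →₀ RY) := by
    ext1 r
    rw [Finsupp.finsetSum_apply]
    simp only [Finsupp.smul_apply, Finsupp.mapRange_apply, smul_eq_mul, f]
    exact eq_sum_mon (g r) T (hT r)
  rw [hgsum]
  refine Submodule.sum_mem _ fun m _ => Submodule.smul_mem _ _ (Submodule.subset_span ?_)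
  exact ⟨f m, hf m, rfl⟩

end Groth.Agent.Lib.Helper62.PolyFree
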