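import Groth.Agent.Lib.Helper62.CotTNine2
import Groth.Agent.Lib.Helper62.PolyFree

/-! The composite presentation: exactness of the induced sequence of `Hom(L•, M)` in degree `2`
(helper62). -/

universe u v x w t w' t' m

open TensorProduct Function MvPolynomial

noncomputable section

namespace Groth.Agent.Lib.Helper62.CotTNine

variable {A : Type u} {B : Type v} {C : Type x} [CommRing A] [CommRing B] [CommRing C]
  [Algebra A B] [Algebra B C] [Algebra A C] [IsScalarTower A B C]
  {ι : Type w} {σ : Type t} {ι' : Type w'} {σ' : Type t'}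
  (Q : Algebra.Presentation B C ι' σ') (P : Algebra.Presentation A B ι σ)

/-- the inclusion of the part of the free module indexed by the relations of `P`. -/
def inrL : (σ →₀ (Q.comp P).toExtension.Ring) →ₗ[(Q.comp P).toExtension.Ring]
    CotT.relMod (Q.comp P) :=
  Finsupp.lmapDomain _ _ Sum.inr

lemma inrL_single (r : σ) (p : (Q.comp P).toExtension.Ring) :
    inrL Q P (Finsupp.single r p) = Finsupp.single (Sum.inr r) p := by
  unfold inrL
  rw [Finsupp.lmapDomain_apply, Finsupp.mapDomain_single]

lemma jmap_inrL (g : σ →₀ (Q.comp P).toExtension.Ring) :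
    CotT.jmap (Q.comp P) (inrL Q P g) =
      g.sum fun r a => a * (vHom Q P).ringHom (CotT.rel P r) := by
  induction g using Finsupp.induction_linear with
  | zero => simp
  | add f g hf hg =>
    rw [map_add, map_add, hf, hg, Finsupp.sum_add_index' (fun _ => zero_mul _)
      (fun _ _ _ => add_mul _ _ _)]
  | single r p =>
    rw [inrL_single, CotT.jmap_single, Finsupp.sum_single_index (zero_mul _)]
    congr 1
    refine Eq.trans ?_ ((vHom Q P).jmap_relVal r)
    change _ = CotT.jmap (Q.comp P) (Finsupp.single (Sum.inr r) 1)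
    rw [CotT.jmap_single, one_mul]

lemma relModMap_u_inrL (g : σ →₀ (Q.comp P).toExtension.Ring) :
    (uHom Q P).relModMap (inrL Q P g) = 0 := by
  induction g using Finsupp.induction_linear with
  | zero => simp
  | add f g hf hg => rw [map_add, map_add, hf, hg, add_zero]
  | single r p =>
    rw [inrL_single, CotT.PresHom.relModMap_single]
    change _ • (0 : CotT.relMod Q) = 0
    rw [smul_zero]

lemma relModMap_u_v (f : CotT.relMod P) : (uHom Q P).relModMap ((vHom Q P).relModMap f) = 0 := by
  induction f using Finsupp.induction_linear with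
  | zero => simp
  | add f g hf hg => rw [map_add, map_add, hf, hg, add_zero]
  | single r p =>
    rw [CotT.PresHom.relModMap_single, LinearMap.map_smulₛₗ]
    change _ • (uHom Q P).relModMap (Finsupp.single (Sum.inr r) 1) = 0
    rw [CotT.PresHom.relModMap_single]
    change _ • (_ • (0 : CotT.relMod Q)) = 0
    rw [smul_zero, smul_zero]

lemma ringHom_u_surjective : Surjective (uHom Q P).ringHom :=
  Algebra.Generators.toAlgHom_ofComp_surjective Q.toGenerators P.toGenerators

lemma relModMap_u_surjective : Surjective (uHom Q P).relModMap := by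
  intro g
  induction g using Finsupp.induction_linear with
  | zero => exact ⟨0, map_zero _⟩
  | add f g hf hg =>
    obtain ⟨f', rfl⟩ := hf
    obtain ⟨g', rfl⟩ := hg
    exact ⟨f' + g', map_add _ _ _⟩
  | single r s =>
    obtain ⟨p, rfl⟩ := ringHom_u_surjective Q P s
    refine ⟨Finsupp.single (Sum.inl r) p, ?_⟩
    rw [CotT.PresHom.relModMap_single]
    change _ • Finsupp.single r (1 : Q.toExtension.Ring) = _
    rw [Finsupp.smul_single, smul_eq_mul, mul_one]

lemma exists_finsupp_of_mem_span {R' : Type*} [CommRing R'] {κ : Type*} (v : κ → R') (x : R')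
    (hx : x ∈ Ideal.span (Set.range v)) : ∃ c : κ →₀ R', (c.sum fun i a => a * v i) = x :=
  (Finsupp.mem_span_range_iff_exists_finsupp).mp hx

/-- elements of the kernel of `A[Y, X] → B[Y]` are combinations of the relations of `P`. -/
lemma exists_inrL_of_ringHom_eq_zero (x : (Q.comp P).toExtension.Ring)
    (hx : (uHom Q P).ringHom x = 0) : ∃ g, CotT.jmap (Q.comp P) (inrL Q P g) = x := by
  have h1 : x ∈ RingHom.ker (Q.toGenerators.ofComp P.toGenerators).toAlgHom := hx
  rw [← Algebra.Generators.map_toComp_ker] at h1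
  have h2 : P.toGenerators.ker = Ideal.span (Set.range P.relation) :=
    P.span_range_relation_eq_ker.symm
  rw [h2, Ideal.map_span, ← Set.range_comp] at h1
  obtain ⟨c, hc⟩ := exists_finsupp_of_mem_span (R' := (Q.comp P).toExtension.Ring)
    (fun r => (vHom Q P).ringHom (CotT.rel P r)) x h1
  exact ⟨c, (jmap_inrL Q P c).trans hc⟩

/-- the map on relation modules `Q(PC) → Q(Q)` is surjective. -/
lemma relKerMap_u_surjective : Surjective (uHom Q P).relKerMap := by
  intro q
  obtain ⟨f', hf'⟩ := relModMap_u_surjective Q P (q : CotT.relMod Q)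
  have h0 : (uHom Q P).ringHom (CotT.jmap (Q.comp P) f') = 0 := by
    rw [← CotT.PresHom.jmap_relModMap, hf']
    exact q.2
  obtain ⟨g, hg⟩ := exists_inrL_of_ringHom_eq_zero Q P _ h0
  have hmem : f' - inrL Q P g ∈ CotT.relKer (Q.comp P) := by
    change CotT.jmap (Q.comp P) (f' - inrL Q P g) = 0
    rw [map_sub, hg, sub_self]
  refine ⟨⟨f' - inrL Q P g, hmem⟩, Subtype.ext ?_⟩
  rw [CotT.PresHom.relKerMap_coe]
  change (uHom Q P).relModMap (f' - inrL Q P g) = _
  rw [map_sub, relModMap_u_inrL, sub_zero, hf']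

/-- trivial relations lift to trivial relations. -/
lemma exists_trivRel_lift {t : CotT.relMod Q} (ht : t ∈ CotT.trivRel Q) :
    ∃ t' ∈ CotT.trivRel (Q.comp P), (uHom Q P).relModMap t' = t := by
  induction ht using Submodule.span_induction with
  | mem y hy =>
    obtain ⟨a, b, rfl⟩ := hy
    obtain ⟨a', rfl⟩ := relModMap_u_surjective Q P a
    obtain ⟨b', rfl⟩ := relModMap_u_surjective Q P b
    refine ⟨CotT.jmap (Q.comp P) a' • b' - CotT.jmap (Q.comp P) b' • a',
      Submodule.subset_span ⟨a', b', rfl⟩, ?_⟩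
    rw [map_sub, LinearMap.map_smulₛₗ, LinearMap.map_smulₛₗ, CotT.PresHom.jmap_relModMap,
      CotT.PresHom.jmap_relModMap]
  | zero => exact ⟨0, Submodule.zero_mem _, map_zero _⟩
  | add x y _ _ hx hy =>
    obtain ⟨x', hx', rfl⟩ := hx
    obtain ⟨y', hy', rfl⟩ := hy
    exact ⟨x' + y', Submodule.add_mem _ hx' hy', map_add _ _ _⟩
  | smul s x _ hx =>
    obtain ⟨x', hx', rfl⟩ := hx
    obtain ⟨p, rfl⟩ := ringHom_u_surjective Q P s
    exact ⟨p • x', Submodule.smul_mem _ _ hx', LinearMap.map_smulₛₗ _ _ _⟩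

/-- a basis vector of the first kind with coefficient in the kernel of `A[Y, X] → B[Y]` is, up to a
trivial relation, in the part of the second kind. -/
lemma single_inl_mem (r : σ') (p : (Q.comp P).toExtension.Ring) (hp : (uHom Q P).ringHom p = 0) :
    (Finsupp.single (Sum.inl r) p : CotT.relMod (Q.comp P)) ∈
      CotT.trivRel (Q.comp P) ⊔ LinearMap.range (inrL Q P) := by
  obtain ⟨w, hw⟩ := exists_inrL_of_ringHom_eq_zero Q P p hp
  let e : CotT.relMod (Q.comp P) := Finsupp.single (Sum.inl r) 1
  have h1 : (Finsupp.single (Sum.inl r) p : CotT.relMod (Q.comp P)) =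
      (CotT.jmap (Q.comp P) (inrL Q P w) • e - CotT.jmap (Q.comp P) e • inrL Q P w) +
        inrL Q P (CotT.jmap (Q.comp P) e • w) := by
    rw [map_smul, sub_add_cancel, hw]
    change _ = p • Finsupp.single (Sum.inl r) (1 : (Q.comp P).toExtension.Ring)
    rw [Finsupp.smul_single, smul_eq_mul, mul_one]
  rw [h1]
  exact Submodule.add_mem_sup (Submodule.subset_span ⟨_, _, rfl⟩) (LinearMap.mem_range_self _ _)

lemma single_inr_mem (r : σ) (p : (Q.comp P).toExtension.Ring) :
    (Finsupp.single (Sum.inr r) p : CotT.relMod (Q.comp P)) ∈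
      CotT.trivRel (Q.comp P) ⊔ LinearMap.range (inrL Q P) := by
  refine Submodule.mem_sup_right ⟨Finsupp.single r p, inrL_single Q P r p⟩

lemma relModMap_u_apply (f : CotT.relMod (Q.comp P)) (r : σ') :
    (uHom Q P).relModMap f r = (uHom Q P).ringHom (f (Sum.inl r)) := by
  classical
  induction f using Finsupp.induction_linear with
  | zero => rw [map_zero, Finsupp.zero_apply, Finsupp.zero_apply, map_zero]
  | add f g hf hg => rw [map_add, Finsupp.add_apply, hf, hg, Finsupp.add_apply, map_add]
  | single s p =>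
    rw [CotT.PresHom.relModMap_single]
    rcases s with s | s
    · change ((uHom Q P).ringHom p • Finsupp.single s (1 : Q.toExtension.Ring)) r = _
      rw [Finsupp.smul_single, smul_eq_mul, mul_one, Finsupp.single_apply, Finsupp.single_apply]
      by_cases h : s = r
      · rw [if_pos h, if_pos (by rw [h])]
      · rw [if_neg h, if_neg (by intro h'; exact h (Sum.inl.inj h')), map_zero]
    · change ((uHom Q P).ringHom p • (0 : CotT.relMod Q)) r = _
      rw [smul_zero, Finsupp.zero_apply, Finsupp.single_apply, if_neg (by simp), map_zero]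

/-- elements killed by `F' → G` are, up to trivial relations, in the part of the second kind. -/
lemma mem_sup_of_relModMap_eq_zero (f : CotT.relMod (Q.comp P))
    (hf : (uHom Q P).relModMap f = 0) :
    f ∈ CotT.trivRel (Q.comp P) ⊔ LinearMap.range (inrL Q P) := by
  rw [← Finsupp.sum_single f]
  refine Submodule.sum_mem _ ?_
  rintro (r | r) _
  · apply single_inl_mem
    rw [← relModMap_u_apply, hf, Finsupp.zero_apply]
  · apply single_inr_mem

/-- `F → F'` in terms of `mapRange`. -/
lemma relModMap_v_eq (f : σ →₀ MvPolynomial ι A) :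
    (vHom Q P).relModMap (f : CotT.relMod P) =
      inrL Q P (f.mapRange (rename Sum.inr : MvPolynomial ι A →ₐ[A] MvPolynomial (ι' ⊕ ι) A)
        (map_zero _) : σ →₀ MvPolynomial (ι' ⊕ ι) A) := by
  induction f using Finsupp.induction_linear with
  | zero =>
    rw [Finsupp.mapRange_zero]
    exact (map_zero _).trans (map_zero _).symm
  | add f g hf hg =>
    rw [Finsupp.mapRange_add (map_add _)]
    exact (map_add _ _ _).trans ((congrArg₂ (· + ·) hf hg).trans (map_add _ _ _).symm)
  | single r p =>
    rw [Finsupp.mapRange_single]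
    refine ((vHom Q P).relModMap_single r p).trans ?_
    refine Eq.trans ?_ (inrL_single Q P r _).symm
    change (vHom Q P).ringHom p • Finsupp.single (Sum.inr r) (1 : (Q.comp P).toExtension.Ring) = _
    rw [Finsupp.smul_single, smul_eq_mul, mul_one]
    exact congrArg (Finsupp.single (Sum.inr r)) (vHom_ringHom Q P p)

lemma jmap_eq_sum (f : σ →₀ MvPolynomial ι A) :
    CotT.jmap P (f : CotT.relMod P) = f.sum fun r a => a * P.relation r := by
  exact Finsupp.linearCombination_apply (R := MvPolynomial ι A) (v := P.relation) f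

/-- the span of the image of the relation module of `P`. -/
def VK : Submodule (Q.comp P).toExtension.Ring (CotT.relMod (Q.comp P)) :=
  Submodule.span _ ((vHom Q P).relModMap '' (CotT.relKer P : Set (CotT.relMod P)))

lemma VK_le_relKer : VK Q P ≤ CotT.relKer (Q.comp P) := by
  unfold VK
  rw [Submodule.span_le]
  rintro _ ⟨f, hf, rfl⟩
  change CotT.jmap (Q.comp P) ((vHom Q P).relModMap f) = 0
  rw [CotT.PresHom.jmap_relModMap, show CotT.jmap P f = 0 from hf, map_zero]

/-- relations of the second kind come from relations of `P`. -/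
lemma inrL_mem_VK (g : σ →₀ MvPolynomial (ι' ⊕ ι) A)
    (hg : CotT.jmap (Q.comp P) (inrL Q P g) = 0) : inrL Q P g ∈ VK Q P := by
  have h1 : (g.sum fun r a => a * PolyFree.tc (ι' := ι') (P.relation r)) = 0 := by
    have h0 := (jmap_inrL Q P g).symm.trans hg
    refine Eq.trans ?_ h0
    refine Finsupp.sum_congr fun r _ => ?_
    exact congrArg (g r * ·) (vHom_ringHom Q P (P.relation r)).symm
  have h2 := PolyFree.mem_span_of_sum_eq_zero (ι' := ι') P.relation g h1
  have h2' : (g : σ →₀ (Q.comp P).toExtension.Ring) ∈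
      Submodule.span (Q.comp P).toExtension.Ring
        {y : σ →₀ (Q.comp P).toExtension.Ring |
          ∃ f : σ →₀ MvPolynomial ι A, (f.sum fun r a => a * P.relation r) = 0 ∧
            y = f.mapRange (PolyFree.tc (ι' := ι')) (map_zero _)} := h2
  have h3 := Submodule.mem_map_of_mem (f := inrL Q P) h2'
  rw [Submodule.map_span] at h3
  refine Submodule.span_mono ?_ h3
  rintro _ ⟨y, ⟨f, hf, rfl⟩, rfl⟩
  refine ⟨f, ?_, relModMap_v_eq Q P f⟩
  change CotT.jmap P f = 0
  exact (jmap_eq_sum P f).trans hf

/-- relations killed by `F' → G` are, up to trivial relations, combinations of relations of `P`. -/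
lemma mem_sup_VK (q : CotT.relMod (Q.comp P)) (hq : q ∈ CotT.relKer (Q.comp P))
    (hq0 : (uHom Q P).relModMap q = 0) : q ∈ CotT.trivRel (Q.comp P) ⊔ VK Q P := by
  obtain ⟨t, ht, y, ⟨g, rfl⟩, rfl⟩ := Submodule.mem_sup.mp (mem_sup_of_relModMap_eq_zero Q P q hq0)
  refine Submodule.add_mem_sup ht (inrL_mem_VK Q P g ?_)
  have h1 : CotT.jmap (Q.comp P) (t + inrL Q P g) = 0 := hq
  have h2 : CotT.jmap (Q.comp P) t = 0 := CotT.trivRel_le_relKer _ ht
  rw [map_add, h2, zero_add] at h1
  exact h1

section descend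

/-- an additive map vanishing on the kernel of a surjective additive map descends. -/
lemma exists_descend {N N' M : Type*} [AddCommGroup N] [AddCommGroup N'] [AddCommGroup M]
    (π : N →+ N') (hπ : Surjective π) (χ : N →+ M) (h : ∀ n, π n = 0 → χ n = 0) :
    ∃ χ' : N' →+ M, ∀ n, χ' (π n) = χ n := by
  have hk : π.ker ≤ χ.ker := fun n hn => h n hn
  refine ⟨(QuotientAddGroup.lift π.ker χ hk).comp
    (QuotientAddGroup.quotientKerEquivOfSurjective π hπ).symm.toAddMonoidHom, fun n => ?_⟩
  have h1 : (QuotientAddGroup.quotientKerEquivOfSurjective π hπ).symm (π n) =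
      QuotientAddGroup.mk n := by
    rw [AddEquiv.symm_apply_eq]
    rfl
  change QuotientAddGroup.lift π.ker χ hk
    ((QuotientAddGroup.quotientKerEquivOfSurjective π hπ).symm (π n)) = _
  rw [h1]
  rfl

end descend

section deg2

variable (M : Type m) [AddCommGroup M] [Module C M] [Module B M] [IsScalarTower B C M]

omit [Module B M] [IsScalarTower B C M] in
/-- the key vanishing: a semilinear map on the relation module of the composite presentation which
kills the trivial relations and the relations coming from `P` kills the kernel of `Q(PC) → Q(Q)`. -/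
lemma chi_eq_zero (χ : CotT.relKer (Q.comp P) →+ M)
    (hsmul : ∀ (p : (Q.comp P).toExtension.Ring) (q : CotT.relKer (Q.comp P)),
      χ (p • q) = algebraMap (Q.comp P).toExtension.Ring C p • χ q)
    (htriv : ∀ q : CotT.relKer (Q.comp P), (q : CotT.relMod (Q.comp P)) ∈ CotT.trivRel (Q.comp P) →
      χ q = 0)
    (hv : ∀ q : CotT.relKer P, χ ((vHom Q P).relKerMap q) = 0)
    (q : CotT.relKer (Q.comp P)) (hq : (uHom Q P).relKerMap q = 0) : χ q = 0 := by
  have hq0 : (uHom Q P).relModMap (q : CotT.relMod (Q.comp P)) = 0 := congrArg Subtype.val hq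
  obtain ⟨t, ht, y, hy, hty⟩ := Submodule.mem_sup.mp (mem_sup_VK Q P q q.2 hq0)
  have hVK : ∀ y ∈ VK Q P, ∀ hy' : y ∈ CotT.relKer (Q.comp P), χ ⟨y, hy'⟩ = 0 := by
    intro y hy
    unfold VK at hy
    induction hy using Submodule.span_induction with
    | mem y hy =>
      obtain ⟨f, hf, rfl⟩ := hy
      intro hy'
      exact hv ⟨f, hf⟩
    | zero =>
      intro hy'
      exact map_zero χ
    | add y z hy hz ihy ihz =>
      intro hy'
      have hy1 : y ∈ CotT.relKer (Q.comp P) := VK_le_relKer Q P hy
      have hz1 : z ∈ CotT.relKer (Q.comp P) := VK_le_relKer Q P hz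
      have : (⟨y + z, hy'⟩ : CotT.relKer (Q.comp P)) = ⟨y, hy1⟩ + ⟨z, hz1⟩ := rfl
      rw [this, map_add, ihy hy1, ihz hz1, add_zero]
    | smul p y hy ihy =>
      intro hy'
      have hy1 : y ∈ CotT.relKer (Q.comp P) := VK_le_relKer Q P hy
      have : (⟨p • y, hy'⟩ : CotT.relKer (Q.comp P)) = p • ⟨y, hy1⟩ := rfl
      rw [this, hsmul, ihy hy1, smul_zero]
  have ht1 : t ∈ CotT.relKer (Q.comp P) := CotT.trivRel_le_relKer _ ht
  have hy1 : y ∈ CotT.relKer (Q.comp P) := VK_le_relKer Q P hy
  have : q = ⟨t, ht1⟩ + ⟨y, hy1⟩ := Subtype.ext hty.symm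
  rw [this, map_add, htriv ⟨t, ht1⟩ ht, hVK y hy hy1, add_zero]

omit [Module B M] [IsScalarTower B C M] in
lemma pull2_u_injective : Injective ((uHom Q P).pull2 M) := by
  intro ψ ψ' h
  apply L2_hom_ext
  intro q
  obtain ⟨q', rfl⟩ := relKerMap_u_surjective Q P q
  rw [← pull2_mk2, ← pull2_mk2, h]

lemma relKerMap_u_v (q : CotT.relKer P) : (uHom Q P).relKerMap ((vHom Q P).relKerMap q) = 0 :=
  Subtype.ext (relModMap_u_v Q P q)

lemma pull2_exact : Function.Exact ((uHom Q P).pull2 M) ((vHom Q P).pull2 M) := by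
  intro ψ
  constructor
  · intro h
    -- the semilinear map on the relation module
    let χ : CotT.relKer (Q.comp P) →+ M :=
      { toFun := fun q => ψ (mk2 (Q.comp P) 1 q)
        map_zero' := by
          have : mk2 (Q.comp P) (1 : C) 0 = 0 := by
            unfold mk2
            rw [TensorProduct.tmul_zero, Submodule.Quotient.mk_zero]
          rw [this, map_zero]
        map_add' := fun q q' => by rw [mk2_add, map_add] }
    have hsmul : ∀ (p : (Q.comp P).toExtension.Ring) (q : CotT.relKer (Q.comp P)),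
        χ (p • q) = algebraMap (Q.comp P).toExtension.Ring C p • χ q := by
      intro p q
      change ψ (mk2 (Q.comp P) 1 (p • q)) = _ • ψ (mk2 (Q.comp P) 1 q)
      rw [mk2_smul, map_smul]
    have htriv : ∀ q : CotT.relKer (Q.comp P),
        (q : CotT.relMod (Q.comp P)) ∈ CotT.trivRel (Q.comp P) → χ q = 0 := by
      intro q hq
      change ψ (mk2 (Q.comp P) 1 q) = 0
      rw [mk2_eq_zero _ q hq, map_zero]
    have hv : ∀ q : CotT.relKer P, χ ((vHom Q P).relKerMap q) = 0 := by
      intro q
      change ψ (mk2 (Q.comp P) 1 ((vHom Q P).relKerMap q)) = 0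
      rw [← pull2_mk2, h, LinearMap.zero_apply]
    let π : CotT.relKer (Q.comp P) →+ CotT.relKer Q :=
      { toFun := (uHom Q P).relKerMap
        map_zero' := map_zero _
        map_add' := map_add _ }
    obtain ⟨χ', hχ'⟩ := exists_descend π
      (relKerMap_u_surjective Q P) χ (chi_eq_zero Q P M χ hsmul htriv hv)
    have hχ'q : ∀ q : CotT.relKer (Q.comp P), χ' ((uHom Q P).relKerMap q) = χ q := hχ'
    have hsmul' : ∀ (s : Q.toExtension.Ring) (q : CotT.relKer Q),
        χ' (s • q) = algebraMap Q.toExtension.Ring C s • χ' q := by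
      intro s q
      obtain ⟨p, rfl⟩ := ringHom_u_surjective Q P s
      obtain ⟨q', rfl⟩ := relKerMap_u_surjective Q P q
      rw [← LinearMap.map_smulₛₗ, hχ'q, hχ'q, hsmul, (uHom Q P).algebraMap_ringHom]
      rfl
    have htriv' : ∀ q : CotT.relKer Q, (q : CotT.relMod Q) ∈ CotT.trivRel Q → χ' q = 0 := by
      intro q hq
      obtain ⟨t', ht', ht'q⟩ := exists_trivRel_lift Q P hq
      have ht1 : t' ∈ CotT.relKer (Q.comp P) := CotT.trivRel_le_relKer _ ht'
      have : q = (uHom Q P).relKerMap ⟨t', ht1⟩ := Subtype.ext ht'q.symm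
      rw [this, hχ'q]
      exact htriv ⟨t', ht1⟩ ht'
    refine ⟨ofChi χ' hsmul' htriv', ?_⟩
    apply L2_hom_ext
    intro q
    rw [pull2_mk2, ofChi_mk2, hχ'q]
    rfl
  · rintro ⟨ψ', rfl⟩
    apply L2_hom_ext
    intro q
    rw [pull2_mk2, pull2_mk2, relKerMap_u_v, LinearMap.zero_apply]
    have : mk2 Q (1 : C) 0 = 0 := by
      unfold mk2
      rw [TensorProduct.tmul_zero, Submodule.Quotient.mk_zero]
    rw [this, map_zero]

end deg2

end Groth.Agent.Lib.Helper62.CotTNine

end
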