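import Groth.Agent.Lib.Helper62.CotTNine3

/-! The nine term sequence for the composite presentation (helper62). -/

universe u v x w t w' t' m

open TensorProduct Function MvPolynomial

noncomputable section

namespace Groth.Agent.Lib.Helper62.CotTNine

open Groth.Agent.Lib.Helper62.NineTerm

variable {A : Type u} {B : Type v} {C : Type x} [CommRing A] [CommRing B] [CommRing C]
  [Algebra A B] [Algebra B C] [Algebra A C] [IsScalarTower A B C]
  {ι : Type w} {σ : Type t} {ι' : Type w'} {σ' : Type t'}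
  (Q : Algebra.Presentation B C ι' σ') (P : Algebra.Presentation A B ι σ)
  (M : Type m) [AddCommGroup M] [Module C M] [Module B M] [IsScalarTower B C M]

theorem nine_special :
    Injective ((uHom Q P).T0pull M) ∧
    Function.Exact ((uHom Q P).T0pull M) ((vHom Q P).T0pull M) ∧
    Function.Exact ((uHom Q P).T1pull M) ((vHom Q P).T1pull M) ∧
    Function.Exact ((uHom Q P).T2pull M) ((vHom Q P).T2pull M) ∧
    ∃ (δ₀ : CotT.T0 P M →+ CotT.T1 Q M) (δ₁ : CotT.T1 P M →+ CotT.T2 Q M),
      Function.Exact ((vHom Q P).T0pull M) δ₀ ∧ Function.Exact δ₀ ((uHom Q P).T1pull M) ∧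
      Function.Exact ((vHom Q P).T1pull M) δ₁ ∧ Function.Exact δ₁ ((uHom Q P).T2pull M) :=
  nine_term
    (d2Star_d1Star_apply Q M) (d2Star_d1Star_apply (Q.comp P) M) (d2Star_d1Star_apply P M)
    ((uHom Q P).pull0 M).toAddMonoidHom ((uHom Q P).pull1 M).toAddMonoidHom
    ((uHom Q P).pull2 M).toAddMonoidHom
    ((vHom Q P).pull0 M).toAddMonoidHom ((vHom Q P).pull1 M).toAddMonoidHom
    ((vHom Q P).pull2 M).toAddMonoidHom
    (pull1_d1Star' (uHom Q P) M) (pull2_d2Star' (uHom Q P) M)
    (pull1_d1Star' (vHom Q P) M) (pull2_d2Star' (vHom Q P) M)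
    (pull0_u_injective Q P M) (pull1_u_injective Q P M) (pull2_u_injective Q P M)
    (pull0_exact Q P M) (pull1_exact Q P M) (pull2_exact Q P M)
    (pull0_v_surjective Q P M) (pull1_v_surjective Q P M)
    (cohOf Q M) (cohOf (Q.comp P) M) (cohOf P M)
    ((uHom Q P).T0pull M).toAddMonoidHom ((uHom Q P).T1pull M).toAddMonoidHom
    ((uHom Q P).T2pull M).toAddMonoidHom
    ((vHom Q P).T0pull M).toAddMonoidHom ((vHom Q P).T1pull M).toAddMonoidHom
    ((vHom Q P).T2pull M).toAddMonoidHom
    (T0pull_compat (uHom Q P) M) (T1pull_compat (uHom Q P) M) (T2pull_compat (uHom Q P) M)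
    (T0pull_compat (vHom Q P) M) (T1pull_compat (vHom Q P) M) (T2pull_compat (vHom Q P) M)

end Groth.Agent.Lib.Helper62.CotTNine

end
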