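import Groth.Agent.Lib.Helper62.CotTNine2
import Groth.Agent.Lib.Helper62.CotTCompare

/-! Composition of morphisms of presentations and the induced maps on `Tⁱ`; morphisms between two
presentations of one algebra induce mutually inverse bijections (helper62). -/

universe m

open TensorProduct Function MvPolynomial

noncomputable section

namespace Groth.Agent.Lib.Helper62.CotTNine

section Mk

variable {A : Type*} {B : Type*} {ι : Type*} {σ : Type*}
variable {A' : Type*} {B' : Type*} {ι' : Type*} {σ' : Type*}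
variable [CommRing A] [CommRing B] [Algebra A B] [CommRing A'] [CommRing B'] [Algebra A' B']
variable [Algebra A A'] [Algebra B B'] [Algebra A B'] [IsScalarTower A A' B'] [IsScalarTower A B B']
variable {P : Algebra.Presentation A B ι σ} {P' : Algebra.Presentation A' B' ι' σ'}
variable (h : CotT.PresHom P P')
variable (M' : Type m) [AddCommGroup M'] [Module B' M'] [Module B M'] [IsScalarTower B B' M']

lemma T1pull_mk (c : CotT.cocycles1 P' M') :
    h.T1pull M' (Submodule.Quotient.mk c) = Submodule.Quotient.mk (h.cocycles1Pull M' c) := rfl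

lemma T2pull_mk (ψ : CotT.L2 P' →ₗ[B'] M') :
    h.T2pull M' (Submodule.Quotient.mk ψ) = Submodule.Quotient.mk (h.pull2 M' ψ) := rfl

end Mk

section Comp

variable {A₁ B₁ A₂ B₂ A₃ B₃ : Type*} [CommRing A₁] [CommRing B₁] [CommRing A₂] [CommRing B₂]
  [CommRing A₃] [CommRing B₃] [Algebra A₁ B₁] [Algebra A₂ B₂] [Algebra A₃ B₃]
  [Algebra A₁ A₂] [Algebra B₁ B₂] [Algebra A₁ B₂] [IsScalarTower A₁ A₂ B₂] [IsScalarTower A₁ B₁ B₂]
  [Algebra A₂ A₃] [Algebra B₂ B₃] [Algebra A₂ B₃] [IsScalarTower A₂ A₃ B₃] [IsScalarTower A₂ B₂ B₃]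
  [Algebra A₁ A₃] [Algebra B₁ B₃] [Algebra A₁ B₃] [IsScalarTower A₁ A₃ B₃] [IsScalarTower A₁ B₁ B₃]
  {ι₁ σ₁ ι₂ σ₂ ι₃ σ₃ : Type*}
  {P₁ : Algebra.Presentation A₁ B₁ ι₁ σ₁} {P₂ : Algebra.Presentation A₂ B₂ ι₂ σ₂}
  {P₃ : Algebra.Presentation A₃ B₃ ι₃ σ₃}
  (h₁ : CotT.PresHom P₁ P₂) (h₂ : CotT.PresHom P₂ P₃) (h₃ : CotT.PresHom P₁ P₃)
  (hring : ∀ x, h₂.ringHom (h₁.ringHom x) = h₃.ringHom x)
  (hrel : ∀ s, h₂.relModMap (h₁.relVal s) = h₃.relVal s)
  (M : Type m) [AddCommGroup M] [Module B₃ M] [Module B₂ M] [Module B₁ M]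
  [IsScalarTower B₂ B₃ M] [IsScalarTower B₁ B₂ M] [IsScalarTower B₁ B₃ M]

lemma L0map_one_tmul_D (y : MvPolynomial ι₂ A₂) :
    h₂.L0map ((1 : B₂) ⊗ₜ[P₂.toExtension.Ring] KaehlerDifferential.D A₂ P₂.toExtension.Ring y) =
      (1 : B₃) ⊗ₜ[P₃.toExtension.Ring] KaehlerDifferential.D A₃ P₃.toExtension.Ring
        (h₂.ringHom y) := by
  have e2 := Algebra.Extension.CotangentSpace.map_tmul h₂.hom.toExtensionHom (1 : B₂) y
  rw [map_one] at e2
  exact e2

include hring in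
lemma pull0_comp (ψ : CotT.L0 P₃ →ₗ[B₃] M) : h₁.pull0 M (h₂.pull0 M ψ) = h₃.pull0 M ψ := by
  apply P₁.toGenerators.cotangentSpaceBasis.ext
  intro i
  rw [CotT.PresHom.pull0_apply, CotT.PresHom.pull0_apply, CotT.PresHom.pull0_apply]
  congr 1
  rw [L0map_basis, L0map_basis]
  refine (L0map_one_tmul_D h₂ _).trans ?_
  exact congrArg (fun y => (1 : B₃) ⊗ₜ[P₃.toExtension.Ring]
    KaehlerDifferential.D A₃ P₃.toExtension.Ring y) (hring _)

include hrel in
lemma pull1_comp (ψ : CotT.L1 P₃ →ₗ[B₃] M) : h₁.pull1 M (h₂.pull1 M ψ) = h₃.pull1 M ψ := by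
  apply (CotT.L1basis P₁).ext
  intro s
  rw [CotT.PresHom.pull1_apply, CotT.PresHom.pull1_apply, CotT.PresHom.pull1_apply]
  congr 1
  rw [L1map_basis, L1map_basis, CotT.PresHom.L1map_tmul, map_one, hrel]

include hring hrel in
lemma relModMap_comp (f : CotT.relMod P₁) :
    h₂.relModMap (h₁.relModMap f) = h₃.relModMap f := by
  induction f using Finsupp.induction_linear with
  | zero => simp
  | add f g hf hg => rw [map_add, map_add, hf, hg, map_add]
  | single s p =>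
    rw [CotT.PresHom.relModMap_single, LinearMap.map_smulₛₗ, hrel, hring,
      CotT.PresHom.relModMap_single]

include hring hrel in
lemma pull2_comp (ψ : CotT.L2 P₃ →ₗ[B₃] M) : h₁.pull2 M (h₂.pull2 M ψ) = h₃.pull2 M ψ := by
  apply L2_hom_ext
  intro q
  rw [pull2_mk2, pull2_mk2, pull2_mk2]
  congr 2
  exact Subtype.ext (relModMap_comp h₁ h₂ h₃ hring hrel q)

include hring in
lemma T0pull_comp (t : CotT.T0 P₃ M) : h₁.T0pull M (h₂.T0pull M t) = h₃.T0pull M t :=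
  Subtype.ext (pull0_comp h₁ h₂ h₃ hring M t.1)

include hrel in
lemma T1pull_comp_mk (c : CotT.cocycles1 P₃ M) :
    h₁.T1pull M (h₂.T1pull M (Submodule.Quotient.mk c)) =
      h₃.T1pull M (Submodule.Quotient.mk c) := by
  have e1 := T1pull_mk h₂ M c
  have e2 := T1pull_mk h₁ M (h₂.cocycles1Pull M c)
  have e3 := T1pull_mk h₃ M c
  have hc : h₁.cocycles1Pull M (h₂.cocycles1Pull M c) = h₃.cocycles1Pull M c :=
    Subtype.ext (pull1_comp h₁ h₂ h₃ hrel M c.1)
  exact ((congrArg (h₁.T1pull M) e1).trans (e2.trans (congrArg Submodule.Quotient.mk hc))).trans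
    e3.symm

include hrel in
lemma T1pull_comp (t : CotT.T1 P₃ M) : h₁.T1pull M (h₂.T1pull M t) = h₃.T1pull M t := by
  obtain ⟨c, hc⟩ := exists_mk_T1 P₃ M t
  exact hc ▸ T1pull_comp_mk h₁ h₂ h₃ hrel M c

include hring hrel in
lemma T2pull_comp_mk (ψ : CotT.L2 P₃ →ₗ[B₃] M) :
    h₁.T2pull M (h₂.T2pull M (Submodule.Quotient.mk ψ)) =
      h₃.T2pull M (Submodule.Quotient.mk ψ) := by
  have e1 := T2pull_mk h₂ M ψ
  have e2 := T2pull_mk h₁ M (h₂.pull2 M ψ)
  have e3 := T2pull_mk h₃ M ψ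
  exact ((congrArg (h₁.T2pull M) e1).trans (e2.trans (congrArg Submodule.Quotient.mk
    (pull2_comp h₁ h₂ h₃ hring hrel M ψ)))).trans e3.symm

include hring hrel in
lemma T2pull_comp (t : CotT.T2 P₃ M) : h₁.T2pull M (h₂.T2pull M t) = h₃.T2pull M t := by
  obtain ⟨ψ, hψ⟩ := exists_mk_T2 P₃ M t
  exact hψ ▸ T2pull_comp_mk h₁ h₂ h₃ hring hrel M ψ

end Comp

end Groth.Agent.Lib.Helper62.CotTNine

end
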