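import Groth.Agent.Lib.Helper62.CotTNine5

/-! Endomorphisms of a presentation (over the identity square) act as the identity on `Tⁱ`
(helper62). -/

universe m

open TensorProduct Function MvPolynomial

noncomputable section

namespace Groth.Agent.Lib.Helper62.CotTNine

section Endo

variable {A : Type*} {B : Type*} [CommRing A] [CommRing B] [Algebra A B] {ι σ : Type*}
  {P : Algebra.Presentation A B ι σ} (k : CotT.PresHom P P)
  (M : Type m) [AddCommGroup M] [Module B M]

lemma comp_cotangentComplex_eq_zero (ψ : CotT.L0 P →ₗ[B] M) (hψ : CotT.d1Star P M ψ = 0) :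
    ψ ∘ₗ P.toExtension.cotangentComplex = 0 := by
  apply CotTBasic.comp_toCot_injective
  rw [LinearMap.zero_comp]
  exact hψ

lemma L0map_endo (x : CotT.L0 P) :
    k.L0map x = x + P.toExtension.cotangentComplex
      ((k.hom.toExtensionHom.sub (Algebra.Extension.Hom.id P.toExtension)) x) := by
  have h1 := Algebra.Extension.CotangentSpace.map_sub_map k.hom.toExtensionHom
    (Algebra.Extension.Hom.id P.toExtension)
  rw [Algebra.Extension.CotangentSpace.map_id] at h1
  have h3 := LinearMap.congr_fun h1 x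
  rw [CotT.PresHom.L0map_apply]
  rw [LinearMap.sub_apply, LinearMap.id_apply, sub_eq_iff_eq_add'] at h3
  exact h3

lemma pull0_endo (ψ : CotT.L0 P →ₗ[B] M) (hψ : CotT.d1Star P M ψ = 0) : k.pull0 M ψ = ψ := by
  have h2 := comp_cotangentComplex_eq_zero M ψ hψ
  refine LinearMap.ext fun x => ?_
  rw [CotT.PresHom.pull0_apply, L0map_endo, map_add, ← LinearMap.comp_apply, h2,
    LinearMap.zero_apply, add_zero]

lemma T0pull_endo (t : CotT.T0 P M) : k.T0pull M t = t :=
  Subtype.ext (pull0_endo k M t.1 t.2)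

lemma cotMap_endo (y : P.toExtension.Cotangent) :
    k.cotMap y = y + (k.hom.toExtensionHom.sub (Algebra.Extension.Hom.id P.toExtension))
      (P.toExtension.cotangentComplex y) := by
  have h1 := Algebra.Extension.Cotangent.map_sub_map k.hom.toExtensionHom
    (Algebra.Extension.Hom.id P.toExtension)
  rw [Algebra.Extension.Cotangent.map_id] at h1
  have h3 := LinearMap.congr_fun h1 y
  rw [CotT.PresHom.cotMap_apply]
  rw [LinearMap.sub_apply, LinearMap.id_apply, sub_eq_iff_eq_add'] at h3
  exact h3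

lemma pull1_endo_sub (c : CotT.L1 P →ₗ[B] M) (hc : CotT.d2Star P M c = 0) :
    ∃ φ : CotT.L0 P →ₗ[B] M, CotT.d1Star P M φ = k.pull1 M c - c := by
  obtain ⟨c', hc'⟩ := CotTBasic.exists_factor_toCot P M c hc
  refine ⟨c' ∘ₗ (k.hom.toExtensionHom.sub (Algebra.Extension.Hom.id P.toExtension)), ?_⟩
  refine LinearMap.ext fun x => ?_
  rw [LinearMap.sub_apply, CotT.PresHom.pull1_apply, ← hc', LinearMap.comp_apply,
    LinearMap.comp_apply, CotT.PresHom.toCot_L1map, cotMap_endo, map_add, add_sub_cancel_left]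
  rfl

lemma T1pull_endo_mk (c : CotT.cocycles1 P M) :
    k.T1pull M (Submodule.Quotient.mk c) = Submodule.Quotient.mk c := by
  refine (T1pull_mk k M c).trans ?_
  obtain ⟨φ, hφ⟩ := pull1_endo_sub k M c.1 c.2
  rw [Submodule.Quotient.eq]
  exact ⟨φ, hφ⟩

lemma T1pull_endo (t : CotT.T1 P M) : k.T1pull M t = t := by
  obtain ⟨c, hc⟩ := exists_mk_T1 P M t
  exact hc ▸ T1pull_endo_mk k M c

/-- the endomorphism as a morphism of relation data in the sense of `CotTCompare`. -/
def morOf : CotTCompare.Mor P P where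
  φ := k.ringHom
  hφ x := k.algebraMap_ringHom x
  Φ := k.relModMap
  hΦ := k.jmap_relModMap

lemma morOf_L2 (x : CotT.L2 P) : (morOf k).L2 x = k.L2map x := by
  induction x using Submodule.Quotient.induction_on with
  | H z =>
    induction z using TensorProduct.induction_on with
    | zero => simp
    | add x y hx hy =>
      rw [Submodule.Quotient.mk_add, map_add, map_add, hx, hy]
    | tmul b q => rfl

lemma ringHom_C (a : A) :
    k.ringHom (MvPolynomial.C a : MvPolynomial ι A) = (MvPolynomial.C a : MvPolynomial ι A) :=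
  Algebra.Generators.Hom.toAlgHom_C k.hom a

lemma pull2_endo_sub (ψ : CotT.L2 P →ₗ[B] M) :
    ∃ φ : CotT.L1 P →ₗ[B] M, CotT.d2Star P M φ = k.pull2 M ψ - ψ := by
  obtain ⟨T⟩ := CotTCompare.exists_tw (morOf k).φ (CotTCompare.Mor.id P).φ (morOf k).hφ
    (CotTCompare.Mor.id P).hφ (fun a => ringHom_C k a)
  refine ⟨ψ ∘ₗ CotTCompare.hom1 (morOf k) (CotTCompare.Mor.id P) T, ?_⟩
  have h := CotTCompare.hom1_comp_d2 (morOf k) (CotTCompare.Mor.id P) T
  rw [CotTCompare.Mor.id_L2] at h
  refine LinearMap.ext fun x => ?_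
  have hx := LinearMap.congr_fun h x
  rw [LinearMap.comp_apply, LinearMap.sub_apply, LinearMap.id_apply, morOf_L2] at hx
  rw [LinearMap.sub_apply, CotT.PresHom.pull2_apply, ← map_sub, ← hx]
  rfl

lemma T2pull_endo_mk (ψ : CotT.L2 P →ₗ[B] M) :
    k.T2pull M (Submodule.Quotient.mk ψ) = Submodule.Quotient.mk ψ := by
  refine (T2pull_mk k M ψ).trans ?_
  obtain ⟨φ, hφ⟩ := pull2_endo_sub k M ψ
  rw [Submodule.Quotient.eq]
  exact ⟨φ, hφ⟩

lemma T2pull_endo (t : CotT.T2 P M) : k.T2pull M t = t := by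
  obtain ⟨ψ, hψ⟩ := exists_mk_T2 P M t
  exact hψ ▸ T2pull_endo_mk k M ψ

end Endo

section EndoComp

variable {A : Type*} {B : Type*} [CommRing A] [CommRing B] [Algebra A B] {ι σ ι' σ' : Type*}
  {P : Algebra.Presentation A B ι σ} {P' : Algebra.Presentation A B ι' σ'}
  (h : CotT.PresHom P P') (h' : CotT.PresHom P' P)
  (M : Type m) [AddCommGroup M] [Module B M]

/-- the composite of two morphisms of presentations of one algebra. -/
def endoComp : CotT.PresHom P P where
  hom := h'.hom.comp h.hom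
  relVal s := h'.relModMap (h.relVal s)
  jmap_relVal s := by
    rw [h'.jmap_relModMap, h.jmap_relVal]
    exact (Algebra.Generators.Hom.toAlgHom_comp_apply _ _ _ h.hom h'.hom _).symm

lemma endoComp_ringHom (x : P.toExtension.Ring) :
    h'.ringHom (h.ringHom x) = (endoComp h h').ringHom x :=
  (Algebra.Generators.Hom.toAlgHom_comp_apply _ _ _ h.hom h'.hom x).symm

theorem T0pull_inv (t : CotT.T0 P M) : h.T0pull M (h'.T0pull M t) = t :=
  (T0pull_comp h h' (endoComp h h') (endoComp_ringHom h h') M t).trans (T0pull_endo _ M t)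

theorem T1pull_inv (t : CotT.T1 P M) : h.T1pull M (h'.T1pull M t) = t :=
  (T1pull_comp h h' (endoComp h h') (fun _ => rfl) M t).trans (T1pull_endo _ M t)

theorem T2pull_inv (t : CotT.T2 P M) : h.T2pull M (h'.T2pull M t) = t :=
  (T2pull_comp h h' (endoComp h h') (endoComp_ringHom h h') (fun _ => rfl) M t).trans
    (T2pull_endo _ M t)

end EndoComp

end Groth.Agent.Lib.Helper62.CotTNine

end
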