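import Groth.Agent.Lib.Helper62.CotTNine4
import Groth.Agent.Lib.Helper62.CotTNine6

/-! Comparison of the canonical presentation of `C` over `A` with the composite of the canonical
presentations of `C` over `B` and `B` over `A`; the nine term sequence for the canonical
presentations (helper62). -/

universe u v x m

open TensorProduct Function MvPolynomial

noncomputable section

namespace Groth.Agent.Lib.Helper62.CotTNine

section Transfer

variable {X Y Y' Z : Type*}

lemma exact_transfer_mid [Zero Z] {f : X → Y} {g : Y → Z} (hfg : Function.Exact f g)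
    {f' : X → Y'} {g' : Y' → Z} (W : Y → Y') (W' : Y' → Y)
    (hWW' : ∀ y', W (W' y') = y') (hW'W : ∀ y, W' (W y) = y)
    (hf' : ∀ x, f' x = W (f x)) (hg' : ∀ y', g' y' = g (W' y')) : Function.Exact f' g' := by
  intro y'
  rw [hg', hfg (W' y')]
  constructor
  · rintro ⟨x, hx⟩
    exact ⟨x, by rw [hf', hx, hWW']⟩
  · rintro ⟨x, hx⟩
    exact ⟨x, by rw [← hx, hf', hW'W]⟩

lemma exact_transfer_left {g : Y → Z} {δ : Z → X} [Zero X] (hgδ : Function.Exact g δ)
    {g' : Y' → Z} (W : Y → Y') (W' : Y' → Y)
    (hW'W : ∀ y, W' (W y) = y) (hg' : ∀ y', g' y' = g (W' y')) : Function.Exact g' δ := by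
  intro z
  rw [hgδ z]
  constructor
  · rintro ⟨y, hy⟩
    exact ⟨W y, by rw [hg', hW'W, hy]⟩
  · rintro ⟨y', hy'⟩
    exact ⟨W' y', by rw [← hy', hg']⟩

lemma exact_transfer_right {δ : Z → X} {f : X → Y} [Zero Y] [Zero Y'] (hδf : Function.Exact δ f)
    {f' : X → Y'} (W : Y → Y') (W' : Y' → Y) (hW0 : W 0 = 0)
    (hW'W : ∀ y, W' (W y) = y) (hf' : ∀ x, f' x = W (f x)) : Function.Exact δ f' := by
  intro x
  rw [← hδf x, hf']
  constructor
  · intro h
    have := congrArg W' h
    rw [hW'W] at this
    rw [this, ← hW0, hW'W]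
  · intro h
    rw [h, hW0]

end Transfer

section Canon

variable (A : Type u) (B : Type v) (C : Type x) [CommRing A] [CommRing B] [CommRing C]
  [Algebra A B] [Algebra B C] [Algebra A C] [IsScalarTower A B C]

/-- the composite of the canonical presentations. -/
abbrev PCc : Algebra.Presentation A C (C ⊕ B) (CotT.CanonRels B C ⊕ CotT.CanonRels A B) :=
  (CotT.canon B C).comp (CotT.canon A B)

/-- the variables of the canonical presentation go to the first kind of variables. -/
def wGen : Algebra.Generators.Hom (CotT.canon A C).toGenerators (PCc A B C).toGenerators where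
  val c := X (Sum.inl c)
  aeval_val c := by
    rw [aeval_X]
    rfl

/-- both kinds of variables go to variables of the canonical presentation. -/
def w'Gen : Algebra.Generators.Hom (PCc A B C).toGenerators (CotT.canon A C).toGenerators where
  val := Sum.elim (fun c => X c) (fun b => X (algebraMap B C b))
  aeval_val i := by
    cases i with
    | inl c =>
      rw [Sum.elim_inl, aeval_X]
      rfl
    | inr b =>
      rw [Sum.elim_inr, aeval_X]
      rfl

lemma u_w_ringHom (y : (CotT.canon A C).toExtension.Ring) :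
    (uHom (CotT.canon B C) (CotT.canon A B)).ringHom ((wGen A B C).toExtensionHom.toRingHom y) =
      (CotT.canonHom A C B C).ringHom y := by
  have h : (((CotT.canon B C).toGenerators.ofComp (CotT.canon A B).toGenerators).toAlgHom).comp
      (wGen A B C).toAlgHom =
      (Algebra.Generators.defaultHom (CotT.canon A C).toGenerators
        (CotT.canon B C).toGenerators).toAlgHom := by
    apply MvPolynomial.algHom_ext
    intro c
    rw [AlgHom.comp_apply, Algebra.Generators.Hom.toAlgHom_X, Algebra.Generators.Hom.toAlgHom_X]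
    change ((CotT.canon B C).toGenerators.ofComp (CotT.canon A B).toGenerators).toAlgHom
      (X (Sum.inl c)) = _
    rw [Algebra.Generators.Hom.toAlgHom_X]
    rfl
  exact DFunLike.congr_fun h y

lemma w'_v_ringHom (y : (CotT.canon A B).toExtension.Ring) :
    (w'Gen A B C).toExtensionHom.toRingHom
      ((vHom (CotT.canon B C) (CotT.canon A B)).ringHom y) =
      (CotT.canonHom A B A C).ringHom y := by
  have h : ((w'Gen A B C).toAlgHom).comp
      ((CotT.canon B C).toGenerators.toComp (CotT.canon A B).toGenerators).toAlgHom =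
      (Algebra.Generators.defaultHom (CotT.canon A B).toGenerators
        (CotT.canon A C).toGenerators).toAlgHom := by
    apply MvPolynomial.algHom_ext
    intro b
    rw [AlgHom.comp_apply, Algebra.Generators.Hom.toAlgHom_X, Algebra.Generators.Hom.toAlgHom_X]
    change (w'Gen A B C).toAlgHom (X (Sum.inr b)) = _
    rw [Algebra.Generators.Hom.toAlgHom_X]
    rfl
  exact DFunLike.congr_fun h y

lemma wRel_mem (r : CotT.CanonRels A C) :
    (CotT.canonHom A C B C).ringHom (CotT.rel (CotT.canon A C) r) ∈
      (Algebra.Generators.self B C).ker := by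
  have h1 := (CotT.canonHom A C B C).algebraMap_ringHom (CotT.rel (CotT.canon A C) r)
  rw [CotT.algebraMap_rel, map_zero] at h1
  exact h1

/-- the relation of `C` over `B` attached to a relation of `C` over `A`. -/
def wRel (r : CotT.CanonRels A C) : CotT.CanonRels B C :=
  ⟨(CotT.canonHom A C B C).ringHom (CotT.rel (CotT.canon A C) r), wRel_mem A B C r⟩

lemma canonHom_relVal (r : CotT.CanonRels A C) :
    (CotT.canonHom A C B C).relVal r = Finsupp.single (wRel A B C r) 1 := rfl

lemma exists_wY (r : CotT.CanonRels A C) :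
    ∃ g, CotT.jmap (PCc A B C) (inrL (CotT.canon B C) (CotT.canon A B) g) =
      (wGen A B C).toExtensionHom.toRingHom (CotT.rel (CotT.canon A C) r) -
        CotT.rel (PCc A B C) (Sum.inl (wRel A B C r)) := by
  apply exists_inrL_of_ringHom_eq_zero
  rw [map_sub, u_w_ringHom, sub_eq_zero]
  have h := (uHom (CotT.canon B C) (CotT.canon A B)).jmap_relVal (Sum.inl (wRel A B C r))
  refine Eq.trans ?_ h
  change _ = CotT.jmap (CotT.canon B C) (Finsupp.single (wRel A B C r) 1)
  rw [CotT.jmap_single, one_mul]
  rfl

/-- the morphism from the canonical presentation of `C` over `A` to the composite presentation,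
with the lifts of the relations chosen compatibly with the canonical morphism to the canonical
presentation of `C` over `B`. -/
def wHom : CotT.PresHom (CotT.canon A C) (PCc A B C) where
  hom := wGen A B C
  relVal r := Finsupp.single (Sum.inl (wRel A B C r)) 1 +
    inrL (CotT.canon B C) (CotT.canon A B) (Classical.choose (exists_wY A B C r))
  jmap_relVal r := by
    rw [map_add, Classical.choose_spec (exists_wY A B C r), CotT.jmap_single, one_mul]
    exact add_sub_cancel _ _

lemma w'Rel_mem (s : CotT.CanonRels B C ⊕ CotT.CanonRels A B) :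
    (w'Gen A B C).toExtensionHom.toRingHom (CotT.rel (PCc A B C) s) ∈
      (Algebra.Generators.self A C).ker := by
  have h1 := (w'Gen A B C).toExtensionHom.algebraMap_toRingHom (CotT.rel (PCc A B C) s)
  rw [CotT.algebraMap_rel, map_zero] at h1
  exact h1

/-- the relation of `C` over `A` attached to a relation of the composite presentation. -/
def w'Rel (s : CotT.CanonRels B C ⊕ CotT.CanonRels A B) : CotT.CanonRels A C :=
  ⟨(w'Gen A B C).toExtensionHom.toRingHom (CotT.rel (PCc A B C) s), w'Rel_mem A B C s⟩

/-- the morphism from the composite presentation to the canonical presentation of `C` over `A`. -/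
def w'Hom : CotT.PresHom (PCc A B C) (CotT.canon A C) where
  hom := w'Gen A B C
  relVal s := Finsupp.single (w'Rel A B C s) 1
  jmap_relVal s := by
    rw [CotT.jmap_single, one_mul]
    rfl

lemma u_w_hring (y : (CotT.canon A C).toExtension.Ring) :
    (uHom (CotT.canon B C) (CotT.canon A B)).ringHom ((wHom A B C).ringHom y) =
      (CotT.canonHom A C B C).ringHom y := u_w_ringHom A B C y

lemma u_w_hrel (r : CotT.CanonRels A C) :
    (uHom (CotT.canon B C) (CotT.canon A B)).relModMap ((wHom A B C).relVal r) =
      (CotT.canonHom A C B C).relVal r := by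
  change (uHom (CotT.canon B C) (CotT.canon A B)).relModMap
    (Finsupp.single (Sum.inl (wRel A B C r)) 1 +
      inrL (CotT.canon B C) (CotT.canon A B) (Classical.choose (exists_wY A B C r))) = _
  rw [map_add, relModMap_u_inrL, add_zero, CotT.PresHom.relModMap_single, map_one, one_smul]
  rfl

lemma w'_v_hring (y : (CotT.canon A B).toExtension.Ring) :
    (w'Hom A B C).ringHom ((vHom (CotT.canon B C) (CotT.canon A B)).ringHom y) =
      (CotT.canonHom A B A C).ringHom y := w'_v_ringHom A B C y

lemma w'_v_hrel (r : CotT.CanonRels A B) :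
    (w'Hom A B C).relModMap ((vHom (CotT.canon B C) (CotT.canon A B)).relVal r) =
      (CotT.canonHom A B A C).relVal r := by
  change (w'Hom A B C).relModMap (Finsupp.single (Sum.inr r) 1) = _
  rw [CotT.PresHom.relModMap_single, map_one, one_smul]
  change Finsupp.single (w'Rel A B C (Sum.inr r)) 1 = Finsupp.single _ 1
  congr 1
  apply Subtype.ext
  change (w'Gen A B C).toExtensionHom.toRingHom (rename Sum.inr (CotT.rel (CotT.canon A B) r)) = _
  rw [← vHom_ringHom (CotT.canon B C) (CotT.canon A B)]
  exact w'_v_ringHom A B C _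

variable (M : Type m) [AddCommGroup M] [Module C M] [Module B M] [IsScalarTower B C M]

omit [Module B M] [IsScalarTower B C M] in
lemma a0 (t : CotT.T0 (CotT.canon B C) M) :
    (CotT.canonHom A C B C).T0pull M t = (wHom A B C).T0pull M
      ((uHom (CotT.canon B C) (CotT.canon A B)).T0pull M t) :=
  (T0pull_comp (wHom A B C) (uHom (CotT.canon B C) (CotT.canon A B)) (CotT.canonHom A C B C)
    (u_w_hring A B C) M t).symm

omit [Module B M] [IsScalarTower B C M] in
lemma a1 (t : CotT.T1 (CotT.canon B C) M) :
    (CotT.canonHom A C B C).T1pull M t = (wHom A B C).T1pull M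
      ((uHom (CotT.canon B C) (CotT.canon A B)).T1pull M t) :=
  (T1pull_comp (wHom A B C) (uHom (CotT.canon B C) (CotT.canon A B)) (CotT.canonHom A C B C)
    (u_w_hrel A B C) M t).symm

omit [Module B M] [IsScalarTower B C M] in
lemma a2 (t : CotT.T2 (CotT.canon B C) M) :
    (CotT.canonHom A C B C).T2pull M t = (wHom A B C).T2pull M
      ((uHom (CotT.canon B C) (CotT.canon A B)).T2pull M t) :=
  (T2pull_comp (wHom A B C) (uHom (CotT.canon B C) (CotT.canon A B)) (CotT.canonHom A C B C)
    (u_w_hring A B C) (u_w_hrel A B C) M t).symm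

lemma b0 (t : CotT.T0 (CotT.canon A C) M) :
    (CotT.canonHom A B A C).T0pull M t =
      (vHom (CotT.canon B C) (CotT.canon A B)).T0pull M ((w'Hom A B C).T0pull M t) :=
  (T0pull_comp (vHom (CotT.canon B C) (CotT.canon A B)) (w'Hom A B C) (CotT.canonHom A B A C)
    (w'_v_hring A B C) M t).symm

lemma b1 (t : CotT.T1 (CotT.canon A C) M) :
    (CotT.canonHom A B A C).T1pull M t =
      (vHom (CotT.canon B C) (CotT.canon A B)).T1pull M ((w'Hom A B C).T1pull M t) :=
  (T1pull_comp (vHom (CotT.canon B C) (CotT.canon A B)) (w'Hom A B C) (CotT.canonHom A B A C)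
    (w'_v_hrel A B C) M t).symm

lemma b2 (t : CotT.T2 (CotT.canon A C) M) :
    (CotT.canonHom A B A C).T2pull M t =
      (vHom (CotT.canon B C) (CotT.canon A B)).T2pull M ((w'Hom A B C).T2pull M t) :=
  (T2pull_comp (vHom (CotT.canon B C) (CotT.canon A B)) (w'Hom A B C) (CotT.canonHom A B A C)
    (w'_v_hring A B C) (w'_v_hrel A B C) M t).symm

/-- the nine term sequence for the canonical presentations. -/
theorem nine_canon :
    Injective ((CotT.canonHom A C B C).T0pull M) ∧
    Function.Exact ((CotT.canonHom A C B C).T0pull M) ((CotT.canonHom A B A C).T0pull M) ∧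
    Function.Exact ((CotT.canonHom A C B C).T1pull M) ((CotT.canonHom A B A C).T1pull M) ∧
    Function.Exact ((CotT.canonHom A C B C).T2pull M) ((CotT.canonHom A B A C).T2pull M) ∧
    ∃ (δ₀ : CotT.T0 (CotT.canon A B) M →+ CotT.T1 (CotT.canon B C) M)
      (δ₁ : CotT.T1 (CotT.canon A B) M →+ CotT.T2 (CotT.canon B C) M),
      Function.Exact ((CotT.canonHom A B A C).T0pull M) δ₀ ∧
      Function.Exact δ₀ ((CotT.canonHom A C B C).T1pull M) ∧
      Function.Exact ((CotT.canonHom A B A C).T1pull M) δ₁ ∧
      Function.Exact δ₁ ((CotT.canonHom A C B C).T2pull M) := by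
  have N := nine_special (CotT.canon B C) (CotT.canon A B) M
  have i0 := T0pull_inv (wHom A B C) (w'Hom A B C) M
  have i1 := T1pull_inv (wHom A B C) (w'Hom A B C) M
  have i2 := T2pull_inv (wHom A B C) (w'Hom A B C) M
  have j0 := T0pull_inv (w'Hom A B C) (wHom A B C) M
  have j1 := T1pull_inv (w'Hom A B C) (wHom A B C) M
  have j2 := T2pull_inv (w'Hom A B C) (wHom A B C) M
  obtain ⟨h0, e0, e1, e2, δ₀, δ₁, x0, x1, x2, x3⟩ := N
  refine ⟨?_, ?_, ?_, ?_, δ₀, δ₁, ?_, ?_, ?_, ?_⟩
  · intro s t hst
    rw [a0, a0] at hst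
    have := congrArg ((w'Hom A B C).T0pull M) hst
    rw [j0, j0] at this
    exact h0 this
  · exact exact_transfer_mid e0 _ _ i0 j0 (a0 A B C M) (b0 A B C M)
  · exact exact_transfer_mid e1 _ _ i1 j1 (a1 A B C M) (b1 A B C M)
  · exact exact_transfer_mid e2 _ _ i2 j2 (a2 A B C M) (b2 A B C M)
  · exact exact_transfer_left x0 _ _ j0 (b0 A B C M)
  · exact exact_transfer_right x1 ((wHom A B C).T1pull M) ((w'Hom A B C).T1pull M)
      (map_zero ((wHom A B C).T1pull M)) j1 (a1 A B C M)
  · exact exact_transfer_left x2 _ _ j1 (b1 A B C M)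
  · exact exact_transfer_right x3 ((wHom A B C).T2pull M) ((w'Hom A B C).T2pull M)
      (map_zero ((wHom A B C).T2pull M)) j2 (a2 A B C M)

end Canon

end Groth.Agent.Lib.Helper62.CotTNine

end
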