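import Groth.Agent.S12289
import Mathlib.RingTheory.Smooth.Basic
import Mathlib.RingTheory.Smooth.Pi
import Mathlib.RingTheory.Smooth.Kaehler

/-! `T¹(A/k, -) = 0` iff `A` is formally smooth over `k` (helper62). -/

universe u

open TensorProduct Function MvPolynomial

noncomputable section

namespace Groth.Agent.Lib.Helper62.CotTSmooth

variable (k A : Type u) [CommRing k] [CommRing A] [Algebra k A]

/-- `T¹(A/k, M) = 0` for all `M` iff `A` is formally smooth over `k`. -/
theorem subsingleton_T1_iff_formallySmooth :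
    (∀ (M : Type u) [AddCommGroup M] [Module A M], Subsingleton (CotT.T1 (CotT.canon k A) M)) ↔
      Algebra.FormallySmooth k A := by
  haveI : Algebra.FormallySmooth k (CotT.canon k A).toExtension.Ring :=
    inferInstanceAs (Algebra.FormallySmooth k (MvPolynomial A k))
  rw [(CotT.canon k A).toExtension.formallySmooth_iff_split_injection]
  constructor
  · intro h
    obtain ⟨-, hker, -⟩ := Groth.Agent.S12289.result k A A (CotT.CanonRels k A) (CotT.canon k A)
      (CotT.canon k A).toExtension.Cotangent
    have h0 : CotT.homToT1 (CotT.canon k A) (CotT.canon k A).toExtension.Cotangent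
        LinearMap.id = 0 := by
      haveI := h (CotT.canon k A).toExtension.Cotangent
      exact Subsingleton.elim _ _
    rw [← LinearMap.mem_ker, hker] at h0
    obtain ⟨l, hl⟩ := h0
    exact ⟨l, hl⟩
  · rintro ⟨l, hl⟩ M _ _
    obtain ⟨-, hker, hsurj⟩ := Groth.Agent.S12289.result k A A (CotT.CanonRels k A)
      (CotT.canon k A) M
    refine ⟨fun x y => ?_⟩
    suffices ∀ x : CotT.T1 (CotT.canon k A) M, x = 0 by rw [this x, this y]
    intro x
    obtain ⟨φ, rfl⟩ := hsurj x
    rw [← LinearMap.mem_ker, hker]
    refine ⟨φ ∘ₗ l, ?_⟩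
    change (φ ∘ₗ l) ∘ₗ _ = φ
    rw [LinearMap.comp_assoc, hl, LinearMap.comp_id]

end Groth.Agent.Lib.Helper62.CotTSmooth

end
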