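import Groth.Agent.Lib.Helper73.DimField
import Groth.Agent.Lib.Helper73.DimLocal
import Mathlib.RingTheory.Jacobson.Ring
import Mathlib.RingTheory.Ideal.MinimalPrime.Noetherian

/-! The largest dimension of an irreducible component through a point of the spectrum of a
finite type algebra over a field (helper62). -/

set_option linter.style.haveILetI false

universe u

open Function

noncomputable section

namespace Groth.Agent.Lib.Helper62.DimLoc

open Groth.Agent.Lib.Helper73.DimFormula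

section General

variable {S : Type*} [CommRing S]

/-- the largest dimension of an irreducible component of `Spec S` through `p`. -/
def compDim (p : Ideal S) : WithBot ℕ∞ :=
  ⨆ Q : {Q : Ideal S // Q ∈ minimalPrimes S ∧ Q ≤ p}, ringKrullDim (S ⧸ Q.1)

theorem le_compDim {p Q : Ideal S} (hQ : Q ∈ minimalPrimes S) (hQp : Q ≤ p) :
    ringKrullDim (S ⧸ Q) ≤ compDim p :=
  le_iSup (fun Q : {Q : Ideal S // Q ∈ minimalPrimes S ∧ Q ≤ p} => ringKrullDim (S ⧸ Q.1))
    ⟨Q, hQ, hQp⟩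

theorem compDim_le_iff {p : Ideal S} {d : WithBot ℕ∞} :
    compDim p ≤ d ↔ ∀ Q ∈ minimalPrimes S, Q ≤ p → ringKrullDim (S ⧸ Q) ≤ d := by
  unfold compDim
  rw [iSup_le_iff]
  constructor
  · intro h Q hQ hQp
    exact h ⟨Q, hQ, hQp⟩
  · rintro h ⟨Q, hQ, hQp⟩
    exact h Q hQ hQp

theorem compDim_mono {p p' : Ideal S} (h : p ≤ p') : compDim p ≤ compDim p' := by
  rw [compDim_le_iff]
  intro Q hQ hQp
  exact le_compDim hQ (hQp.trans h)

theorem exists_minimalPrimes_le (P : Ideal S) [P.IsPrime] : ∃ Q ∈ minimalPrimes S, Q ≤ P := by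
  obtain ⟨Q, hQ, hQP⟩ := Ideal.exists_minimalPrimes_le (I := (⊥ : Ideal S)) (J := P) bot_le
  exact ⟨Q, hQ, hQP⟩

theorem height_le_compDim (P : Ideal S) [hP : P.IsPrime] :
    (P.height : WithBot ℕ∞) ≤ compDim P := by
  obtain ⟨Q₀, hQ₀, hQ₀P⟩ := exists_minimalPrimes_le P
  haveI : Q₀.IsPrime := hQ₀.1.1
  have h0 : (0 : WithBot ℕ∞) ≤ compDim P :=
    le_trans (ringKrullDim_nonneg_of_nontrivial) (le_compDim hQ₀ hQ₀P)
  obtain ⟨x, hx⟩ : ∃ x : ℕ∞, compDim P = x := by
    cases h : compDim P with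
    | bot => rw [h] at h0; simp at h0
    | coe x => exact ⟨x, rfl⟩
  rw [hx, WithBot.coe_le_coe]
  have hh : P.height = Order.height (⟨P, hP⟩ : PrimeSpectrum S) :=
    PrimeSpectrum.height_eq_orderHeight ⟨P, hP⟩
  rw [hh]
  apply Order.height_le
  intro l hl
  obtain ⟨Q, hQ, hQl⟩ := exists_minimalPrimes_le l.head.asIdeal
  haveI : Q.IsPrime := hQ.1.1
  have hQP : Q ≤ P := by
    have h1 : l.head ≤ l.last := LTSeries.head_le_last l
    rw [hl] at h1
    exact hQl.trans h1
  haveI : (P.map (Ideal.Quotient.mk Q)).IsPrime :=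
    Ideal.map_isPrime_of_surjective Ideal.Quotient.mk_surjective (by rwa [Ideal.mk_ker])
  have h1 := length_le_height_map_quotient Q P hQP l hl hQl
  have h2 : ((P.map (Ideal.Quotient.mk Q)).height : WithBot ℕ∞) ≤ ringKrullDim (S ⧸ Q) :=
    Ideal.height_le_ringKrullDim_of_isPrime
  have h3 := le_compDim hQ hQP
  rw [hx] at h3
  have h4 : ((l.length : ℕ∞) : WithBot ℕ∞) ≤ (x : WithBot ℕ∞) :=
    le_trans (WithBot.coe_le_coe.mpr h1) (le_trans h2 h3)
  exact WithBot.coe_le_coe.mp h4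

/-- a prime of finite height realizes its height in the quotient by some minimal prime. -/
theorem exists_minimalPrimes_height_map_eq (P : Ideal S) [hP : P.IsPrime] [P.FiniteHeight] :
    ∃ Q ∈ minimalPrimes S, Q ≤ P ∧ (P.map (Ideal.Quotient.mk Q)).height = P.height := by
  obtain ⟨l, hl, hlen⟩ := Ideal.exists_ltSeries_length_eq_height P
  obtain ⟨Q, hQ, hQl⟩ := exists_minimalPrimes_le l.head.asIdeal
  haveI : Q.IsPrime := hQ.1.1
  have hQP : Q ≤ P := by
    have h1 : l.head ≤ l.last := LTSeries.head_le_last l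
    rw [hl] at h1
    exact hQl.trans h1
  haveI : (P.map (Ideal.Quotient.mk Q)).IsPrime :=
    Ideal.map_isPrime_of_surjective Ideal.Quotient.mk_surjective (by rwa [Ideal.mk_ker])
  refine ⟨Q, hQ, hQP, le_antisymm (height_map_quotient_le Q P hQP) ?_⟩
  rw [← hlen]
  exact length_le_height_map_quotient Q P hQP l hl hQl

end General

section Field

variable (k : Type u) [Field k] (S : Type u) [CommRing S] [Algebra k S] [Algebra.FiniteType k S]

include k in
/-- for a prime `Q` and a maximal ideal `m ⊇ Q`, `ht (m/Q) = dim S/Q`. -/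
theorem height_map_eq_ringKrullDim_quotient (Q m : Ideal S) [Q.IsPrime] [hm : m.IsMaximal]
    (h : Q ≤ m) : ((m.map (Ideal.Quotient.mk Q)).height : WithBot ℕ∞) = ringKrullDim (S ⧸ Q) := by
  obtain ⟨n, -, hdim, hmax, -⟩ := exists_trdeg_eq_ringKrullDim k (S ⧸ Q)
  haveI : (m.map (Ideal.Quotient.mk Q)).IsMaximal :=
    Ideal.IsMaximal.map_of_surjective_of_ker_le Ideal.Quotient.mk_surjective
      (by rwa [Ideal.mk_ker])
  rw [hdim, hmax (m.map (Ideal.Quotient.mk Q))]
  rfl

include k in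
theorem height_eq_compDim_of_isMaximal (m : Ideal S) [hm : m.IsMaximal] :
    (m.height : WithBot ℕ∞) = compDim m := by
  apply le_antisymm (height_le_compDim m)
  rw [compDim_le_iff]
  intro Q hQ hQm
  haveI : Q.IsPrime := hQ.1.1
  rw [← height_map_eq_ringKrullDim_quotient k S Q m hQm]
  haveI : (m.map (Ideal.Quotient.mk Q)).IsPrime :=
    Ideal.map_isPrime_of_surjective Ideal.Quotient.mk_surjective (by rwa [Ideal.mk_ker])
  exact WithBot.coe_le_coe.mpr (height_map_quotient_le Q m hQm)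

include k in
theorem exists_notMem_forall_compDim_le (p : Ideal S) [hp : p.IsPrime] :
    ∃ g ∉ p, ∀ P : Ideal S, P.IsPrime → g ∉ P → compDim P ≤ compDim p := by
  classical
  haveI : IsNoetherianRing S := Algebra.FiniteType.isNoetherianRing k S
  have hfin : (minimalPrimes S).Finite := minimalPrimes.finite_of_isNoetherianRing S
  have hch : ∀ Q : Ideal S, ¬ Q ≤ p → ∃ x ∈ Q, x ∉ p := fun Q hQ =>
    SetLike.not_le_iff_exists.mp hQ
  let x : Ideal S → S := fun Q => if h : Q ≤ p then 1 else (hch Q h).choose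
  have hx1 : ∀ Q, ¬ Q ≤ p → x Q ∈ Q := fun Q h => by
    simp only [x, dif_neg h]; exact (hch Q h).choose_spec.1
  have hx2 : ∀ Q, x Q ∉ p := fun Q => by
    by_cases h : Q ≤ p
    · simp only [x, dif_pos h]
      exact fun h1 => hp.ne_top ((Ideal.eq_top_iff_one p).mpr h1)
    · simp only [x, dif_neg h]; exact (hch Q h).choose_spec.2
  refine ⟨∏ Q ∈ hfin.toFinset, x Q, ?_, ?_⟩
  · intro h
    obtain ⟨Q, -, hQ⟩ := (Ideal.IsPrime.prod_mem_iff).mp h
    exact hx2 Q hQ
  · intro P hP hgP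
    rw [compDim_le_iff]
    intro Q hQ hQP
    by_cases h : Q ≤ p
    · exact le_compDim hQ h
    · exfalso
      apply hgP
      apply hQP
      exact Ideal.prod_mem Q (hfin.mem_toFinset.mpr hQ) (hx1 Q h)

include k in
theorem exists_isMaximal_ge_notMem (p : Ideal S) [hp : p.IsPrime] (g : S) (hg : g ∉ p) :
    ∃ m : Ideal S, m.IsMaximal ∧ p ≤ m ∧ g ∉ m := by
  haveI : IsJacobsonRing S := isJacobsonRing_of_finiteType (A := k) (B := S)
  have h1 : p.jacobson = p := IsJacobsonRing.out inferInstance hp.isRadical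
  by_contra hcon
  push Not at hcon
  apply hg
  rw [← h1, Ideal.jacobson, Ideal.mem_sInf]
  rintro m ⟨hpm, hm⟩
  exact hcon m hm hpm

include k in
/-- the dimension formula in the domain `S/Q`. -/
theorem ringKrullDim_quotient_eq_height_map_add (Q p : Ideal S) [Q.IsPrime] [p.IsPrime]
    (hQp : Q ≤ p) : ringKrullDim (S ⧸ Q) =
      ((p.map (Ideal.Quotient.mk Q)).height : WithBot ℕ∞) + ringKrullDim (S ⧸ p) := by
  haveI : (p.map (Ideal.Quotient.mk Q)).IsPrime :=
    Ideal.map_isPrime_of_surjective Ideal.Quotient.mk_surjective (by rwa [Ideal.mk_ker])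
  obtain ⟨nQ, htQ, hdQ, -, hleQ⟩ := exists_trdeg_eq_ringKrullDim k (S ⧸ Q)
  obtain ⟨np, htp, hdp, -, -⟩ := exists_trdeg_eq_ringKrullDim k (S ⧸ p)
  have h1 := height_add_trdeg_eq_of_field k (S ⧸ Q) (p.map (Ideal.Quotient.mk Q))
  have h2 : Algebra.trdeg k ((S ⧸ Q) ⧸ p.map (Ideal.Quotient.mk Q)) = Algebra.trdeg k (S ⧸ p) :=
    (DoubleQuot.quotQuotEquivQuotOfLEₐ k hQp).trdeg_eq
  rw [h2, htQ, htp] at h1
  have hle := hleQ (p.map (Ideal.Quotient.mk Q))
  obtain ⟨h, hh⟩ : ∃ h : ℕ, (p.map (Ideal.Quotient.mk Q)).height = h := by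
    have : (p.map (Ideal.Quotient.mk Q)).height ≠ ⊤ := ne_top_of_le_ne_top (by simp) hle
    exact ⟨_, (ENat.natCast_toNat this).symm⟩
  rw [hh] at h1 ⊢
  have h3 : h + np = nQ := by exact_mod_cast h1
  rw [hdQ, hdp, ← h3]
  rfl

end Field

end Groth.Agent.Lib.Helper62.DimLoc

end
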