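import Groth.Agent.Lib.Helper62.DimLoc1
import Groth.Agent.Lib.Helper62.FibDim
import Groth.Agent.Lib.Helper29.TopDimLocalCover
import Groth.Prelude.Def_Flat

/-! The local dimension of the spectrum of a finite type algebra over a field (helper62). -/

set_option linter.style.haveILetI false

universe u

open Function

noncomputable section

namespace Groth.Agent.Lib.Helper62.DimLoc

section Top

variable (S : Type u) [CommRing S]

/-- the dimension of a basic open is the dimension of the localization. -/
theorem dim_basicOpen (g : S) :
    topologicalKrullDim ((PrimeSpectrum.basicOpen g : TopologicalSpace.Opens (PrimeSpectrum S)) :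
      Set (PrimeSpectrum S)) = ringKrullDim (Localization.Away g) := by
  have hemb := PrimeSpectrum.localization_away_isOpenEmbedding (Localization.Away g) g
  have hrange := PrimeSpectrum.localization_away_comap_range (Localization.Away g) g
  rw [← PrimeSpectrum.topologicalKrullDim_eq_ringKrullDim, ← hrange]
  exact (IsHomeomorph.topologicalKrullDim_eq _
    (hemb.isEmbedding.toHomeomorph.isHomeomorph)).symm

/-- the local dimension at `p` is the infimum of the dimensions of the `S_g`, `g ∉ p`. -/
theorem localDim_eq_iInf_away (p : PrimeSpectrum S) :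
    FlatMor.localDim (PrimeSpectrum S) p =
      ⨅ g : {g : S // g ∉ p.asIdeal}, ringKrullDim (Localization.Away g.1) := by
  apply le_antisymm
  · refine le_iInf fun g => ?_
    rw [← dim_basicOpen]
    exact Groth.Agent.Lib.Helper29.localDim_le_dim_of_mem p
      (PrimeSpectrum.basicOpen g.1) g.2
  · unfold FlatMor.localDim
    refine le_iInf fun U => ?_
    obtain ⟨_, ⟨g, rfl⟩, hpg, hgU⟩ :=
      PrimeSpectrum.isTopologicalBasis_basic_opens.exists_subset_of_mem_open U.2 U.1.2
    refine le_trans (iInf_le _ ⟨g, hpg⟩) ?_
    rw [← dim_basicOpen]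
    exact Groth.Agent.Lib.Helper29.dim_mono_of_subset hgU

theorem ringKrullDim_away_le (g : S) (d : WithBot ℕ∞)
    (h : ∀ P : Ideal S, P.IsPrime → g ∉ P → (P.height : WithBot ℕ∞) ≤ d) :
    ringKrullDim (Localization.Away g) ≤ d := by
  rw [ringKrullDim_le_iff_height_le]
  intro P' hP'
  rw [← IsLocalization.height_under (Submonoid.powers g) P']
  haveI : (P'.under S).IsPrime := Ideal.comap_isPrime _ _
  apply h _ inferInstance
  intro hg
  apply hP'.ne_top
  exact Ideal.eq_top_of_isUnit_mem _ (show algebraMap S (Localization.Away g) g ∈ P' from hg)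
    (IsLocalization.map_units (Localization.Away g) ⟨g, Submonoid.mem_powers g⟩)

theorem height_le_ringKrullDim_away (g : S) (P : Ideal S) [hP : P.IsPrime] (hg : g ∉ P) :
    (P.height : WithBot ℕ∞) ≤ ringKrullDim (Localization.Away g) := by
  have hdisj : Disjoint (Submonoid.powers g : Set S) (P : Set S) := by
    rw [Set.disjoint_left]
    rintro x ⟨n, rfl⟩ hx
    exact hg (hP.mem_of_pow_mem n hx)
  haveI hP' : (P.map (algebraMap S (Localization.Away g))).IsPrime :=
    IsLocalization.isPrime_of_isPrime_disjoint (Submonoid.powers g) _ P hP hdisj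
  have hunder : (P.map (algebraMap S (Localization.Away g))).under S = P :=
    IsLocalization.under_map_of_isPrime_disjoint (Submonoid.powers g) _ hP hdisj
  rw [← hunder, IsLocalization.height_under (Submonoid.powers g)]
  exact Ideal.height_le_ringKrullDim_of_isPrime

end Top

section Field

variable (k : Type u) [Field k] (S : Type u) [CommRing S] [Algebra k S] [Algebra.FiniteType k S]

include k in
/-- the local dimension of `Spec S` at `p` is the largest dimension of a component through
`p`. -/
theorem localDim_eq_compDim (p : PrimeSpectrum S) :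
    FlatMor.localDim (PrimeSpectrum S) p = compDim p.asIdeal := by
  haveI := p.2
  rw [localDim_eq_iInf_away]
  apply le_antisymm
  · obtain ⟨g, hg, hgP⟩ := exists_notMem_forall_compDim_le k S p.asIdeal
    refine le_trans (iInf_le _ ⟨g, hg⟩) ?_
    apply ringKrullDim_away_le
    intro P hP hgP'
    exact le_trans (height_le_compDim P) (hgP P hP hgP')
  · refine le_iInf fun g => ?_
    rw [compDim_le_iff]
    intro Q hQ hQp
    haveI : Q.IsPrime := hQ.1.1
    obtain ⟨m, hm, hQm, hgm⟩ := exists_isMaximal_ge_notMem k S Q g.1 (fun h => g.2 (hQp h))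
    haveI := hm
    rw [← height_map_eq_ringKrullDim_quotient k S Q m hQm]
    haveI : (m.map (Ideal.Quotient.mk Q)).IsPrime :=
      Ideal.map_isPrime_of_surjective Ideal.Quotient.mk_surjective (by rwa [Ideal.mk_ker])
    exact le_trans (WithBot.coe_le_coe.mpr
      (Groth.Agent.Lib.Helper73.DimFormula.height_map_quotient_le Q m hQm))
      (height_le_ringKrullDim_away S g.1 m hgm)

end Field

end Groth.Agent.Lib.Helper62.DimLoc

end
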