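import Groth.Agent.Lib.Helper62.FibDim
import Mathlib.RingTheory.NoetherNormalization
import Mathlib.RingTheory.Localization.Integral

/-! Dimension of `A[1/g]` for a finitely generated domain over a field (helper62). -/

set_option linter.style.haveILetI false

universe u

open TensorProduct Function KaehlerDifferential

noncomputable section

namespace Groth.Agent.Lib.Helper62.GCIField

/-- `k[t_1,…,t_d][1/h]` has dimension `d`. -/
theorem ringKrullDim_away_mvPolynomial (k : Type u) [Field k] (d : ℕ)
    (h : MvPolynomial (Fin d) k) (hh : h ≠ 0) :
    ringKrullDim (Localization.Away h) = d := by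
  haveI : Algebra.FiniteType k (Localization.Away h) :=
    Algebra.FiniteType.trans (S := MvPolynomial (Fin d) k) inferInstance
      (IsLocalization.finiteType_of_monoid_fg (Submonoid.powers h) _)
  haveI : Algebra.FormallyEtale (MvPolynomial (Fin d) k) (Localization.Away h) :=
    .of_isLocalization (Submonoid.powers h)
  haveI : Algebra.FormallySmooth k (Localization.Away h) :=
    Algebra.FormallySmooth.comp k (MvPolynomial (Fin d) k) _
  haveI : Nontrivial (Localization.Away h) := by
    haveI : IsDomain (Localization.Away h) :=
      IsLocalization.isDomain_localization (powers_le_nonZeroDivisors_of_noZeroDivisors hh)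
    infer_instance
  haveI : Module.Free (MvPolynomial (Fin d) k) Ω[MvPolynomial (Fin d) k⁄k] :=
    Module.Free.of_basis (KaehlerDifferential.mvPolynomialBasis k (Fin d))
  haveI : Module.Free (Localization.Away h) Ω[Localization.Away h⁄k] :=
    Module.Free.of_equiv (KaehlerDifferential.tensorKaehlerEquivOfFormallyEtale k
      (MvPolynomial (Fin d) k) (Localization.Away h))
  apply Groth.Agent.Lib.Helper62.DimSmooth.ringKrullDim_eq_of_smooth_of_free k
  rw [← (KaehlerDifferential.tensorKaehlerEquivOfFormallyEtale k
      (MvPolynomial (Fin d) k) (Localization.Away h)).finrank_eq, Module.finrank_baseChange,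
    Module.finrank_eq_card_basis (KaehlerDifferential.mvPolynomialBasis k (Fin d)),
    Fintype.card_fin]

/-- a finitely generated algebra over a field admitting a Noether normalization in `d` variables
has dimension `d`. -/
theorem ringKrullDim_eq_of_noether (k : Type u) [Field k] (A : Type u) [CommRing A] [Algebra k A]
    (d : ℕ) (ν : MvPolynomial (Fin d) k →ₐ[k] A) (hinj : Injective ν) (hint : ν.IsIntegral) :
    ringKrullDim A = d := by
  rw [← Groth.Agent.Lib.Helper62.DimSmooth.ringKrullDim_eq_of_isIntegral_of_injective
    ν.toRingHom hint hinj, MvPolynomial.ringKrullDim_of_isNoetherianRing,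
    ringKrullDim_eq_zero_of_field]
  simp

/-- inverting a nonzero element of a finitely generated domain over a field does not change the
dimension. -/
theorem ringKrullDim_away_eq (k : Type u) [Field k] (A : Type u) [CommRing A] [IsDomain A]
    [Algebra k A] [Algebra.FiniteType k A] (g : A) (hg : g ≠ 0) :
    ringKrullDim (Localization.Away g) = ringKrullDim A := by
  obtain ⟨d, ν, hinj, hint⟩ := exists_integral_inj_algHom_of_fg (k := k) (R := A)
  have hdimA : ringKrullDim A = d := ringKrullDim_eq_of_noether k A d ν hinj hint
  letI : Algebra (MvPolynomial (Fin d) k) A := ν.toRingHom.toAlgebra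
  haveI : Algebra.IsIntegral (MvPolynomial (Fin d) k) A := ⟨hint⟩
  have hinj' : Injective (algebraMap (MvPolynomial (Fin d) k) A) := hinj
  obtain ⟨c, h, hh, hc⟩ := (Algebra.IsIntegral.isIntegral (R := MvPolynomial (Fin d) k)
    g).isAlgebraic.exists_smul_eq_mul (1 : A) (mem_nonZeroDivisors_of_ne_zero hg)
  have hgc : algebraMap (MvPolynomial (Fin d) k) A h = g * c := by
    rw [← hc, Algebra.smul_def, mul_one]
  apply le_antisymm
  · exact Groth.Agent.Lib.Helper62.FibDim.ringKrullDim_le_of_isLocalization
      (Submonoid.powers g) _
  · rw [hdimA]
    -- `T' = (A_g)_c = A_{gc}`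
    have h1 : ringKrullDim (Localization.Away (algebraMap A (Localization.Away g) c)) ≤
        ringKrullDim (Localization.Away g) :=
      Groth.Agent.Lib.Helper62.FibDim.ringKrullDim_le_of_isLocalization
        (Submonoid.powers (algebraMap A (Localization.Away g) c)) _
    refine le_trans (le_of_eq ?_) h1
    haveI hloc : IsLocalization.Away (g * c)
        (Localization.Away (algebraMap A (Localization.Away g) c)) := inferInstance
    haveI hloc' : IsLocalization.Away (algebraMap (MvPolynomial (Fin d) k) A h)
        (Localization.Away (algebraMap A (Localization.Away g) c)) := by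
      rw [hgc]; exact hloc
    haveI : IsLocalization (Algebra.algebraMapSubmonoid A (Submonoid.powers h))
        (Localization.Away (algebraMap A (Localization.Away g) c)) := inferInstance
    have hint2 := isIntegral_localization (R := MvPolynomial (Fin d) k) (S := A)
      (M := Submonoid.powers h) (Rₘ := Localization.Away h)
      (Sₘ := Localization.Away (algebraMap A (Localization.Away g) c))
    have hinj2 : Injective (IsLocalization.map (M := Submonoid.powers h)
        (Localization.Away (algebraMap A (Localization.Away g) c))
        (algebraMap (MvPolynomial (Fin d) k) A)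
        (show _ ≤ (Algebra.algebraMapSubmonoid A (Submonoid.powers h)).comap _ from
          (Submonoid.powers h).le_comap_map) : Localization.Away h →+* _) :=
      IsLocalization.map_injective_of_injective (Submonoid.powers h) (Localization.Away h) _
        hinj'
    rw [← Groth.Agent.Lib.Helper62.DimSmooth.ringKrullDim_eq_of_isIntegral_of_injective _
      hint2 hinj2]
    exact (ringKrullDim_away_mvPolynomial k d h hh).symm

end Groth.Agent.Lib.Helper62.GCIField

end
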