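import Groth.Agent.Lib.Helper62.DimLoc2
import Groth.Agent.Lib.Helper62.JacMinor
import Groth.Agent.Lib.Helper62.GCIField1

/-! Comparing a finite type algebra with a quotient of the same local dimension (helper62). -/

set_option linter.style.haveILetI false

universe u

open Function KaehlerDifferential TensorProduct

noncomputable section

namespace Groth.Agent.Lib.Helper62.DimLoc

section General

variable {S : Type*} [CommRing S]

/-- in a Noetherian ring, `compDim p` is attained by a minimal prime below `p`. -/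
theorem exists_minimalPrimes_eq_compDim [IsNoetherianRing S] (p : Ideal S) [p.IsPrime] :
    ∃ Q ∈ minimalPrimes S, Q ≤ p ∧ ringKrullDim (S ⧸ Q) = compDim p := by
  have hfin : (minimalPrimes S).Finite := minimalPrimes.finite_of_isNoetherianRing S
  haveI : Finite {Q : Ideal S // Q ∈ minimalPrimes S ∧ Q ≤ p} :=
    (hfin.subset (fun Q (hQ : Q ∈ minimalPrimes S ∧ Q ≤ p) => hQ.1)).to_subtype
  obtain ⟨Q₀, hQ₀, hQ₀p⟩ := exists_minimalPrimes_le p
  haveI : Nonempty {Q : Ideal S // Q ∈ minimalPrimes S ∧ Q ≤ p} := ⟨⟨Q₀, hQ₀, hQ₀p⟩⟩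
  obtain ⟨Q, hQ⟩ := exists_eq_ciSup_of_finite
    (f := fun Q : {Q : Ideal S // Q ∈ minimalPrimes S ∧ Q ≤ p} => ringKrullDim (S ⧸ Q.1))
  exact ⟨Q.1, Q.2.1, Q.2.2, hQ⟩

end General

section CL

variable (k : Type u) [Field k] (E : Type u) [CommRing E] [Algebra k E] [Algebra.FiniteType k E]
  {S : Type u} [CommRing S] [IsNoetherianRing S] (ψ : E →+* S) (hψ : Surjective ψ)
  (q : Ideal S) [q.IsPrime]

include k hψ in
/-- if `E → S` is surjective, `E` is a domain locally at the preimage `q'` of `q`, and the local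
dimension of `S` at `q` is at least that of `E` at `q'`, then `E_{q'} → S_q` is bijective. -/
theorem bijective_localRingHom_of_compDim_le [IsDomain (Localization.AtPrime (q.comap ψ))]
    (h : compDim (q.comap ψ) ≤ compDim q) :
    Bijective (Localization.localRingHom (q.comap ψ) q ψ rfl) := by
  refine ⟨?_, RingHom.surjective_localRingHom_of_surjective ψ hψ q⟩
  -- the minimal prime `Q'` of `E` below `q'`
  have hQ'prime : (RingHom.ker (algebraMap E (Localization.AtPrime (q.comap ψ)))).IsPrime :=
    RingHom.ker_isPrime _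
  have hmemQ' : ∀ x : E, x ∈ RingHom.ker (algebraMap E (Localization.AtPrime (q.comap ψ))) ↔
      ∃ s : E, s ∉ q.comap ψ ∧ s * x = 0 := by
    intro x
    rw [RingHom.mem_ker, IsLocalization.map_eq_zero_iff (q.comap ψ).primeCompl]
    constructor
    · rintro ⟨⟨s, hs⟩, hsx⟩
      exact ⟨s, hs, hsx⟩
    · rintro ⟨s, hs, hsx⟩
      exact ⟨⟨s, hs⟩, hsx⟩
  have hQ'le : ∀ P : Ideal E, P.IsPrime → P ≤ q.comap ψ →
      RingHom.ker (algebraMap E (Localization.AtPrime (q.comap ψ))) ≤ P := by
    intro P hP hPq x hx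
    obtain ⟨s, hs, hsx⟩ := (hmemQ' x).mp hx
    have : s * x ∈ P := by rw [hsx]; exact P.zero_mem
    exact (hP.mem_or_mem this).resolve_left fun h => hs (hPq h)
  have hQ'q : RingHom.ker (algebraMap E (Localization.AtPrime (q.comap ψ))) ≤ q.comap ψ := by
    intro x hx
    obtain ⟨s, hs, hsx⟩ := (hmemQ' x).mp hx
    have : s * x ∈ q.comap ψ := by rw [hsx]; exact Ideal.zero_mem _
    exact (Ideal.IsPrime.mem_or_mem inferInstance this).resolve_left hs
  have hQ'min : RingHom.ker (algebraMap E (Localization.AtPrime (q.comap ψ))) ∈ minimalPrimes E := by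
    refine ⟨⟨hQ'prime, bot_le⟩, ?_⟩
    rintro P ⟨hP, -⟩ hPQ'
    exact hQ'le P hP (hPQ'.trans hQ'q)
  -- `compDim q' = dim E/Q'`
  have hcomp : compDim (q.comap ψ) =
      ringKrullDim (E ⧸ RingHom.ker (algebraMap E (Localization.AtPrime (q.comap ψ)))) := by
    apply le_antisymm
    · rw [compDim_le_iff]
      intro Q hQ hQq
      have h1 := hQ'le Q hQ.1.1 hQq
      have h2 : Q = RingHom.ker (algebraMap E (Localization.AtPrime (q.comap ψ))) :=
        le_antisymm (hQ.2 ⟨hQ'prime, bot_le⟩ h1) h1
      rw [h2]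
    · exact le_compDim hQ'min hQ'q
  -- a minimal prime of `S` below `q` of maximal dimension
  obtain ⟨Q, hQ, hQq, hQdim⟩ := exists_minimalPrimes_eq_compDim q
  haveI : Q.IsPrime := hQ.1.1
  haveI : (Q.comap ψ).IsPrime := Ideal.comap_isPrime _ _
  have hQ'Q : RingHom.ker (algebraMap E (Localization.AtPrime (q.comap ψ))) ≤ Q.comap ψ :=
    hQ'le _ inferInstance (Ideal.comap_mono hQq)
  have hdim1 : ringKrullDim (S ⧸ Q) ≤ ringKrullDim (E ⧸ Q.comap ψ) :=
    ringKrullDim_le_of_surjective (Ideal.quotientMap Q ψ le_rfl)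
      (Ideal.quotientMap_surjective hψ)
  have hform := ringKrullDim_quotient_eq_height_map_add k E
    (RingHom.ker (algebraMap E (Localization.AtPrime (q.comap ψ)))) (Q.comap ψ) hQ'Q
  -- hence `ht (Q̃/Q') = 0`
  have hle : ringKrullDim (E ⧸ RingHom.ker (algebraMap E (Localization.AtPrime (q.comap ψ)))) ≤
      ringKrullDim (E ⧸ Q.comap ψ) := by
    rw [← hcomp]
    exact h.trans (hQdim ▸ hdim1)
  obtain ⟨n, -, hn, -, -⟩ :=
    Groth.Agent.Lib.Helper73.DimFormula.exists_trdeg_eq_ringKrullDim k (E ⧸ Q.comap ψ)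
  have hht : ((Q.comap ψ).map (Ideal.Quotient.mk
      (RingHom.ker (algebraMap E (Localization.AtPrime (q.comap ψ)))))).height = 0 := by
    rw [hform, hn] at hle
    cases hh : ((Q.comap ψ).map (Ideal.Quotient.mk
      (RingHom.ker (algebraMap E (Localization.AtPrime (q.comap ψ)))))).height with
    | top =>
      rw [hh] at hle
      have h5 : ((⊤ : ℕ∞) + (n : ℕ∞) : ℕ∞) ≤ (n : ℕ∞) := by exact_mod_cast hle
      rw [top_add] at h5
      exact absurd h5 (by simp)
    | coe a =>
      rw [hh] at hle
      have : (a : ℕ) + n ≤ n := by exact_mod_cast hle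
      have : a = 0 := by omega
      rw [this]; rfl
  haveI : IsDomain (E ⧸ RingHom.ker (algebraMap E (Localization.AtPrime (q.comap ψ)))) :=
    Ideal.Quotient.isDomain _
  rw [Ideal.height_eq_zero_iff_eq_bot, Ideal.map_eq_bot_iff_le_ker, Ideal.mk_ker] at hht
  -- conclusion
  have hker : RingHom.ker ψ ≤ RingHom.ker (algebraMap E (Localization.AtPrime (q.comap ψ))) :=
    le_trans (fun x hx => by
      rw [Ideal.mem_comap, (RingHom.mem_ker).mp hx]; exact Q.zero_mem) hht
  rw [injective_iff_map_eq_zero]
  intro x hx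
  have hx' : x ∈ RingHom.ker (Localization.localRingHom (q.comap ψ) q ψ rfl) := hx
  rw [Groth.Agent.Lib.Helper62.JacMinor.ker_localRingHom_eq_map ψ hψ q] at hx'
  have : (RingHom.ker ψ).map (algebraMap E (Localization.AtPrime (q.comap ψ))) ≤ ⊥ := by
    rw [Ideal.map_le_iff_le_comap]
    exact hker
  exact this hx'

end CL

section Smooth

variable (k : Type u) [Field k] (E : Type u) [CommRing E] [Algebra k E] [Algebra.FiniteType k E]
  [Algebra.FormallySmooth k E] [Module.Free E Ω[E⁄k]] (n : ℕ)

/-- localizations of a smooth algebra with free differentials of rank `n` have dimension `n`. -/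
theorem ringKrullDim_away_of_smooth_of_free (hn : Module.finrank E Ω[E⁄k] = n) (g : E)
    [Nontrivial (Localization.Away g)] : ringKrullDim (Localization.Away g) = n := by
  haveI : Nontrivial E := (algebraMap E (Localization.Away g)).domain_nontrivial
  haveI : Algebra.FiniteType k (Localization.Away g) :=
    Algebra.FiniteType.trans (S := E) inferInstance
      (IsLocalization.finiteType_of_monoid_fg (Submonoid.powers g) _)
  haveI : Algebra.FormallyEtale E (Localization.Away g) :=
    .of_isLocalization (Submonoid.powers g)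
  haveI : Algebra.FormallySmooth k (Localization.Away g) :=
    Algebra.FormallySmooth.comp k E _
  haveI : Module.Free (Localization.Away g) Ω[Localization.Away g⁄k] :=
    Module.Free.of_equiv (KaehlerDifferential.tensorKaehlerEquivOfFormallyEtale k E
      (Localization.Away g))
  apply Groth.Agent.Lib.Helper62.DimSmooth.ringKrullDim_eq_of_smooth_of_free k
  rw [← (KaehlerDifferential.tensorKaehlerEquivOfFormallyEtale k E
      (Localization.Away g)).finrank_eq, Module.finrank_baseChange, hn]

theorem compDim_eq_of_smooth_of_free (hn : Module.finrank E Ω[E⁄k] = n) (p : Ideal E)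
    [hp : p.IsPrime] : compDim p = n := by
  have h1 := localDim_eq_compDim k E ⟨p, hp⟩
  rw [localDim_eq_iInf_away] at h1
  rw [← h1]
  have hconst : ∀ g : {g : E // g ∉ p}, ringKrullDim (Localization.Away g.1) = n := by
    intro g
    haveI : Nontrivial (Localization.Away g.1) := by
      rw [← not_subsingleton_iff_nontrivial,
        IsLocalization.subsingleton_iff (M := Submonoid.powers g.1) (S := Localization.Away g.1)]
      rintro ⟨m, hm⟩
      apply g.2
      apply hp.mem_of_pow_mem m
      simp only at hm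
      rw [hm]
      exact p.zero_mem
    exact ringKrullDim_away_of_smooth_of_free k E n hn g.1
  haveI : Nonempty {g : E // g ∉ p} := ⟨⟨1, fun h => hp.ne_top ((Ideal.eq_top_iff_one p).mpr h)⟩⟩
  simp_rw [hconst]
  exact iInf_const

end Smooth

end Groth.Agent.Lib.Helper62.DimLoc

end
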