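import Groth.Agent.Lib.Helper62.DimLoc4
import Mathlib.RingTheory.Unramified.LocalStructure

/-! Unramified over a smooth algebra of dimension `n` and of local dimension `≥ n` implies étale
(helper62). -/

set_option linter.style.haveILetI false

universe u

open Function KaehlerDifferential TensorProduct

noncomputable section

namespace Groth.Agent.Lib.Helper62.DimLoc

section

variable (k : Type u) [Field k] (R E S : Type u) [CommRing R] [CommRing E] [CommRing S]
  [Algebra k R] [Algebra k E] [Algebra k S] [Algebra R E] [Algebra R S] [IsScalarTower k R E]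
  [IsScalarTower k R S] [Algebra.FiniteType k R] [Algebra.FormallySmooth k R]
  [Module.Free R Ω[R⁄k]] (n : ℕ) (hn : Module.finrank R Ω[R⁄k] = n)
  [Algebra.Etale R E] [Algebra.FiniteType k S]
  (φ : E →ₐ[R] S) (hφ : Surjective φ) (q : Ideal S) [q.IsPrime]

omit [IsScalarTower k R S] in
include k hn hφ in
/-- a quotient `S` of an étale `R`-algebra `E`, where `R` is smooth over `k` with free
differentials of rank `n`, is étale over `R` at every point where its local dimension is at
least `n`. -/
theorem formallyEtale_localization_of_surjective
    (h : (n : WithBot ℕ∞) ≤ FlatMor.localDim (PrimeSpectrum S) ⟨q, inferInstance⟩) :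
    Algebra.FormallyEtale R (Localization.AtPrime q) := by
  haveI : Algebra.FiniteType k E :=
    Algebra.FiniteType.trans (inferInstance : Algebra.FiniteType k R) inferInstance
  haveI : Algebra.FormallySmooth k E := Algebra.FormallySmooth.comp k R E
  haveI : Module.Free E Ω[E⁄k] :=
    Module.Free.of_equiv (KaehlerDifferential.tensorKaehlerEquivOfFormallyEtale k R E)
  haveI : IsNoetherianRing S := Algebra.FiniteType.isNoetherianRing k S
  haveI : Nontrivial S := by
    by_contra hS
    rw [not_nontrivial_iff_subsingleton] at hS
    exact Ideal.IsPrime.ne_top (inferInstance : q.IsPrime) (Subsingleton.elim _ _)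
  haveI : Nontrivial E := (φ : E →+* S).domain_nontrivial
  haveI : Nontrivial R := (algebraMap R E).domain_nontrivial
  have hnE : Module.finrank E Ω[E⁄k] = n := by
    rw [← (KaehlerDifferential.tensorKaehlerEquivOfFormallyEtale k R E).finrank_eq,
      Module.finrank_baseChange, hn]
  haveI : Algebra.FinitePresentation k E := Algebra.FinitePresentation.of_finiteType.mp inferInstance
  haveI : Algebra.Smooth k E := ⟨inferInstance, inferInstance⟩
  haveI : (q.comap (φ : E →+* S)).IsPrime := Ideal.comap_isPrime _ _
  haveI : IsDomain (Localization.AtPrime (q.comap (φ : E →+* S))) :=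
    Groth.Agent.Lib.Helper62.SmoothReg.isDomain_localization_of_smooth k E _
  have hcomp : compDim (q.comap (φ : E →+* S)) ≤ compDim q := by
    rw [compDim_eq_of_smooth_of_free k E n hnE, ← localDim_eq_compDim k S ⟨q, inferInstance⟩]
    exact h
  have hbij := bijective_localRingHom_of_compDim_le k E (φ : E →+* S) hφ q hcomp
  haveI : Algebra.FormallyEtale E (Localization.AtPrime (q.comap (φ : E →+* S))) :=
    .of_isLocalization (q.comap (φ : E →+* S)).primeCompl
  haveI : Algebra.FormallyEtale R (Localization.AtPrime (q.comap (φ : E →+* S))) :=
    Algebra.FormallyEtale.comp R E _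
  let ψ : Localization.AtPrime (q.comap (φ : E →+* S)) →ₐ[R] Localization.AtPrime q :=
    { Localization.localRingHom (q.comap (φ : E →+* S)) q (φ : E →+* S) rfl with
      commutes' := fun r => by
        change Localization.localRingHom (q.comap (φ : E →+* S)) q (φ : E →+* S) rfl
          (algebraMap R _ r) = _
        rw [IsScalarTower.algebraMap_apply R E (Localization.AtPrime (q.comap (φ : E →+* S))),
          Localization.localRingHom_to_map]
        change algebraMap S _ (φ (algebraMap R E r)) = _
        rw [φ.commutes, ← IsScalarTower.algebraMap_apply] }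
  exact Algebra.FormallyEtale.of_equiv (AlgEquiv.ofBijective ψ hbij)

end

section

variable (k : Type u) [Field k] (R A : Type u) [CommRing R] [CommRing A]
  [Algebra k R] [Algebra k A] [Algebra R A] [IsScalarTower k R A]
  [Algebra.FiniteType k R] [Algebra.FormallySmooth k R]
  [Module.Free R Ω[R⁄k]] (n : ℕ) (hn : Module.finrank R Ω[R⁄k] = n)
  [Algebra.FiniteType k A] (p : Ideal A) [p.IsPrime]

theorem isEtaleAt_congr {I J : Ideal A} (h : I = J) [I.IsPrime] [J.IsPrime]
    (hI : Algebra.IsEtaleAt R I) : Algebra.IsEtaleAt R J := by
  subst h
  exact hI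

include k hn in
/-- unramified at `p` over a smooth `k`-algebra with free differentials of rank `n`, and local
dimension at least `n` at `p`: étale at `p`. -/
theorem isEtaleAt_of_isUnramifiedAt [Algebra.IsUnramifiedAt R p]
    (h : (n : WithBot ℕ∞) ≤ FlatMor.localDim (PrimeSpectrum A) ⟨p, inferInstance⟩) :
    Algebra.IsEtaleAt R p := by
  haveI : Algebra.FiniteType R A := Algebra.FiniteType.of_restrictScalars_finiteType k R A
  obtain ⟨f, hf, P, φ, hφ⟩ :=
    Algebra.IsUnramifiedAt.exists_hasStandardEtaleSurjectionOn (R := R) p
  letI : Algebra k P.Ring := ((algebraMap R P.Ring).comp (algebraMap k R)).toAlgebra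
  haveI : IsScalarTower k R P.Ring := IsScalarTower.of_algebraMap_eq fun _ => rfl
  haveI : Algebra.FiniteType k (Localization.Away f) :=
    Algebra.FiniteType.trans (S := A) inferInstance
      (IsLocalization.finiteType_of_monoid_fg (Submonoid.powers f) _)
  have hdisj : Disjoint (Submonoid.powers f : Set A) (p : Set A) := by
    rw [Set.disjoint_left]
    rintro x ⟨m, rfl⟩ hx
    exact hf (Ideal.IsPrime.mem_of_pow_mem inferInstance m hx)
  haveI hq : (p.map (algebraMap A (Localization.Away f))).IsPrime :=
    IsLocalization.isPrime_of_isPrime_disjoint (Submonoid.powers f) _ p inferInstance hdisj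
  have hcomap : (p.map (algebraMap A (Localization.Away f))).comap
      (algebraMap A (Localization.Away f)) = p :=
    IsLocalization.under_map_of_isPrime_disjoint (Submonoid.powers f) _ inferInstance hdisj
  have hloc : (n : WithBot ℕ∞) ≤ FlatMor.localDim (PrimeSpectrum (Localization.Away f))
      ⟨p.map (algebraMap A (Localization.Away f)), hq⟩ := by
    rw [localDim_away]
    refine le_trans h (le_of_eq ?_)
    congr 1
    exact PrimeSpectrum.ext hcomap.symm
  haveI := formallyEtale_localization_of_surjective k R P.Ring (Localization.Away f) n hn φ hφ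
    (p.map (algebraMap A (Localization.Away f))) hloc
  have e := IsLocalization.localizationLocalizationAtPrimeIsoLocalization (Submonoid.powers f)
    (p.map (algebraMap A (Localization.Away f)))
  haveI : (Ideal.comap (algebraMap A (Localization (Submonoid.powers f)))
      (p.map (algebraMap A (Localization.Away f)))).IsPrime := Ideal.comap_isPrime _ _
  have h1 : Algebra.IsEtaleAt R (Ideal.comap (algebraMap A (Localization (Submonoid.powers f)))
      (p.map (algebraMap A (Localization.Away f)))) :=
    Algebra.FormallyEtale.of_equiv (e.symm.restrictScalars R)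
  exact isEtaleAt_congr R A hcomap h1

end

end Groth.Agent.Lib.Helper62.DimLoc

end
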