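import Groth.Agent.Lib.Helper62.DimLoc5

/-! Differentials over a polynomial ring (helper62). -/

set_option linter.style.haveILetI false

universe u

open Function KaehlerDifferential TensorProduct

noncomputable section

namespace Groth.Agent.Lib.Helper62.DimLoc

section

variable (k : Type u) [CommRing k] (n : ℕ) (T : Type u) [CommRing T] [Algebra k T]
  [Algebra (MvPolynomial (Fin n) k) T] [IsScalarTower k (MvPolynomial (Fin n) k) T]

/-- `Ω_{T/k[x]} = 0` iff the differentials of the coordinates span `Ω_{T/k}`. -/
theorem subsingleton_kaehler_iff_span_eq_top :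
    Subsingleton Ω[T⁄MvPolynomial (Fin n) k] ↔
      Submodule.span T (Set.range fun i : Fin n => D k T
        (algebraMap (MvPolynomial (Fin n) k) T (MvPolynomial.X i))) = ⊤ := by
  constructor
  · intro hsub
    rw [eq_top_iff]
    rintro ω -
    have hω : ω ∈ LinearMap.ker (KaehlerDifferential.map k (MvPolynomial (Fin n) k) T T) := by
      rw [LinearMap.mem_ker]
      exact Subsingleton.elim _ _
    rw [← KaehlerDifferential.range_mapBaseChange] at hω
    obtain ⟨z, rfl⟩ := hω
    induction z with
    | zero => simp
    | add x y hx hy => rw [map_add]; exact Submodule.add_mem _ hx hy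
    | tmul t η =>
      rw [KaehlerDifferential.mapBaseChange_tmul]
      refine Submodule.smul_mem _ _ ?_
      have hη : η ∈ Submodule.span (MvPolynomial (Fin n) k)
          (Set.range (KaehlerDifferential.mvPolynomialBasis k (Fin n))) := by
        rw [(KaehlerDifferential.mvPolynomialBasis k (Fin n)).span_eq]
        trivial
      induction hη using Submodule.span_induction with
      | mem x hx =>
        obtain ⟨i, rfl⟩ := hx
        rw [KaehlerDifferential.mvPolynomialBasis_apply, KaehlerDifferential.map_D]
        exact Submodule.subset_span ⟨i, rfl⟩
      | zero => simp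
      | add x y _ _ hx hy => rw [map_add]; exact Submodule.add_mem _ hx hy
      | smul a x _ hx =>
        rw [LinearMap.map_smul_of_tower]
        exact Submodule.smul_of_tower_mem _ a hx
  · intro hspan
    have hzero : ∀ ω : Ω[T⁄k], KaehlerDifferential.map k (MvPolynomial (Fin n) k) T T ω = 0 := by
      intro ω
      have hω : ω ∈ Submodule.span T (Set.range fun i : Fin n => D k T
          (algebraMap (MvPolynomial (Fin n) k) T (MvPolynomial.X i))) := by
        rw [hspan]; trivial
      induction hω using Submodule.span_induction with
      | mem x hx =>
        obtain ⟨i, rfl⟩ := hx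
        rw [KaehlerDifferential.map_D, Algebra.algebraMap_self, RingHom.id_apply,
          Derivation.map_algebraMap]
      | zero => simp
      | add x y _ _ hx hy => rw [map_add, hx, hy, add_zero]
      | smul a x _ hx => rw [map_smul, hx, smul_zero]
    refine ⟨fun a b => ?_⟩
    obtain ⟨a', rfl⟩ := KaehlerDifferential.map_surjective k (MvPolynomial (Fin n) k) T a
    obtain ⟨b', rfl⟩ := KaehlerDifferential.map_surjective k (MvPolynomial (Fin n) k) T b
    rw [hzero, hzero]

end

end Groth.Agent.Lib.Helper62.DimLoc

end
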