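import Groth.Agent.Lib.Helper62.DimLoc6
import Mathlib.RingTheory.Smooth.StandardSmoothOfFree
import Mathlib.RingTheory.Unramified.Locus

/-! Smoothness at a point of an algebra of finite type over a field, in terms of the fibre
dimension of the differentials and the local dimension (helper62). -/

set_option linter.style.haveILetI false

universe u

open Function KaehlerDifferential TensorProduct

noncomputable section

namespace Groth.Agent.Lib.Helper62.DimLoc

section Rank

variable (S : Type u) [CommRing S] (M : Type u) [AddCommGroup M] [Module S M]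
  (f : S) (q : Ideal S) [q.IsPrime]

/-- if `M[1/f]` is free of rank `d` and `f ∉ q`, the fibre of `M` at `q` has dimension `d`. -/
theorem finrank_residueField_tensor_of_free_away (hf : f ∉ q)
    [Module.Free (Localization.Away f) (Localization.Away f ⊗[S] M)] :
    Module.finrank q.ResidueField (q.ResidueField ⊗[S] M) =
      Module.finrank (Localization.Away f) (Localization.Away f ⊗[S] M) := by
  have hunit : IsUnit (algebraMap S q.ResidueField f) := by
    rw [isUnit_iff_ne_zero, Ne, Ideal.algebraMap_residueField_eq_zero]
    exact hf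
  letI : Algebra (Localization.Away f) q.ResidueField :=
    (IsLocalization.Away.lift f (g := algebraMap S q.ResidueField) hunit).toAlgebra
  haveI : IsScalarTower S (Localization.Away f) q.ResidueField :=
    IsScalarTower.of_algebraMap_eq fun s => (IsLocalization.Away.lift_eq f hunit s).symm
  haveI : Nontrivial (Localization.Away f) :=
    (algebraMap (Localization.Away f) q.ResidueField).domain_nontrivial
  rw [← (AlgebraTensorModule.cancelBaseChange S (Localization.Away f) q.ResidueField
    q.ResidueField M).finrank_eq, Module.finrank_baseChange]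

end Rank

section Span

variable (S : Type u) [CommRing S] (M : Type u) [AddCommGroup M] [Module S M]
  (K : Type u) [Field K] [Algebra S K]

/-- `K ⊗ M` is spanned over `K` by the `1 ⊗ m`, `m` in a spanning set of `M`. -/
theorem span_one_tmul_eq_top (s : Set M) (hs : Submodule.span S s = ⊤) :
    Submodule.span K ((fun m => (1 : K) ⊗ₜ[S] m) '' s) = ⊤ := by
  rw [eq_top_iff]
  rintro x -
  induction x with
  | zero => exact Submodule.zero_mem _
  | add x y hx hy => exact Submodule.add_mem _ hx hy
  | tmul c m =>
    have hm : m ∈ Submodule.span S s := by rw [hs]; trivial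
    induction hm using Submodule.span_induction with
    | mem m hm =>
      have : c ⊗ₜ[S] m = c • ((1 : K) ⊗ₜ[S] m) := by
        rw [TensorProduct.smul_tmul', smul_eq_mul, mul_one]
      rw [this]
      exact Submodule.smul_mem _ _ (Submodule.subset_span ⟨m, hm, rfl⟩)
    | zero => rw [TensorProduct.tmul_zero]; exact Submodule.zero_mem _
    | add a b _ _ ha hb => rw [TensorProduct.tmul_add]; exact Submodule.add_mem _ ha hb
    | smul a m _ hm =>
      have : c ⊗ₜ[S] (a • m) = (algebraMap S K a) • (c ⊗ₜ[S] m) := by
        rw [TensorProduct.tmul_smul, algebraMap_smul]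
      rw [this]
      exact Submodule.smul_mem _ _ hm

end Span

section Main

variable (k : Type u) [Field k] (S : Type u) [CommRing S] [Algebra k S] [Algebra.FiniteType k S]
  (q : Ideal S) [q.IsPrime]

include k in
/-- at a smooth point the local dimension is the fibre dimension of the differentials. -/
theorem localDim_eq_finrank_of_isSmoothAt [hsm : Algebra.IsSmoothAt k q] :
    FlatMor.localDim (PrimeSpectrum S) ⟨q, inferInstance⟩ =
      ((Module.finrank q.ResidueField (q.ResidueField ⊗[S] Ω[S⁄k]) : ℕ) : WithBot ℕ∞) := by
  haveI : Algebra.FinitePresentation k S := Algebra.FinitePresentation.of_finiteType.mp inferInstance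
  obtain ⟨f, hf, hstd⟩ := Algebra.IsSmoothAt.exists_notMem_isStandardSmooth k q
  haveI : Algebra.FiniteType k (Localization.Away f) :=
    Algebra.FiniteType.trans (S := S) inferInstance
      (IsLocalization.finiteType_of_monoid_fg (Submonoid.powers f) _)
  haveI : Algebra.FormallySmooth k (Localization.Away f) := inferInstance
  haveI : Module.Free (Localization.Away f) Ω[Localization.Away f⁄k] := inferInstance
  haveI : Algebra.FormallyEtale S (Localization.Away f) :=
    .of_isLocalization (Submonoid.powers f)
  have e := KaehlerDifferential.tensorKaehlerEquivOfFormallyEtale k S (Localization.Away f)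
  haveI : Module.Free (Localization.Away f) (Localization.Away f ⊗[S] Ω[S⁄k]) :=
    Module.Free.of_equiv e.symm
  rw [finrank_residueField_tensor_of_free_away S Ω[S⁄k] f q hf, e.finrank_eq]
  have hdisj : Disjoint (Submonoid.powers f : Set S) (q : Set S) := by
    rw [Set.disjoint_left]
    rintro x ⟨m, rfl⟩ hx
    exact hf (Ideal.IsPrime.mem_of_pow_mem inferInstance m hx)
  haveI hq : (q.map (algebraMap S (Localization.Away f))).IsPrime :=
    IsLocalization.isPrime_of_isPrime_disjoint (Submonoid.powers f) _ q inferInstance hdisj
  have hcomap : (q.map (algebraMap S (Localization.Away f))).comap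
      (algebraMap S (Localization.Away f)) = q :=
    IsLocalization.under_map_of_isPrime_disjoint (Submonoid.powers f) _ inferInstance hdisj
  have h1 := localDim_away S f ⟨q.map (algebraMap S (Localization.Away f)), hq⟩
  have h2 : PrimeSpectrum.comap (algebraMap S (Localization.Away f))
      ⟨q.map (algebraMap S (Localization.Away f)), hq⟩ = ⟨q, inferInstance⟩ :=
    PrimeSpectrum.ext hcomap
  rw [h2] at h1
  rw [← h1, localDim_eq_compDim k (Localization.Away f)]
  exact compDim_eq_of_smooth_of_free k (Localization.Away f) _ rfl _

include k in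
/-- if the fibre dimension of the differentials at `q` is at most the local dimension,
then `q` is a smooth point. -/
theorem isSmoothAt_of_finrank_le
    (h : ((Module.finrank q.ResidueField (q.ResidueField ⊗[S] Ω[S⁄k]) : ℕ) : WithBot ℕ∞) ≤
      FlatMor.localDim (PrimeSpectrum S) ⟨q, inferInstance⟩) :
    Algebra.IsSmoothAt k q := by
  classical
  have hspan := span_one_tmul_eq_top S Ω[S⁄k] q.ResidueField (Set.range (D k S))
    (KaehlerDifferential.span_range_derivation k S)
  obtain ⟨v, hv, hvspan, hvli⟩ := Submodule.exists_fun_fin_finrank_span_eq q.ResidueField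
    ((fun m => (1 : q.ResidueField) ⊗ₜ[S] m) '' (Set.range (D k S)))
  replace hvspan := hvspan.trans hspan
  have hn : Module.finrank q.ResidueField
      (Submodule.span q.ResidueField ((fun m => (1 : q.ResidueField) ⊗ₜ[S] m) ''
        (Set.range (D k S)))) =
      Module.finrank q.ResidueField (q.ResidueField ⊗[S] Ω[S⁄k]) := by
    rw [hspan, finrank_top]
  rw [← hn] at h
  generalize Module.finrank q.ResidueField
      (Submodule.span q.ResidueField ((fun m => (1 : q.ResidueField) ⊗ₜ[S] m) ''
        (Set.range (D k S)))) = n at v hv hvspan hvli h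
  have hv' : ∀ i, ∃ s : S, v i = (1 : q.ResidueField) ⊗ₜ[S] D k S s := by
    intro i
    obtain ⟨_, ⟨s, rfl⟩, hs⟩ := hv i
    exact ⟨s, hs.symm⟩
  choose g hg using hv'
  let b : Module.Basis (Fin n) q.ResidueField (q.ResidueField ⊗[S] Ω[S⁄k]) :=
    Module.Basis.mk hvli hvspan.ge
  letI : Algebra (MvPolynomial (Fin n) k) S := (MvPolynomial.aeval g).toAlgebra
  haveI : IsScalarTower k (MvPolynomial (Fin n) k) S :=
    IsScalarTower.of_algebraMap_eq fun c => ((MvPolynomial.aeval g).commutes c).symm
  haveI : Algebra.FiniteType (MvPolynomial (Fin n) k) S :=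
    Algebra.FiniteType.of_restrictScalars_finiteType k (MvPolynomial (Fin n) k) S
  have hX : ∀ i, algebraMap (MvPolynomial (Fin n) k) S (MvPolynomial.X i) = g i := fun i =>
    MvPolynomial.aeval_X g i
  -- unramified at `q`
  let φ : q.ResidueField ⊗[S] Ω[S⁄k] →ₗ[q.ResidueField]
      q.ResidueField ⊗[S] Ω[S⁄MvPolynomial (Fin n) k] :=
    (KaehlerDifferential.map k (MvPolynomial (Fin n) k) S S).baseChange q.ResidueField
  have hφsurj : Surjective φ := by
    have := LinearMap.lTensor_surjective q.ResidueField
      (KaehlerDifferential.map_surjective k (MvPolynomial (Fin n) k) S)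
    exact this
  have hφ0 : φ = 0 := by
    apply b.ext
    intro i
    rw [Module.Basis.mk_apply, hg i, LinearMap.baseChange_tmul, KaehlerDifferential.map_D,
      LinearMap.zero_apply]
    change (1 : q.ResidueField) ⊗ₜ[S] D (MvPolynomial (Fin n) k) S ((AlgHom.id k S) (g i)) = 0
    rw [AlgHom.id_apply, ← hX i, Derivation.map_algebraMap, TensorProduct.tmul_zero]
  haveI hsub : Subsingleton (q.ResidueField ⊗[S] Ω[S⁄MvPolynomial (Fin n) k]) := by
    refine ⟨fun x y => ?_⟩
    obtain ⟨x', rfl⟩ := hφsurj x
    obtain ⟨y', rfl⟩ := hφsurj y
    rw [hφ0, LinearMap.zero_apply, LinearMap.zero_apply]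
  haveI : Algebra.IsUnramifiedAt (MvPolynomial (Fin n) k) q := by
    have hmem : (⟨q, inferInstance⟩ : PrimeSpectrum S) ∈
        Algebra.unramifiedLocus (MvPolynomial (Fin n) k) S := by
      rw [Algebra.unramifiedLocus_eq_compl_support, Set.mem_compl_iff,
        Module.mem_support_iff_nontrivial_residueField_tensorProduct,
        not_nontrivial_iff_subsingleton]
      exact hsub
    exact hmem
  haveI : Module.Free (MvPolynomial (Fin n) k) Ω[MvPolynomial (Fin n) k⁄k] :=
    Module.Free.of_basis (KaehlerDifferential.mvPolynomialBasis k (Fin n))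
  have hrk : Module.finrank (MvPolynomial (Fin n) k) Ω[MvPolynomial (Fin n) k⁄k] = n := by
    rw [Module.finrank_eq_card_basis (KaehlerDifferential.mvPolynomialBasis k (Fin n)),
      Fintype.card_fin]
  have het := isEtaleAt_of_isUnramifiedAt k (MvPolynomial (Fin n) k) S n hrk q h
  haveI : Algebra.FormallyEtale (MvPolynomial (Fin n) k) (Localization.AtPrime q) := het
  haveI : IsScalarTower k (MvPolynomial (Fin n) k) (Localization.AtPrime q) :=
    IsScalarTower.to₁₂₄ k (MvPolynomial (Fin n) k) S (Localization.AtPrime q)
  exact Algebra.FormallySmooth.comp k (MvPolynomial (Fin n) k) (Localization.AtPrime q)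

end Main

end Groth.Agent.Lib.Helper62.DimLoc

end
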