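import Groth.Agent.Lib.Helper11.ElemStd
import Groth.Agent.Lib.Helper62.ElemStdPerm

/-!
# Elementary standard elements: the relative dimension (helper62)

`isStandardSmoothOfRelativeDimension_of_marked` is helper11's `isStandardSmooth_of_marked`
(`Groth/Agent/Lib/Helper11/ElemStd.lean`) with the relative dimension `n - c` recorded.
-/

set_option autoImplicit false

universe u

namespace Groth.Agent.Lib.Helper62.ElemStdDim

open MvPolynomial Groth.Agent.Lib.Helper11.ElemStd

open Smoothing in
theorem isStandardSmoothOfRelativeDimension_of_marked {R A : Type u} [CommRing R] [CommRing A] [Algebra R A] (a : A)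
    (P : Smoothing.MarkedPresentation R A) (a' : A)
    (haa : a = a' * P.hom (Smoothing.jacobianMinor P.rel (Fin.castLE P.hcm) (Fin.castLE P.hcn)))
    (hKT : Smoothing.KillsTail P a) :
    Algebra.IsStandardSmoothOfRelativeDimension (P.n - P.c) R (Localization.Away a) := by
  classical
  let v : Fin P.c → MvPolynomial (Fin P.n) R := fun j => P.rel (Fin.castLE P.hcm j)
  set K : Ideal (MvPolynomial (Fin P.n) R) := Ideal.span (Set.range v) with hKdef
  set I : Ideal (MvPolynomial (Fin P.n) R) := Ideal.span (Set.range P.rel) with hIdef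
  have hKI : K ≤ I := Ideal.span_mono (by rintro _ ⟨j, rfl⟩; exact ⟨_, rfl⟩)
  have hI : RingHom.ker P.hom.toRingHom = I := P.ker_eq
  obtain ⟨ã, hã⟩ := P.surj a
  have hvmem : ∀ j : Fin P.m, (j : ℕ) < P.c → P.rel j ∈ K := by
    intro j hj
    apply Ideal.subset_span
    exact ⟨⟨j, hj⟩, rfl⟩
  have hK' : Ideal.span (P.rel '' {j' : Fin P.m | (j' : ℕ) < P.c}) ≤ K := by
    rw [Ideal.span_le]
    rintro _ ⟨j, hj, rfl⟩
    exact hvmem j hj
  have hall : ∀ j, ã * P.rel j ∈ K ⊔ I ^ 2 := by
    intro j
    by_cases hj : P.c ≤ (j : ℕ)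
    · exact sup_le_sup_right hK' _ (hKT ã hã j hj)
    · push Not at hj
      exact Ideal.mem_sup_left (Ideal.mul_mem_left _ _ (hvmem j hj))
  obtain ⟨q, hq, hqa⟩ := det_trick P.rel K ã hall
  have hq' : P.hom q = a ^ P.m := by
    have h1 : q - ã ^ P.m ∈ RingHom.ker P.hom.toRingHom := by rw [hI]; exact hqa
    rw [RingHom.mem_ker] at h1
    have h2 : P.hom q - P.hom ã ^ P.m = 0 := by simpa using h1
    rw [hã] at h2; exact sub_eq_zero.1 h2
  have hqI : ∀ y ∈ I, q * y ∈ K := by
    intro y hy
    refine Submodule.span_induction (p := fun y _ => q * y ∈ K) ?_ ?_ ?_ ?_ hy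
    · rintro _ ⟨j, rfl⟩; exact hq j
    · simp
    · intro x y _ _ hx hy; rw [mul_add]; exact K.add_mem hx hy
    · intro r x _ hx; rw [smul_eq_mul, mul_left_comm]; exact K.mul_mem_left _ hx
  -- the intermediate algebra `C = R[x] / (leading relations)`
  set g : MvPolynomial (Fin P.n) R :=
    Smoothing.jacobianMinor P.rel (Fin.castLE P.hcm) (Fin.castLE P.hcn) with hg
  let C := MvPolynomial (Fin P.n) R ⧸ Ideal.span (Set.range v)
  have hKker : ∀ x ∈ Ideal.span (Set.range v), P.hom x = 0 := by
    intro x hx
    have : x ∈ RingHom.ker P.hom.toRingHom := by rw [hI]; exact hKI hx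
    exact this
  let π : C →ₐ[R] A := Ideal.Quotient.liftₐ (Ideal.span (Set.range v)) P.hom hKker
  have hπmk : ∀ x, π (Ideal.Quotient.mk _ x) = P.hom x := fun x => rfl
  have hπsurj : Function.Surjective π := by
    intro y
    obtain ⟨x, rfl⟩ := P.surj y
    exact ⟨Ideal.Quotient.mk _ x, hπmk x⟩
  let s : C := Ideal.Quotient.mk _ (g * ã * q)
  have hπs : π s = a * (P.hom g * a ^ P.m) := by
    rw [hπmk, map_mul, map_mul, hã, hq']; ring
  have hker : ∀ y : C, π y = 0 → s * y = 0 := by
    intro y hy
    obtain ⟨y', rfl⟩ := Ideal.Quotient.mk_surjective y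
    rw [hπmk] at hy
    have hy' : y' ∈ I := by rw [← hI]; exact hy
    rw [← map_mul, Ideal.Quotient.eq_zero_iff_mem, mul_assoc]
    exact Ideal.mul_mem_left _ _ (hqI y' hy')
  let algCT : Algebra C (Localization.Away a) :=
    ((algebraMap A (Localization.Away a)).comp π.toRingHom).toAlgebra
  have hcomp : ∀ x : C, algebraMap C (Localization.Away a) x =
      algebraMap A (Localization.Away a) (π x) := fun x => rfl
  have : IsScalarTower R C (Localization.Away a) := by
    refine IsScalarTower.of_algebraMap_eq (R := R) (S := C) (A := Localization.Away a) (fun r => ?_)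
    rw [hcomp, π.commutes]
    exact IsScalarTower.algebraMap_apply R A (Localization.Away a) r
  have : IsLocalization.Away s (Localization.Away a) := by
    refine isLocalization_away_of_surjective π.toRingHom hπsurj hcomp a s hker
      (P.hom g * a ^ P.m) hπs a' (P.m + 2) ?_
    change a ^ (P.m + 2) = π s * a'
    rw [hπs]
    have : a' * P.hom g = a := haa.symm
    calc a ^ (P.m + 2) = a * a ^ P.m * a := by ring
      _ = a * a ^ P.m * (a' * P.hom g) := by rw [this]
      _ = _ := by ring
  let PC : Algebra.PreSubmersivePresentation R C (Fin P.n) (Fin P.c) :=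
    Algebra.PreSubmersivePresentation.naive (v := v) (Fin.castLE P.hcn) (Fin.castLE_injective _)
  let Q : Algebra.PreSubmersivePresentation C (Localization.Away a) Unit Unit :=
    Algebra.PreSubmersivePresentation.localizationAway (Localization.Away a) s
  have hjac : IsUnit (Q.comp PC).jacobian := by
    rw [Algebra.PreSubmersivePresentation.comp_jacobian_eq_jacobian_smul_jacobian,
      Algebra.PreSubmersivePresentation.localizationAway_jacobian, Algebra.smul_def]
    refine IsUnit.mul ?_ (IsLocalization.Away.algebraMap_isUnit s)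
    have hPCjac : PC.jacobian = Ideal.Quotient.mk _ g := by
      rw [Algebra.PreSubmersivePresentation.jacobian_eq_jacobiMatrix_det]
      change Ideal.Quotient.mk _ (PC.jacobiMatrix.det) = _
      congr 1
      rw [hg, Smoothing.jacobianMinor, ← Matrix.det_transpose]
      congr 1
      ext i j
      rw [Matrix.transpose_apply, Algebra.PreSubmersivePresentation.jacobiMatrix_naive]
      rfl
    rw [hPCjac, hcomp, hπmk]
    have h1 : IsUnit (algebraMap A (Localization.Away a) a) :=
      IsLocalization.Away.algebraMap_isUnit a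
    have h2 : algebraMap A (Localization.Away a) a =
        algebraMap A (Localization.Away a) a' * algebraMap A (Localization.Away a) (P.hom g) := by
      rw [← map_mul, ← haa]
    rw [h2] at h1
    exact isUnit_of_mul_isUnit_right h1
  refine (Algebra.SubmersivePresentation.mk (Q.comp PC) hjac).isStandardSmoothOfRelativeDimension ?_
  simp only [Algebra.Presentation.dimension, Nat.card_eq_fintype_card, Fintype.card_sum,
    Fintype.card_unit, Fintype.card_fin]
  omega


end Groth.Agent.Lib.Helper62.ElemStdDim
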