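import Groth.Prelude.Def_CotT
import Groth.Prelude.Def_Exal
import Groth.Agent.Lib.Helper62.CotTBasic
import Groth.Agent.Lib.Helper29.Exal

/-! Classes of extensions of `B` by `M` versus `T¹` of a presentation (helper62). -/

universe v t

set_option autoImplicit false

open TensorProduct

noncomputable section

namespace Groth.Agent.Lib.Helper62.ExalT1

open Groth.Agent.Lib.Helper62.CotTBasic Groth.Agent.Lib.Helper29.ExalLib

variable {A : Type v} {B M : Type v} {ι : Type v} {σ : Type t}
variable [CommRing A] [CommRing B] [Algebra A B] [AddCommGroup M] [Module B M]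
variable (P : Algebra.Presentation A B ι σ)

/-- a lift of the presentation to the middle ring of an extension. -/
structure Framing (X : Exal.Ext A B M) where
  ρ : P.toExtension.Ring →ₐ[A] X.E
  hρ : ∀ r, X.proj (ρ r) = algebraMap P.toExtension.Ring B r

variable {P}

/-- the generator `X i` in the presentation's polynomial ring. -/
def gen (P : Algebra.Presentation A B ι σ) (i : ι) : P.toExtension.Ring :=
  (MvPolynomial.X i : MvPolynomial ι A)

/-- evaluation of the presentation's polynomial ring. -/
def aevalR (P : Algebra.Presentation A B ι σ) {S : Type*} [CommRing S] [Algebra A S] (g : ι → S) :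
    P.toExtension.Ring →ₐ[A] S :=
  (MvPolynomial.aeval g : MvPolynomial ι A →ₐ[A] S)

lemma aevalR_gen {S : Type*} [CommRing S] [Algebra A S] (g : ι → S) (i : ι) :
    aevalR P g (gen P i) = g i := MvPolynomial.aeval_X g i

lemma algHom_ext_gen {S : Type*} [CommRing S] [Algebra A S] {f g : P.toExtension.Ring →ₐ[A] S}
    (h : ∀ i, f (gen P i) = g (gen P i)) : f = g :=
  MvPolynomial.algHom_ext (f := (f : MvPolynomial ι A →ₐ[A] S)) (g := g) h

lemma algebraMap_gen (i : ι) : algebraMap P.toExtension.Ring B (gen P i) = P.val i := by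
  rw [CotT.algebraMap_toExtension]
  exact MvPolynomial.aeval_X _ i

lemma ring_induction {motive : P.toExtension.Ring → Prop}
    (hC : ∀ a : A, motive (algebraMap A P.toExtension.Ring a))
    (hadd : ∀ p q, motive p → motive q → motive (p + q))
    (hmul : ∀ p i, motive p → motive (p * gen P i)) (x : P.toExtension.Ring) : motive x :=
  MvPolynomial.induction_on (motive := motive) (x : MvPolynomial ι A) hC hadd hmul

lemma basis_eq (i : ι) : P.cotangentSpaceBasis i =
    ((1 : B) ⊗ₜ[P.toExtension.Ring] KaehlerDifferential.D A P.toExtension.Ring (gen P i) : CotT.L0 P) :=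
  Algebra.Generators.cotangentSpaceBasis_apply _ i

lemma exists_framing (X : Exal.Ext A B M) : Nonempty (Framing P X) := by
  refine ⟨⟨aevalR P (fun i => Function.surjInv X.isExtension.proj_surjective (P.val i)), fun r => ?_⟩⟩
  have h : X.proj.comp (aevalR P (fun i => Function.surjInv X.isExtension.proj_surjective (P.val i))) =
      IsScalarTower.toAlgHom A P.toExtension.Ring B := by
    apply algHom_ext_gen
    intro i
    rw [AlgHom.comp_apply, aevalR_gen, IsScalarTower.toAlgHom_apply, algebraMap_gen]
    exact Function.surjInv_eq X.isExtension.proj_surjective (P.val i)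
  exact AlgHom.congr_fun h r

namespace Framing

variable {X : Exal.Ext A B M} (F : Framing P X)

lemma proj_rel (s : σ) : X.proj (F.ρ (CotT.rel P s)) = 0 := by
  rw [F.hρ, CotT.algebraMap_rel]

/-- the values of the cocycle on the basis. -/
def v (s : σ) : M := X.kerLift (F.ρ (CotT.rel P s)) (F.proj_rel s)

lemma incl_v (s : σ) : X.incl (F.v s) = F.ρ (CotT.rel P s) := X.incl_kerLift _ _

/-- the cochain of a framing. -/
def c : CotT.L1 P →ₗ[B] M := (CotT.L1basis P).constr B F.v

lemma c_basis (s : σ) : F.c ((1 : B) ⊗ₜ Finsupp.single s (1 : P.toExtension.Ring)) = F.v s := by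
  rw [← CotT.L1basis_apply, c, Module.Basis.constr_basis]

lemma incl_smul (r : P.toExtension.Ring) (m : M) :
    X.incl (algebraMap P.toExtension.Ring B r • m) = F.ρ r * X.incl m := by
  rw [X.isExtension.mul_incl, F.hρ]

lemma incl_c (f : CotT.relMod P) : X.incl (F.c ((1 : B) ⊗ₜ f)) = F.ρ (CotT.jmap P f) := by
  induction f using Finsupp.induction_linear with
  | zero => simp
  | add f g hf hg => rw [TensorProduct.tmul_add, map_add, map_add, hf, hg, map_add, map_add]
  | single s r =>
    have e1 : (Finsupp.single s r : CotT.relMod P) = r • Finsupp.single s 1 := by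
      rw [Finsupp.smul_single, smul_eq_mul, mul_one]
    have e2 : (1 : B) ⊗ₜ[P.toExtension.Ring] (r • (Finsupp.single s 1 : CotT.relMod P)) =
        algebraMap P.toExtension.Ring B r • ((1 : B) ⊗ₜ[P.toExtension.Ring]
          (Finsupp.single s 1 : CotT.relMod P)) := by
      rw [TensorProduct.tmul_smul, TensorProduct.smul_tmul', TensorProduct.smul_tmul',
        Algebra.smul_def, smul_eq_mul]
    rw [CotT.jmap_single, e1, e2, LinearMap.map_smul, c_basis, incl_smul, incl_v, map_mul]

lemma c_one_tmul_relKer (q : CotT.relKer P) :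
    F.c ((1 : B) ⊗ₜ[P.toExtension.Ring] (q : CotT.relMod P)) = 0 := by
  apply X.isExtension.incl_injective
  rw [incl_c, show CotT.jmap P (q : CotT.relMod P) = 0 from q.2, map_zero, map_zero]

lemma c_mem : F.c ∈ CotT.cocycles1 P M := by
  rw [LinearMap.mem_ker, CotT.d2Star_apply]
  refine LinearMap.ext fun y => ?_
  obtain ⟨z, rfl⟩ := Submodule.Quotient.mk_surjective _ y
  rw [LinearMap.zero_apply, LinearMap.comp_apply]
  induction z using TensorProduct.induction_on with
  | zero => rw [Submodule.Quotient.mk_zero, map_zero, map_zero]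
  | add x y hx hy => rw [Submodule.Quotient.mk_add, map_add, map_add, hx, hy, add_zero]
  | tmul b q =>
    rw [CotT.d2_mk_tmul]
    have e : b ⊗ₜ[P.toExtension.Ring] (q : CotT.relMod P) =
        b • ((1 : B) ⊗ₜ[P.toExtension.Ring] (q : CotT.relMod P)) := by
      rw [TensorProduct.smul_tmul', smul_eq_mul, mul_one]
    rw [e, LinearMap.map_smul, c_one_tmul_relKer, smul_zero]

/-- the cocycle of a framing. -/
def coc : CotT.cocycles1 P M := ⟨F.c, F.c_mem⟩

/-- the difference of two framings on a generator. -/
def δ (F F' : Framing P X) (i : ι) : M :=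
  X.kerLift (F.ρ (gen P i) - F'.ρ (gen P i)) (by rw [map_sub, F.hρ, F'.hρ, sub_self])

lemma incl_δ (F F' : Framing P X) (i : ι) :
    X.incl (δ F F' i) = F.ρ (gen P i) - F'.ρ (gen P i) := X.incl_kerLift _ _

/-- the linear map on `L₀` attached to a family of values on the generators. -/
def ψof (d : ι → M) : CotT.L0 P →ₗ[B] M := (P.cotangentSpaceBasis).constr B d

lemma ψof_basis (d : ι → M) (i : ι) :
    ψof (P := P) d ((1 : B) ⊗ₜ[P.toExtension.Ring]
      KaehlerDifferential.D A P.toExtension.Ring (gen P i)) = d i := by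
  have := (P.cotangentSpaceBasis).constr_basis B d i
  rw [basis_eq] at this
  exact this

lemma one_tmul_smul (r : P.toExtension.Ring) (ω : Ω[P.toExtension.Ring⁄A]) :
    ((1 : B) ⊗ₜ[P.toExtension.Ring] (r • ω) : CotT.L0 P) =
      algebraMap P.toExtension.Ring B r • ((1 : B) ⊗ₜ[P.toExtension.Ring] ω) := by
  rw [TensorProduct.tmul_smul, TensorProduct.smul_tmul', TensorProduct.smul_tmul',
    Algebra.smul_def, smul_eq_mul]

/-- two framings differ by the derivation determined by their difference on the generators. -/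
lemma sub_eq_incl (F F' : Framing P X) (d : ι → M)
    (hd : ∀ i, X.incl (d i) = F.ρ (gen P i) - F'.ρ (gen P i)) (x : P.toExtension.Ring) :
    F.ρ x - F'.ρ x = X.incl (ψof (P := P) d ((1 : B) ⊗ₜ[P.toExtension.Ring]
      KaehlerDifferential.D A P.toExtension.Ring x)) := by
  induction x using ring_induction with
  | hC a =>
    rw [F.ρ.commutes, F'.ρ.commutes, sub_self, Derivation.map_algebraMap, TensorProduct.tmul_zero,
      map_zero, map_zero]
  | hadd p q hp hq =>
    rw [map_add, map_add, map_add, TensorProduct.tmul_add, map_add, map_add, ← hp, ← hq]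
    ring
  | hmul p i hp =>
    rw [Derivation.leibniz, TensorProduct.tmul_add, one_tmul_smul, one_tmul_smul, map_add,
      LinearMap.map_smul, LinearMap.map_smul, ψof_basis, map_add, F.incl_smul, F'.incl_smul, ← hp,
      hd, map_mul, map_mul]
    ring

/-- the cochains of two framings of one extension differ by a coboundary. -/
lemma c_sub_c (F F' : Framing P X) :
    F.c - F'.c = CotT.d1Star P M (ψof (P := P) (δ F F')) := by
  refine (CotT.L1basis P).ext fun s => ?_
  rw [CotT.L1basis_apply, LinearMap.sub_apply, c_basis, c_basis, CotT.d1Star_apply,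
    LinearMap.comp_apply, CotT.d1_tmul, one_smul]
  apply X.isExtension.incl_injective
  rw [map_sub, incl_v, incl_v, CotT.jmap_single, one_mul]
  exact sub_eq_incl F F' (δ F F') (incl_δ F F') (CotT.rel P s)

/-- change a framing by a linear map on `L₀`. -/
def adjust (F : Framing P X) (ψ : CotT.L0 P →ₗ[B] M) : Framing P X where
  ρ := aevalR P (fun i => F.ρ (gen P i) + X.incl (ψ ((1 : B) ⊗ₜ[P.toExtension.Ring]
        KaehlerDifferential.D A P.toExtension.Ring (gen P i))))
  hρ r := by
    have h : X.proj.comp (aevalR P (fun i => F.ρ (gen P i) +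
        X.incl (ψ ((1 : B) ⊗ₜ[P.toExtension.Ring]
        KaehlerDifferential.D A P.toExtension.Ring (gen P i))))) =
        IsScalarTower.toAlgHom A P.toExtension.Ring B := by
      apply algHom_ext_gen
      intro i
      rw [AlgHom.comp_apply, aevalR_gen, IsScalarTower.toAlgHom_apply, map_add, proj_incl, add_zero,
        F.hρ]
    exact AlgHom.congr_fun h r

lemma adjust_gen (F : Framing P X) (ψ : CotT.L0 P →ₗ[B] M) (i : ι) :
    (F.adjust ψ).ρ (gen P i) = F.ρ (gen P i) + X.incl (ψ ((1 : B) ⊗ₜ[P.toExtension.Ring]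
        KaehlerDifferential.D A P.toExtension.Ring (gen P i))) :=
  aevalR_gen _ i

lemma adjust_c (F : Framing P X) (ψ : CotT.L0 P →ₗ[B] M) :
    (F.adjust ψ).c = F.c + CotT.d1Star P M ψ := by
  have h := c_sub_c (F.adjust ψ) F
  have hψ : ψof (P := P) (δ (F.adjust ψ) F) = ψ := by
    refine (P.cotangentSpaceBasis).ext fun i => ?_
    rw [basis_eq, ψof_basis]
    apply X.isExtension.incl_injective
    rw [incl_δ, adjust_gen]
    ring
  rw [hψ] at h
  rw [← h]
  abel

/-- transport a framing along an equivalence of extensions. -/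
def map {Y : Exal.Ext A B M} (F : Framing P X) (e : X.Equiv Y) : Framing P Y where
  ρ := (e.toAlgEquiv : X.E →ₐ[A] Y.E).comp F.ρ
  hρ r := by
    rw [AlgHom.comp_apply]
    exact (e.proj_apply _).trans (F.hρ r)

lemma map_c {Y : Exal.Ext A B M} (F : Framing P X) (e : X.Equiv Y) : (F.map e).c = F.c := by
  refine (CotT.L1basis P).ext fun s => ?_
  rw [CotT.L1basis_apply, c_basis, c_basis]
  apply Y.isExtension.incl_injective
  rw [incl_v, ← e.apply_incl, incl_v]
  rfl

end Framing

/-- the class in `T¹` of an extension. -/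
def cls (P : Algebra.Presentation A B ι σ) (X : Exal.Ext A B M) : CotT.T1 P M :=
  Submodule.Quotient.mk (Classical.choice (exists_framing (P := P) X)).coc

lemma cls_eq {X : Exal.Ext A B M} (F : Framing P X) : cls P X = Submodule.Quotient.mk F.coc := by
  rw [cls, Submodule.Quotient.eq, Submodule.mem_comap, LinearMap.mem_range]
  exact ⟨_, (Framing.c_sub_c _ F).symm⟩

lemma cls_congr {X Y : Exal.Ext A B M} (e : X.Equiv Y) : cls P X = cls P Y := by
  obtain ⟨F⟩ := exists_framing (P := P) X
  rw [cls_eq F, cls_eq (F.map e)]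
  congr 1
  exact Subtype.ext (F.map_c e).symm

/-- the map from classes of extensions to `T¹`. -/
def clsMap (P : Algebra.Presentation A B ι σ) : Exal.Exalcom A B M → CotT.T1 P M :=
  Quotient.lift (cls P) (fun _ _ ⟨e⟩ => cls_congr e)

lemma clsMap_cl (X : Exal.Ext A B M) : clsMap P X.cl = cls P X := rfl

section Trivial

attribute [local instance] Exal.opModule Exal.isCentralScalar_opModule

/-- the inclusion of `B` in the trivial extension, as an `A`-algebra map. -/
def inlA : B →ₐ[A] (Exal.Ext.trivial A B M).E :=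
  { toRingHom := (TrivSqZeroExt.inlHom B M : B →+* Exal.Ext.TrivCarrier A B M)
    commutes' := fun _ => rfl }

/-- the framing of the trivial extension. -/
def trivFraming : Framing P (Exal.Ext.trivial A B M) where
  ρ := inlA.comp (IsScalarTower.toAlgHom A P.toExtension.Ring B)
  hρ _ := rfl

lemma trivFraming_c : (trivFraming (P := P) (M := M)).c = 0 := by
  refine (CotT.L1basis P).ext fun s => ?_
  rw [CotT.L1basis_apply, Framing.c_basis, LinearMap.zero_apply]
  apply (Exal.Ext.trivial A B M).isExtension.incl_injective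
  rw [Framing.incl_v, map_zero]
  change inlA (algebraMap P.toExtension.Ring B (CotT.rel P s)) = 0
  rw [CotT.algebraMap_rel, map_zero]

lemma clsMap_zero : clsMap P (0 : Exal.Exalcom A B M) = 0 := by
  change clsMap P (Exal.Ext.trivial A B M).cl = 0
  rw [clsMap_cl, cls_eq trivFraming, Submodule.Quotient.mk_eq_zero, Submodule.mem_comap]
  change (trivFraming (P := P) (M := M)).c ∈ _
  rw [trivFraming_c]
  exact Submodule.zero_mem _

end Trivial

section Inj

variable {X Y : Exal.Ext A B M} (F : Framing P X) (G : Framing P Y)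

lemma exists_rep (e : X.E) : ∃ (r : P.toExtension.Ring) (m : M), e = F.ρ r + X.incl m := by
  obtain ⟨r, hr⟩ := P.toExtension.algebraMap_surjective (X.proj e)
  have h0 : X.proj (e - F.ρ r) = 0 := by rw [map_sub, F.hρ, hr, sub_self]
  obtain ⟨m, hm⟩ := (X.isExtension.exact _).1 h0
  exact ⟨r, m, by rw [hm]; ring⟩

variable (h : F.c = G.c)

include h in
lemma key (r : P.toExtension.Ring) (m : M) (h0 : F.ρ r + X.incl m = 0) :
    G.ρ r + Y.incl m = 0 := by
  have hr : algebraMap P.toExtension.Ring B r = 0 := by
    have := congrArg X.proj h0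
    rw [map_add, F.hρ, proj_incl, add_zero, map_zero] at this
    exact this
  have hmem : r ∈ LinearMap.range (CotT.jmap P) := by
    rw [CotT.range_jmap]
    exact hr
  obtain ⟨f, rfl⟩ := hmem
  rw [← F.incl_c, ← map_add] at h0
  have h1 : F.c ((1 : B) ⊗ₜ f) + m = 0 :=
    X.isExtension.incl_injective (by rw [h0, map_zero])
  rw [← G.incl_c, ← map_add, ← h, h1, map_zero]

/-- the comparison map between middle rings. -/
def Ψ (e : X.E) : Y.E :=
  G.ρ (Classical.choose (exists_rep F e)) +
    Y.incl (Classical.choose (Classical.choose_spec (exists_rep F e)))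

include h in
lemma Ψ_eq (e : X.E) (r : P.toExtension.Ring) (m : M) (he : e = F.ρ r + X.incl m) :
    Ψ F G e = G.ρ r + Y.incl m := by
  have hspec := Classical.choose_spec (Classical.choose_spec (exists_rep F e))
  have hk := key F G h (r - Classical.choose (exists_rep F e))
    (m - Classical.choose (Classical.choose_spec (exists_rep F e))) (by
      rw [map_sub, map_sub]
      linear_combination he.symm.trans hspec)
  rw [map_sub, map_sub] at hk
  rw [Ψ]
  linear_combination (-1 : Y.E) * hk

include h in
lemma Ψ_add (e e' : X.E) : Ψ F G (e + e') = Ψ F G e + Ψ F G e' := by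
  obtain ⟨r, m, rfl⟩ := exists_rep F e
  obtain ⟨r', m', rfl⟩ := exists_rep F e'
  rw [Ψ_eq F G h _ r m rfl, Ψ_eq F G h _ r' m' rfl,
    Ψ_eq F G h _ (r + r') (m + m') (by rw [map_add, map_add]; ring), map_add, map_add]
  ring

include h in
lemma Ψ_mul (e e' : X.E) : Ψ F G (e * e') = Ψ F G e * Ψ F G e' := by
  obtain ⟨r, m, rfl⟩ := exists_rep F e
  obtain ⟨r', m', rfl⟩ := exists_rep F e'
  rw [Ψ_eq F G h _ r m rfl, Ψ_eq F G h _ r' m' rfl,
    Ψ_eq F G h _ (r * r') (algebraMap P.toExtension.Ring B r • m' +
      algebraMap P.toExtension.Ring B r' • m) (by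
        rw [map_mul, map_add, F.incl_smul, F.incl_smul]
        linear_combination incl_mul_incl X m m'),
    map_mul, map_add, G.incl_smul, G.incl_smul]
  linear_combination (-1 : Y.E) * incl_mul_incl Y m m'

include h in
/-- the comparison map as an algebra map. -/
def ΨHom : X.E →ₐ[A] Y.E where
  toFun := Ψ F G
  map_one' := by
    rw [Ψ_eq F G h 1 1 0 (by rw [map_one, map_zero, add_zero]), map_one, map_zero, add_zero]
  map_mul' := Ψ_mul F G h
  map_zero' := by
    rw [Ψ_eq F G h 0 0 0 (by rw [map_zero, map_zero, add_zero]), map_zero, map_zero, add_zero]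
  map_add' := Ψ_add F G h
  commutes' a := by
    rw [Ψ_eq F G h _ (algebraMap A P.toExtension.Ring a) 0
      (by rw [F.ρ.commutes, map_zero, add_zero]), G.ρ.commutes, map_zero, add_zero]

include h in
lemma nonempty_equiv_of_c_eq : Nonempty (X.Equiv Y) := by
  refine ⟨equivOfHom X Y (ΨHom F G h) ?_ ?_⟩
  · intro e
    obtain ⟨r, m, rfl⟩ := exists_rep F e
    change Y.proj (Ψ F G _) = _
    rw [Ψ_eq F G h _ r m rfl, map_add, map_add, proj_incl, proj_incl, F.hρ, G.hρ]
  · intro z
    change Ψ F G _ = _
    rw [Ψ_eq F G h _ 0 z (by rw [map_zero, zero_add]), map_zero, zero_add]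

end Inj

lemma clsMap_injective : Function.Injective (clsMap (M := M) P) := by
  intro x y hxy
  induction x using Quotient.inductionOn with
  | h X =>
    induction y using Quotient.inductionOn with
    | h Y =>
      apply Quotient.sound
      obtain ⟨F⟩ := exists_framing (P := P) X
      obtain ⟨G⟩ := exists_framing (P := P) Y
      have h1 : cls P X = cls P Y := hxy
      rw [cls_eq F, cls_eq G, Submodule.Quotient.eq, Submodule.mem_comap, LinearMap.mem_range] at h1
      obtain ⟨ψ, hψ⟩ := h1
      have h2 : F.c = (G.adjust ψ).c := by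
        rw [Framing.adjust_c, hψ]
        change F.c = G.c + (F.c - G.c)
        abel
      exact nonempty_equiv_of_c_eq F (G.adjust ψ) h2

section Surj

attribute [local instance] Exal.opModule Exal.isCentralScalar_opModule

/-- `M` regarded as a module over the polynomial ring of the presentation. -/
def MR (_P : Algebra.Presentation A B ι σ) (M : Type v) : Type v := M

instance : AddCommGroup (MR P M) := inferInstanceAs (AddCommGroup M)

instance : Module P.toExtension.Ring (MR P M) :=
  Module.compHom M (algebraMap P.toExtension.Ring B)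

/-- the identification. -/
def toMR (P : Algebra.Presentation A B ι σ) : M →+ MR P M := AddMonoidHom.id M

/-- the identification. -/
def ofMR (P : Algebra.Presentation A B ι σ) : MR P M →+ M := AddMonoidHom.id M

lemma ofMR_smul (r : P.toExtension.Ring) (m : MR P M) :
    ofMR P (r • m) = algebraMap P.toExtension.Ring B r • ofMR P m := rfl

/-- the trivial square zero extension of the polynomial ring by `M`. -/
abbrev TC (P : Algebra.Presentation A B ι σ) (M : Type v) [AddCommGroup M] [Module B M] : Type v :=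
  Exal.Ext.TrivCarrier A P.toExtension.Ring (MR P M)

/-- first component. -/
def fstT (x : TC P M) : P.toExtension.Ring := TrivSqZeroExt.fst (x : TrivSqZeroExt _ (MR P M))

/-- second component. -/
def sndT (x : TC P M) : M := ofMR P (TrivSqZeroExt.snd (x : TrivSqZeroExt _ (MR P M)))

/-- left inclusion. -/
def inlT (r : P.toExtension.Ring) : TC P M := (TrivSqZeroExt.inl r : TrivSqZeroExt _ (MR P M))

/-- right inclusion. -/
def inrT (m : M) : TC P M := (TrivSqZeroExt.inr (toMR P m) : TrivSqZeroExt _ (MR P M))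

lemma extT {x y : TC P M} (h1 : fstT x = fstT y) (h2 : sndT x = sndT y) : x = y :=
  TrivSqZeroExt.ext (x := (x : TrivSqZeroExt _ (MR P M))) (y := y) h1 h2

lemma fstT_mul (x y : TC P M) : fstT (x * y) = fstT x * fstT y :=
  TrivSqZeroExt.fst_mul (x : TrivSqZeroExt _ (MR P M)) y

lemma sndT_mul (x y : TC P M) : sndT (x * y) =
    algebraMap P.toExtension.Ring B (fstT x) • sndT y +
      algebraMap P.toExtension.Ring B (fstT y) • sndT x := by
  have := TrivSqZeroExt.snd_mul (x : TrivSqZeroExt _ (MR P M)) y
  rw [op_smul_eq_smul] at this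
  have h2 : sndT (x * y) = ofMR P (TrivSqZeroExt.fst (x : TrivSqZeroExt _ (MR P M)) •
      TrivSqZeroExt.snd (y : TrivSqZeroExt _ (MR P M)) +
      TrivSqZeroExt.fst (y : TrivSqZeroExt _ (MR P M)) •
      TrivSqZeroExt.snd (x : TrivSqZeroExt _ (MR P M))) := congrArg (ofMR P) this
  rw [h2, map_add, ofMR_smul, ofMR_smul]
  rfl

lemma fstT_add (x y : TC P M) : fstT (x + y) = fstT x + fstT y := rfl
lemma sndT_add (x y : TC P M) : sndT (x + y) = sndT x + sndT y := rfl
lemma fstT_sub (x y : TC P M) : fstT (x - y) = fstT x - fstT y := rfl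
lemma sndT_sub (x y : TC P M) : sndT (x - y) = sndT x - sndT y := rfl
lemma fstT_zero : fstT (0 : TC P M) = 0 := rfl
lemma sndT_zero : sndT (0 : TC P M) = 0 := rfl
lemma fstT_inl (r : P.toExtension.Ring) : fstT (inlT r : TC P M) = r := rfl
lemma sndT_inl (r : P.toExtension.Ring) : sndT (inlT r : TC P M) = 0 := rfl
lemma fstT_inr (m : M) : fstT (inrT m : TC P M) = 0 := rfl
lemma sndT_inr (m : M) : sndT (inrT m : TC P M) = m := rfl

lemma inrT_add (m m' : M) : (inrT (m + m') : TC P M) = inrT m + inrT m' :=
  extT (by rw [fstT_add, fstT_inr, fstT_inr, fstT_inr, add_zero])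
    (by rw [sndT_add, sndT_inr, sndT_inr, sndT_inr])

lemma inrT_zero : (inrT (0 : M) : TC P M) = 0 := rfl

/-- the left inclusion as an algebra map. -/
def inlTHom : P.toExtension.Ring →ₐ[A] TC P M :=
  { toRingHom := (TrivSqZeroExt.inlHom P.toExtension.Ring (MR P M) :
      P.toExtension.Ring →+* TC P M)
    commutes' := fun _ => rfl }

lemma inlTHom_apply (r : P.toExtension.Ring) : inlTHom (M := M) r = inlT r := rfl

/-- the first projection followed by the map to `B`, as an algebra map. -/
def fstTHom : TC P M →ₐ[A] B :=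
  (IsScalarTower.toAlgHom A P.toExtension.Ring B).comp
    { toRingHom := (TrivSqZeroExt.fstHom P.toExtension.Ring P.toExtension.Ring (MR P M) :
        TrivSqZeroExt _ (MR P M) →ₐ[P.toExtension.Ring] P.toExtension.Ring).toRingHom
      commutes' := fun _ => rfl }

lemma fstTHom_apply (x : TC P M) :
    fstTHom x = algebraMap P.toExtension.Ring B (fstT x) := rfl

variable (c : CotT.cocycles1 P M)

lemma c_relKer (f : CotT.relMod P) (hf : CotT.jmap P f = 0) :
    (c : CotT.L1 P →ₗ[B] M) ((1 : B) ⊗ₜ f) = 0 := by
  have h := c.2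
  rw [LinearMap.mem_ker, CotT.d2Star_apply] at h
  have := LinearMap.congr_fun h (Submodule.Quotient.mk ((1 : B) ⊗ₜ ⟨f, hf⟩))
  rw [LinearMap.comp_apply, CotT.d2_mk_tmul] at this
  exact this

lemma c_smul (r : P.toExtension.Ring) (f : CotT.relMod P) :
    (c : CotT.L1 P →ₗ[B] M) ((1 : B) ⊗ₜ (r • f)) =
      algebraMap P.toExtension.Ring B r • (c : CotT.L1 P →ₗ[B] M) ((1 : B) ⊗ₜ f) := by
  rw [← LinearMap.map_smul]
  congr 1
  rw [TensorProduct.tmul_smul, TensorProduct.smul_tmul', TensorProduct.smul_tmul',
    Algebra.smul_def, smul_eq_mul]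

/-- the ideal of the trivial extension defining the extension of a cocycle. -/
def KK : Ideal (TC P M) where
  carrier := {x | ∃ f : CotT.relMod P, CotT.jmap P f = fstT x ∧
    sndT x = - (c : CotT.L1 P →ₗ[B] M) ((1 : B) ⊗ₜ f)}
  add_mem' := by
    rintro x y ⟨f, hf, hx⟩ ⟨g, hg, hy⟩
    refine ⟨f + g, by rw [map_add, hf, hg, fstT_add], ?_⟩
    rw [sndT_add, hx, hy, TensorProduct.tmul_add, map_add]
    abel
  zero_mem' := ⟨0, by rw [map_zero, fstT_zero], by
    rw [sndT_zero, TensorProduct.tmul_zero, map_zero, neg_zero]⟩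
  smul_mem' := by
    rintro y x ⟨f, hf, hx⟩
    refine ⟨fstT y • f, ?_, ?_⟩
    · rw [map_smul, hf, smul_eq_mul]
      exact (fstT_mul y x).symm
    · change sndT (y * x) = _
      rw [sndT_mul, hx, c_smul, ← hf, CotT.algebraMap_jmap, zero_smul, add_zero, smul_neg]

lemma mem_KK (x : TC P M) : x ∈ KK c ↔ ∃ f : CotT.relMod P, CotT.jmap P f = fstT x ∧
    sndT x = - (c : CotT.L1 P →ₗ[B] M) ((1 : B) ⊗ₜ f) := Iff.rfl

/-- the projection of the extension of a cocycle. -/
def projC : (TC P M ⧸ KK c) →ₐ[A] B :=
  Ideal.Quotient.liftₐ (KK c) fstTHom (by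
    rintro x ⟨f, hf, -⟩
    rw [fstTHom_apply, ← hf, CotT.algebraMap_jmap])

lemma projC_mk (x : TC P M) :
    projC c (Ideal.Quotient.mk (KK c) x) = algebraMap P.toExtension.Ring B (fstT x) := rfl

/-- the inclusion of the extension of a cocycle. -/
def inclC : M →+ (TC P M ⧸ KK c) where
  toFun m := Ideal.Quotient.mk (KK c) (inrT m)
  map_zero' := by rw [inrT_zero, map_zero]
  map_add' m m' := by rw [inrT_add, map_add]

lemma inclC_apply (m : M) : inclC c m = Ideal.Quotient.mk (KK c) (inrT m) := rfl

lemma isExtensionC : Exal.IsExtension (projC c) (inclC c) where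
  proj_surjective := by
    intro b
    obtain ⟨r, rfl⟩ := P.toExtension.algebraMap_surjective b
    exact ⟨Ideal.Quotient.mk _ (inlT r), rfl⟩
  incl_injective := by
    rw [injective_iff_map_eq_zero]
    intro m hm
    rw [inclC_apply, Ideal.Quotient.eq_zero_iff_mem] at hm
    obtain ⟨f, hf, hm⟩ := hm
    rw [fstT_inr] at hf
    rw [sndT_inr, c_relKer c f hf, neg_zero] at hm
    exact hm
  exact := by
    intro x
    obtain ⟨y, rfl⟩ := Ideal.Quotient.mk_surjective x
    rw [projC_mk]
    constructor
    · intro h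
      have hmem : fstT y ∈ LinearMap.range (CotT.jmap P) := by
        rw [CotT.range_jmap]
        exact h
      obtain ⟨f, hf⟩ := hmem
      refine ⟨sndT y + (c : CotT.L1 P →ₗ[B] M) ((1 : B) ⊗ₜ f), ?_⟩
      rw [inclC_apply, eq_comm, Ideal.Quotient.eq]
      refine ⟨f, ?_, ?_⟩
      · rw [fstT_sub, fstT_inr, sub_zero, hf]
      · rw [sndT_sub, sndT_inr]
        abel
    · rintro ⟨m, hm⟩
      rw [inclC_apply, Ideal.Quotient.eq] at hm
      obtain ⟨f, hf, -⟩ := hm
      rw [fstT_sub, fstT_inr, zero_sub] at hf
      have : fstT y = CotT.jmap P (-f) := by rw [map_neg, hf, neg_neg]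
      rw [this, CotT.algebraMap_jmap]
  mul_incl := by
    intro x m
    obtain ⟨y, rfl⟩ := Ideal.Quotient.mk_surjective x
    rw [inclC_apply, inclC_apply, projC_mk, ← map_mul]
    congr 1
    apply extT
    · rw [fstT_mul, fstT_inr, fstT_inr, mul_zero]
    · rw [sndT_mul, sndT_inr, fstT_inr, sndT_inr, map_zero, zero_smul, add_zero]

/-- the extension attached to a cocycle. -/
def extC : Exal.Ext A B M where
  E := TC P M ⧸ KK c
  proj := projC c
  incl := inclC c
  isExtension := isExtensionC c

/-- its framing. -/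
def framingC : Framing P (extC c) where
  ρ := (Ideal.Quotient.mkₐ A (KK c)).comp inlTHom
  hρ _ := rfl

lemma framingC_c : (framingC c).c = c := by
  refine (CotT.L1basis P).ext fun s => ?_
  rw [CotT.L1basis_apply, Framing.c_basis]
  apply (extC c).isExtension.incl_injective
  rw [Framing.incl_v]
  change Ideal.Quotient.mk (KK c) (inlT (CotT.rel P s)) = Ideal.Quotient.mk (KK c) (inrT _)
  rw [Ideal.Quotient.eq]
  refine ⟨Finsupp.single s 1, ?_, ?_⟩
  · rw [CotT.jmap_single, one_mul, fstT_sub, fstT_inl, fstT_inr, sub_zero]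
  · rw [sndT_sub, sndT_inl, sndT_inr, zero_sub]

lemma clsMap_surjective : Function.Surjective (clsMap (M := M) P) := by
  intro t
  obtain ⟨c, rfl⟩ := Submodule.Quotient.mk_surjective _ t
  refine ⟨(extC c).cl, ?_⟩
  rw [clsMap_cl, cls_eq (framingC c)]
  congr 1
  exact Subtype.ext (framingC_c c)

end Surj

/-- classes of extensions of `B` by `M` correspond to `T¹` of any presentation with variables in the
universe of `B`, the trivial class going to zero. -/
theorem exists_equiv (P : Algebra.Presentation A B ι σ) (M : Type v) [AddCommGroup M] [Module B M] :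
    ∃ e : Exal.Exalcom A B M ≃ CotT.T1 P M, e 0 = 0 :=
  ⟨Equiv.ofBijective (clsMap P) ⟨clsMap_injective, clsMap_surjective⟩, clsMap_zero⟩

end Groth.Agent.Lib.Helper62.ExalT1

end
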