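import Groth.Agent.Lib.Helper62.GCIField6
import Mathlib.Algebra.MvPolynomial.Expand
import Mathlib.RingTheory.MvPolynomial.Basic

/-! The polynomial ring as an algebra over itself via `T_i ↦ T_i ^ p`: it is free of finite rank
and presented by as many relations as generators (helper62). -/

set_option linter.style.haveILetI false

universe u

open Function MvPolynomial

noncomputable section

namespace Groth.Agent.Lib.Helper62.ExpandFree

/-- a copy of `MvPolynomial σ A`, viewed as an algebra over `MvPolynomial σ A` via `expand p`. -/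
def Tgt (A : Type u) [CommRing A] (σ : Type) (_p : ℕ) : Type u := MvPolynomial σ A

variable (A : Type u) [CommRing A] (σ : Type) (p : ℕ)

instance : CommRing (Tgt A σ p) := inferInstanceAs (CommRing (MvPolynomial σ A))

instance : Algebra A (Tgt A σ p) := inferInstanceAs (Algebra A (MvPolynomial σ A))

instance algR : Algebra (MvPolynomial σ A) (Tgt A σ p) :=
  (MvPolynomial.expand p : MvPolynomial σ A →ₐ[A] MvPolynomial σ A).toRingHom.toAlgebra

/-- the identity, as an `A`-algebra isomorphism. -/
def toTgt : MvPolynomial σ A ≃ₐ[A] Tgt A σ p := AlgEquiv.refl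

theorem algebraMap_eq (r : MvPolynomial σ A) :
    algebraMap (MvPolynomial σ A) (Tgt A σ p) r = toTgt A σ p (MvPolynomial.expand p r) := rfl

instance : IsScalarTower A (MvPolynomial σ A) (Tgt A σ p) :=
  IsScalarTower.of_algebraMap_eq fun a => by
    rw [algebraMap_eq, MvPolynomial.algebraMap_eq, MvPolynomial.expand_C]
    rfl

theorem smul_eq (r : MvPolynomial σ A) (b : Tgt A σ p) :
    r • b = toTgt A σ p (MvPolynomial.expand p r) * b := by
  rw [Algebra.smul_def, algebraMap_eq]

section Free

variable [Finite σ] (hp : 0 < p)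

/-- division with remainder on exponent vectors. -/
def expEquiv : (Σ _ : σ → Fin p, (σ →₀ ℕ)) ≃ (σ →₀ ℕ) where
  toFun x := p • x.2 + Finsupp.equivFunOnFinite.symm (fun i => (x.1 i : ℕ))
  invFun e := ⟨fun i => ⟨e i % p, Nat.mod_lt _ hp⟩, e.mapRange (· / p) (Nat.zero_div p)⟩
  left_inv := by
    rintro ⟨r, q⟩
    refine Sigma.ext ?_ ?_
    · funext i
      apply Fin.ext
      simp [Nat.mod_eq_of_lt (r i).2]
    · apply heq_of_eq
      ext i
      simp only [Finsupp.mapRange_apply, Finsupp.coe_add, Finsupp.coe_smul, Pi.add_apply,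
        Pi.smul_apply, smul_eq_mul, Finsupp.equivFunOnFinite_symm_apply_apply]
      rw [Nat.mul_add_div hp, Nat.div_eq_of_lt (r i).2, add_zero]
  right_inv := by
    intro e
    ext i
    simp only [Finsupp.coe_add, Finsupp.coe_smul, Pi.add_apply, Pi.smul_apply, smul_eq_mul,
      Finsupp.mapRange_apply, Finsupp.equivFunOnFinite_symm_apply_apply]
    exact Nat.div_add_mod (e i) p

/-- the candidate basis: monomials with all exponents `< p`. -/
def vec (r : σ → Fin p) : Tgt A σ p :=
  toTgt A σ p (monomial (Finsupp.equivFunOnFinite.symm (fun i => (r i : ℕ))) 1)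

/-- the comparison map. -/
def Phi : ((σ → Fin p) →₀ MvPolynomial σ A) →ₗ[MvPolynomial σ A] Tgt A σ p :=
  Finsupp.linearCombination (MvPolynomial σ A) (vec A σ p)

include hp in
theorem Phi_bijective : Bijective (Phi A σ p) := by
  let bV : Module.Basis (Σ _ : σ → Fin p, (σ →₀ ℕ)) A ((σ → Fin p) →₀ MvPolynomial σ A) :=
    Finsupp.basis (fun _ => MvPolynomial.basisMonomials σ A)
  let bB : Module.Basis (σ →₀ ℕ) A (Tgt A σ p) :=
    (MvPolynomial.basisMonomials σ A).map (toTgt A σ p).toLinearEquiv
  have key : ((Phi A σ p).restrictScalars A) = (bV.equiv bB (expEquiv σ p hp)).toLinearMap := by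
    apply bV.ext
    rintro ⟨r, q⟩
    rw [LinearEquiv.coe_coe, Module.Basis.equiv_apply]
    change Phi A σ p (Finsupp.basis (fun _ => MvPolynomial.basisMonomials σ A) ⟨r, q⟩) = _
    rw [Finsupp.coe_basis]
    change Phi A σ p (Finsupp.single r (MvPolynomial.basisMonomials σ A q)) =
      toTgt A σ p (MvPolynomial.basisMonomials σ A (expEquiv σ p hp ⟨r, q⟩))
    rw [MvPolynomial.coe_basisMonomials, Phi, Finsupp.linearCombination_single, smul_eq, vec,
      MvPolynomial.expand_monomial, ← map_mul, MvPolynomial.monomial_mul, mul_one]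
    rfl
  have hbij : Bijective ((Phi A σ p).restrictScalars A) := by
    rw [key]
    exact (bV.equiv bB (expEquiv σ p hp)).bijective
  exact hbij

/-- the linear equivalence with a finite free module. -/
def equivFree : ((σ → Fin p) →₀ MvPolynomial σ A) ≃ₗ[MvPolynomial σ A] Tgt A σ p :=
  LinearEquiv.ofBijective (Phi A σ p) (Phi_bijective A σ p hp)

include hp in
theorem free : Module.Free (MvPolynomial σ A) (Tgt A σ p) :=
  Module.Free.of_equiv (equivFree A σ p hp)

include hp in
theorem finite : Module.Finite (MvPolynomial σ A) (Tgt A σ p) :=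
  Module.Finite.equiv (equivFree A σ p hp)

end Free

theorem nontrivial [Nontrivial A] : Nontrivial (Tgt A σ p) :=
  inferInstanceAs (Nontrivial (MvPolynomial σ A))


section Pres

/-- the evaluation `R[Y] → Tgt`, `Y_i ↦ X_i`. -/
def piHom : MvPolynomial σ (MvPolynomial σ A) →ₐ[MvPolynomial σ A] Tgt A σ p :=
  MvPolynomial.aeval (fun i => toTgt A σ p (X i))

/-- the relations `Y_i ^ p - T_i`. -/
def rel (i : σ) : MvPolynomial σ (MvPolynomial σ A) := X i ^ p - C (X i)

theorem piHom_X (i : σ) : piHom A σ p (X i) = toTgt A σ p (X i) := by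
  rw [piHom, aeval_X]

theorem piHom_C (r : MvPolynomial σ A) :
    piHom A σ p (C r) = toTgt A σ p (MvPolynomial.expand p r) := by
  rw [piHom, aeval_C, algebraMap_eq]

theorem piHom_rel (i : σ) : piHom A σ p (rel A σ p i) = 0 := by
  rw [rel, map_sub, map_pow, piHom_X, piHom_C, expand_X, map_pow, sub_self]

theorem piHom_surjective : Surjective (piHom A σ p) := by
  intro b
  let s : MvPolynomial σ A →ₐ[A] MvPolynomial σ (MvPolynomial σ A) := aeval (fun i => X i)
  have h : ((piHom A σ p).restrictScalars A).comp s =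
      (toTgt A σ p : MvPolynomial σ A →ₐ[A] Tgt A σ p) := by
    apply MvPolynomial.algHom_ext
    intro i
    change piHom A σ p (aeval (fun i => X i) (X i)) = toTgt A σ p (X i)
    rw [aeval_X, piHom_X]
  refine ⟨s ((toTgt A σ p).symm b), ?_⟩
  have h2 := DFunLike.congr_fun h ((toTgt A σ p).symm b)
  change piHom A σ p (s ((toTgt A σ p).symm b)) = toTgt A σ p ((toTgt A σ p).symm b) at h2
  rw [h2, AlgEquiv.apply_symm_apply]

theorem ker_piHom :
    RingHom.ker (piHom A σ p) = Ideal.span (Set.range (rel A σ p)) := by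
  apply le_antisymm
  · intro x hx
    let ψ : Tgt A σ p →ₐ[A]
        (MvPolynomial σ (MvPolynomial σ A) ⧸ Ideal.span (Set.range (rel A σ p))) :=
      (aeval (fun i => Ideal.Quotient.mk (Ideal.span (Set.range (rel A σ p))) (X i)) :
        MvPolynomial σ A →ₐ[A] _).comp ((toTgt A σ p).symm : Tgt A σ p →ₐ[A] MvPolynomial σ A)
    have hψ : ∀ y : MvPolynomial σ A, ψ (toTgt A σ p y) =
        aeval (fun i => Ideal.Quotient.mk (Ideal.span (Set.range (rel A σ p))) (X i)) y := by
      intro y
      change aeval _ ((toTgt A σ p).symm (toTgt A σ p y)) = _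
      rw [AlgEquiv.symm_apply_apply]
    have hC : ((ψ : Tgt A σ p →+* _).comp
        (piHom A σ p : MvPolynomial σ (MvPolynomial σ A) →+* Tgt A σ p)).comp C =
        (Ideal.Quotient.mk (Ideal.span (Set.range (rel A σ p)))).comp C := by
      apply MvPolynomial.ringHom_ext
      · intro a
        change ψ (piHom A σ p (C (C a))) = Ideal.Quotient.mk (Ideal.span (Set.range (rel A σ p)))
          (C (C a : MvPolynomial σ A))
        rw [piHom_C, expand_C, hψ, aeval_C]
        rfl
      · intro i
        change ψ (piHom A σ p (C (X i))) = Ideal.Quotient.mk (Ideal.span (Set.range (rel A σ p)))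
          (C (X i : MvPolynomial σ A))
        rw [piHom_C, expand_X, hψ, map_pow, aeval_X, ← map_pow, Ideal.Quotient.eq]
        exact Ideal.subset_span ⟨i, rfl⟩
    have key : (ψ : Tgt A σ p →+* _).comp
        (piHom A σ p : MvPolynomial σ (MvPolynomial σ A) →+* Tgt A σ p) =
        Ideal.Quotient.mk (Ideal.span (Set.range (rel A σ p))) := by
      apply MvPolynomial.ringHom_ext
      · intro r
        exact DFunLike.congr_fun hC r
      · intro i
        change ψ (piHom A σ p (X i)) = Ideal.Quotient.mk _ (X i)
        rw [piHom_X, hψ, aeval_X]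
    have h2 := DFunLike.congr_fun key x
    change ψ (piHom A σ p x) = Ideal.Quotient.mk _ x at h2
    rw [RingHom.mem_ker] at hx
    rw [hx, map_zero] at h2
    exact Ideal.Quotient.eq_zero_iff_mem.mp h2.symm
  · rw [Ideal.span_le]
    rintro _ ⟨i, rfl⟩
    exact piHom_rel A σ p i

open Groth.Agent.Lib.Helper62.GCIField in
/-- `Tgt` is presented over the polynomial ring by as many relations as generators. -/
theorem hasPres [Finite σ] : HasPres (MvPolynomial σ A) (Tgt A σ p) 0 := by
  let G : Algebra.Generators (MvPolynomial σ A) (Tgt A σ p) σ :=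
    Algebra.Generators.ofSurjective (fun i => toTgt A σ p (X i)) (piHom_surjective A σ p)
  have hG : G.ker = RingHom.ker (piHom A σ p) := by
    rw [G.ker_eq_ker_aeval_val]
    rfl
  refine ⟨σ, σ, inferInstance, inferInstance,
    { toGenerators := G
      relation := rel A σ p
      span_range_relation_eq_ker := by rw [hG, ker_piHom] }, by simp⟩

end Pres

end Groth.Agent.Lib.Helper62.ExpandFree

end
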