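import Mathlib.CategoryTheory.Limits.FunctorCategory.Basic
import Mathlib.CategoryTheory.Limits.Shapes.BinaryProducts
import Mathlib.CategoryTheory.Limits.Shapes.Pullback.HasPullback
import Mathlib.CategoryTheory.Limits.Types.Limits
import Mathlib.CategoryTheory.Limits.Types.Products
import Mathlib.CategoryTheory.Limits.Types.Pullbacks
import Mathlib.CategoryTheory.Limits.Preserves.Shapes.BinaryProducts
import Mathlib.CategoryTheory.Limits.Preserves.Shapes.Pullbacks
import Mathlib.CategoryTheory.Limits.Shapes.Pullback.IsPullback.Basic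

/-!
Pointwise description of binary products and pullbacks in a functor category `C ⥤ Type v`.
-/

set_option autoImplicit false

namespace Groth.Agent.Lib.Helper62

open CategoryTheory Limits

universe v u₁ v₁

variable {C : Type u₁} [Category.{v₁} C]

section Prod

variable (F G : C ⥤ Type v)

/-- The value of a product of `Type`-valued functors is the product of values. -/
noncomputable def prodObjIso (A : C) : (F ⨯ G).obj A ≅ (F.obj A × G.obj A) :=
  PreservesLimitPair.iso ((evaluation C (Type v)).obj A) F G ≪≫ Types.binaryProductIso _ _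

lemma prodObjIso_hom_fst (A : C) (z : (F ⨯ G).obj A) :
    ((prodObjIso F G A).hom z).1 = (prod.fst : F ⨯ G ⟶ F).app A z := by
  have h : (prodObjIso F G A).hom ≫ ↾_root_.Prod.fst = (prod.fst : F ⨯ G ⟶ F).app A := by
    have h1 := Types.binaryProductIso_hom_comp_fst (F.obj A) (G.obj A)
    have h2 := prodComparison_fst ((evaluation C (Type v)).obj A) F G
    rw [prodObjIso, Iso.trans_hom, Category.assoc, PreservesLimitPair.iso_hom]
    exact (congrArg (fun t => prodComparison ((evaluation C (Type v)).obj A) F G ≫ t) h1).trans h2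
  exact ConcreteCategory.congr_hom h z

lemma prodObjIso_hom_snd (A : C) (z : (F ⨯ G).obj A) :
    ((prodObjIso F G A).hom z).2 = (prod.snd : F ⨯ G ⟶ G).app A z := by
  have h : (prodObjIso F G A).hom ≫ ↾_root_.Prod.snd = (prod.snd : F ⨯ G ⟶ G).app A := by
    have h1 := Types.binaryProductIso_hom_comp_snd (F.obj A) (G.obj A)
    have h2 := prodComparison_snd ((evaluation C (Type v)).obj A) F G
    rw [prodObjIso, Iso.trans_hom, Category.assoc, PreservesLimitPair.iso_hom]
    exact (congrArg (fun t => prodComparison ((evaluation C (Type v)).obj A) F G ≫ t) h1).trans h2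
  exact ConcreteCategory.congr_hom h z

lemma prod_obj_ext (A : C) (z₁ z₂ : (F ⨯ G).obj A)
    (h₁ : (prod.fst : F ⨯ G ⟶ F).app A z₁ = (prod.fst : F ⨯ G ⟶ F).app A z₂)
    (h₂ : (prod.snd : F ⨯ G ⟶ G).app A z₁ = (prod.snd : F ⨯ G ⟶ G).app A z₂) : z₁ = z₂ := by
  have hinj : Function.Injective (prodObjIso F G A).hom :=
    ((prodObjIso F G A).toEquiv).injective
  apply hinj
  apply Prod.ext
  · rw [prodObjIso_hom_fst, prodObjIso_hom_fst, h₁]
  · rw [prodObjIso_hom_snd, prodObjIso_hom_snd, h₂]

lemma prod_obj_exists (A : C) (x : F.obj A) (y : G.obj A) :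
    ∃ z : (F ⨯ G).obj A, (prod.fst : F ⨯ G ⟶ F).app A z = x ∧ (prod.snd : F ⨯ G ⟶ G).app A z = y := by
  refine ⟨(prodObjIso F G A).inv (x, y), ?_, ?_⟩
  · rw [← prodObjIso_hom_fst]
    have : (prodObjIso F G A).hom ((prodObjIso F G A).inv (x, y)) = (x, y) :=
      (prodObjIso F G A).toEquiv.apply_symm_apply (x, y)
    rw [this]
  · rw [← prodObjIso_hom_snd]
    have : (prodObjIso F G A).hom ((prodObjIso F G A).inv (x, y)) = (x, y) :=
      (prodObjIso F G A).toEquiv.apply_symm_apply (x, y)
    rw [this]

end Prod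

section Pullback

variable {F G H : C ⥤ Type v} (η : F ⟶ G) (θ : H ⟶ G)

lemma isPullback_app (A : C) :
    IsPullback ((pullback.fst η θ).app A) ((pullback.snd η θ).app A) (η.app A) (θ.app A) :=
  Functor.map_isPullback ((evaluation C (Type v)).obj A) (IsPullback.of_hasPullback η θ)

lemma pullback_obj_ext (A : C) (z₁ z₂ : (pullback η θ).obj A)
    (h₁ : (pullback.fst η θ).app A z₁ = (pullback.fst η θ).app A z₂)
    (h₂ : (pullback.snd η θ).app A z₁ = (pullback.snd η θ).app A z₂) : z₁ = z₂ :=
  Types.ext_of_isPullback (isPullback_app η θ A) h₁ h₂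

lemma pullback_obj_exists (A : C) (x : F.obj A) (y : H.obj A) (h : η.app A x = θ.app A y) :
    ∃ z : (pullback η θ).obj A, (pullback.fst η θ).app A z = x ∧ (pullback.snd η θ).app A z = y :=
  Types.exists_of_isPullback (isPullback_app η θ A) x y h

lemma pullback_obj_condition (A : C) (z : (pullback η θ).obj A) :
    η.app A ((pullback.fst η θ).app A z) = θ.app A ((pullback.snd η θ).app A z) :=
  ConcreteCategory.congr_hom (isPullback_app η θ A).w z

end Pullback

end Groth.Agent.Lib.Helper62
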