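import Groth.Agent.Lib.Helper62.GCIField1
import Mathlib.RingTheory.AdjoinRoot

/-! A minimal-degree relation becomes a generator of the kernel after inverting its leading
coefficient (helper62). -/

set_option linter.style.haveILetI false

universe u

open Function Polynomial

noncomputable section

namespace Groth.Agent.Lib.Helper62.GCIField

section MinRel

variable {A : Type*} [CommRing A] [IsDomain A] {K : Type*} [Field K] [Algebra A K]
  (e : K) (p : A[X]) (hp0 : p ≠ 0) (hpe : aeval e p = 0)
  (hmin : ∀ q : A[X], q ≠ 0 → aeval e q = 0 → p.natDegree ≤ q.natDegree)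
  (B : Type*) [CommRing B] [Algebra A B] [IsLocalization.Away p.leadingCoeff B]
  [Algebra B K] [IsScalarTower A B K]

/-- the monic polynomial `p / lc(p)` over `A[1/lc(p)]`. -/
def monicOf : B[X] := C (IsLocalization.Away.invSelf (S := B) p.leadingCoeff) * p.map (algebraMap A B)

include hp0 in
theorem powers_le : Submonoid.powers p.leadingCoeff ≤ nonZeroDivisors A :=
  powers_le_nonZeroDivisors_of_noZeroDivisors (leadingCoeff_ne_zero.mpr hp0)

include hp0 in
theorem injective_AB : Injective (algebraMap A B) :=
  IsLocalization.injective B (powers_le p hp0)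

include hp0 in
theorem monicOf_monic : (monicOf p B).Monic := by
  apply monic_C_mul_of_mul_leadingCoeff_eq_one
  rw [leadingCoeff_map_of_injective (injective_AB p hp0 B), mul_comm]
  exact IsLocalization.Away.mul_invSelf _

omit [IsDomain A] in
include hpe in
theorem aeval_monicOf : aeval e (monicOf p B) = 0 := by
  rw [monicOf, map_mul, aeval_map_algebraMap, hpe, mul_zero]

include hp0 in
theorem natDegree_monicOf : (monicOf p B).natDegree = p.natDegree := by
  haveI : IsDomain B := IsLocalization.isDomain_of_le_nonZeroDivisors B (powers_le p hp0)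
  rw [monicOf, natDegree_C_mul, natDegree_map_eq_of_injective (injective_AB p hp0 B)]
  intro h
  have := IsLocalization.Away.mul_invSelf (S := B) p.leadingCoeff
  rw [h, mul_zero] at this
  exact zero_ne_one this

include hp0 hpe hmin in
theorem monicOf_dvd_of_aeval_eq_zero (q : B[X]) (hq : aeval e q = 0) : monicOf p B ∣ q := by
  haveI : IsDomain B := IsLocalization.isDomain_of_le_nonZeroDivisors B (powers_le p hp0)
  have hmonic := monicOf_monic p hp0 B
  rw [← modByMonic_eq_zero_iff_dvd hmonic]
  by_contra ht
  have hdeg : (q %ₘ monicOf p B).natDegree < p.natDegree := by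
    rw [← natDegree_monicOf p hp0 B]
    exact natDegree_lt_natDegree ht (degree_modByMonic_lt q hmonic)
  have hte : aeval e (q %ₘ monicOf p B) = 0 := by
    have h1 := modByMonic_add_div q (monicOf p B)
    have h2 : aeval e (q %ₘ monicOf p B + monicOf p B * (q /ₘ monicOf p B)) = 0 := by
      rw [h1, hq]
    rwa [map_add, map_mul, aeval_monicOf e p hpe B, zero_mul, add_zero] at h2
  have h0 : IsLocalization.integerNormalization (Submonoid.powers p.leadingCoeff)
      (q %ₘ monicOf p B) ≠ 0 := by
    rw [Ne, IsLocalization.integerNormalization_eq_zero_iff (powers_le p hp0)]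
    exact ht
  have h3 := hmin _ h0 (IsLocalization.integerNormalization_aeval_eq_zero _ _ hte)
  have h4 : (IsLocalization.integerNormalization (Submonoid.powers p.leadingCoeff)
      (q %ₘ monicOf p B)).natDegree ≤ (q %ₘ monicOf p B).natDegree := by
    rw [natDegree_le_iff_coeff_eq_zero]
    intro N hN
    have : N ∉ (q %ₘ monicOf p B).support := by
      rw [notMem_support_iff]
      exact coeff_eq_zero_of_natDegree_lt hN
    exact notMem_support_iff.mp fun h =>
      this (IsLocalization.integerNormalization_support _ _ h)
  omega

end MinRel

end Groth.Agent.Lib.Helper62.GCIField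

end
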