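import Groth.Agent.Lib.Helper62.GCIField2
import Groth.Prelude.Def_RegImm

/-! Presentations with a given excess of variables over relations (helper62). -/

set_option linter.style.haveILetI false

universe u

open Function Polynomial

noncomputable section

namespace Groth.Agent.Lib.Helper62.GCIField

/-- `A` has a finite presentation over `k` with `r` more variables than relations. -/
def HasPres (k A : Type u) [CommRing k] [CommRing A] [Algebra k A] (r : ℕ) : Prop :=
  ∃ (ι σ : Type) (_ : Finite ι) (_ : Finite σ) (_ : Algebra.Presentation k A ι σ),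
    Nat.card ι = Nat.card σ + r

section

variable {k A B : Type u} [CommRing k] [CommRing A] [CommRing B] [Algebra k A] [Algebra k B]

theorem HasPres.of_algEquiv (e : A ≃ₐ[k] B) {r : ℕ} (h : HasPres k A r) : HasPres k B r := by
  obtain ⟨ι, σ, hι, hσ, P, hP⟩ := h
  exact ⟨ι, σ, hι, hσ, P.ofAlgEquiv e, hP⟩

theorem HasPres.finitePresentation {r : ℕ} (h : HasPres k A r) :
    Algebra.FinitePresentation k A := by
  obtain ⟨ι, σ, hι, hσ, P, -⟩ := h
  exact P.finitePresentation_of_isFinite

theorem HasPres.comp [Algebra A B] [IsScalarTower k A B] {r r' : ℕ} (h : HasPres k A r)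
    (h' : HasPres A B r') : HasPres k B (r + r') := by
  obtain ⟨ι, σ, hι, hσ, P, hP⟩ := h
  obtain ⟨ι', σ', hι', hσ', Q, hQ⟩ := h'
  refine ⟨ι' ⊕ ι, σ' ⊕ σ, inferInstance, inferInstance, Q.comp P, ?_⟩
  rw [Nat.card_sum, Nat.card_sum, hP, hQ]
  ring

variable (k) in
theorem hasPres_self : HasPres k k 0 :=
  ⟨PEmpty, PEmpty, inferInstance, inferInstance, Algebra.Presentation.id k, by simp⟩

variable (A) in
theorem hasPres_mvPolynomial (ι : Type) [Finite ι] :
    HasPres A (MvPolynomial ι A) (Nat.card ι) := by
  refine ⟨ι, PEmpty, inferInstance, inferInstance,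
    { toGenerators := Algebra.Generators.mvPolynomial A ι
      relation := PEmpty.elim
      span_range_relation_eq_ker := ?_ }, by simp⟩
  rw [Algebra.Generators.ker_mvPolynomial, Set.range_eq_empty, Ideal.span_empty]

variable (A) in
theorem hasPres_away (g : A) (B : Type u) [CommRing B] [Algebra A B] [IsLocalization.Away g B] :
    HasPres A B 0 :=
  ⟨Unit, Unit, inferInstance, inferInstance, Algebra.Presentation.localizationAway B g, by simp⟩

variable (A) in
theorem hasPres_adjoinRoot (f : A[X]) : HasPres A (AdjoinRoot f) 0 := by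
  let v : Unit → MvPolynomial Unit A := fun _ => (MvPolynomial.uniqueAlgEquiv A Unit).symm f
  let e : (MvPolynomial Unit A ⧸ Ideal.span (Set.range v)) ≃ₐ[A] A[X] ⧸ Ideal.span {f} :=
    Ideal.quotientEquivAlg _ _ (MvPolynomial.uniqueAlgEquiv A Unit) (by
      rw [Ideal.map_span]
      congr 1
      rw [Set.range_const, Set.image_singleton]
      change _ = {(MvPolynomial.uniqueAlgEquiv A Unit)
        ((MvPolynomial.uniqueAlgEquiv A Unit).symm f)}
      rw [AlgEquiv.apply_symm_apply])
  exact ⟨Unit, Unit, inferInstance, inferInstance,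
    (Algebra.Presentation.naive (v := v)).ofAlgEquiv e, by simp⟩

end

section Field

variable {k : Type u} [Field k] {A : Type u} [CommRing A] [Algebra k A]

theorem HasPres.isGlobalCI {r : ℕ} (h : HasPres k A r) (hdim : ringKrullDim A = r) :
    Synt.IsGlobalCI k A := by
  obtain ⟨ι, σ, hι, hσ, P, hP⟩ := h
  right
  refine ⟨Nat.card ι, Nat.card σ, by omega, ?_⟩
  let P' := P.reindex (Finite.equivFin ι).symm (Finite.equivFin σ).symm
  refine ⟨MvPolynomial.aeval P'.val, P'.relation, P'.aeval_val_surjective, ?_, ?_⟩
  · rw [P'.span_range_relation_eq_ker, P'.ker_eq_ker_aeval_val]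
    rfl
  · rw [hdim, hP]
    simp

end Field

end Groth.Agent.Lib.Helper62.GCIField

end
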