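import Groth.Agent.Lib.Helper62.GCIField3
import Mathlib.RingTheory.AlgebraicIndependent.Basic
import Mathlib.RingTheory.AlgebraicIndependent.Transcendental

/-! A field extension is a directed union of global complete intersections (helper62). -/

set_option linter.style.haveILetI false

universe u

open Function Polynomial

noncomputable section

namespace Groth.Agent.Lib.Helper62.GCIField

/-- a presentation with `r` more variables than relations, and dimension `r`. -/
def Good (k A : Type u) [Field k] [CommRing A] [Algebra k A] : Prop :=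
  ∃ r : ℕ, HasPres k A r ∧ ringKrullDim A = r

section

variable {k : Type u} [Field k] {A B : Type u} [CommRing A] [CommRing B] [Algebra k A]
  [Algebra k B]

theorem Good.of_algEquiv (e : A ≃ₐ[k] B) (h : Good k A) : Good k B := by
  obtain ⟨r, h1, h2⟩ := h
  exact ⟨r, h1.of_algEquiv e, by rw [← h2]; exact (ringKrullDim_eq_of_ringEquiv e.toRingEquiv).symm⟩

theorem Good.isGlobalCI (h : Good k A) : Synt.IsGlobalCI k A := by
  obtain ⟨r, h1, h2⟩ := h
  exact h1.isGlobalCI h2

variable (k) in
theorem good_self : Good k k := ⟨0, hasPres_self k, by simp [ringKrullDim_eq_zero_of_field]⟩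

theorem Good.mvPolynomial_unit (h : Good k A) : Good k (MvPolynomial Unit A) := by
  obtain ⟨r, h1, h2⟩ := h
  haveI := h1.finitePresentation
  haveI : IsNoetherianRing A := Algebra.FiniteType.isNoetherianRing k A
  refine ⟨r + 1, ?_, ?_⟩
  · have := h1.comp (hasPres_mvPolynomial A Unit)
    simpa using this
  · rw [MvPolynomial.ringKrullDim_of_isNoetherianRing, h2]
    simp

theorem Good.adjoinRoot_away [IsDomain A] (h : Good k A) (g : A) (hg : g ≠ 0)
    (f : (Localization.Away g)[X]) (hf : f.Monic) (hdeg : f.degree ≠ 0) :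
    Good k (AdjoinRoot f) := by
  obtain ⟨r, h1, h2⟩ := h
  haveI := h1.finitePresentation
  haveI : Algebra.FiniteType k A := inferInstance
  haveI : IsDomain (Localization.Away g) :=
    IsLocalization.isDomain_of_le_nonZeroDivisors _
      (powers_le_nonZeroDivisors_of_noZeroDivisors hg)
  refine ⟨r, ?_, ?_⟩
  · have := (h1.comp (hasPres_away A g (Localization.Away g))).comp
      (hasPres_adjoinRoot (Localization.Away g) f)
    simpa using this
  · haveI := hf.finite_adjoinRoot
    have hint : (algebraMap (Localization.Away g) (AdjoinRoot f)).IsIntegral :=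
      fun x => (Algebra.IsIntegral.isIntegral (R := Localization.Away g) x)
    rw [← Groth.Agent.Lib.Helper62.DimSmooth.ringKrullDim_eq_of_isIntegral_of_injective _ hint
      (AdjoinRoot.of.injective_of_degree_ne_zero hdeg), ringKrullDim_away_eq k A g hg, h2]

end

section Main

variable (k : Type u) [Field k] (K : Type u) [Field K] [Algebra k K]

theorem step_transcendental (A : Subalgebra k K) (hA : Good k A) (e : K)
    (he : Transcendental A e) : ∃ A' : Subalgebra k K, A ≤ A' ∧ e ∈ A' ∧ Good k A' := by
  have hinj : Injective (MvPolynomial.aeval (fun _ : Unit => e) : MvPolynomial Unit A →ₐ[A] K) := by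
    have : AlgebraicIndependent A (fun _ : Unit => e) :=
      (algebraicIndependent_unique_type_iff (x := fun _ : Unit => e)).mpr he
    exact this
  refine ⟨((MvPolynomial.aeval (fun _ : Unit => e) :
    MvPolynomial Unit A →ₐ[A] K).restrictScalars k).range, ?_, ?_, ?_⟩
  · intro a ha
    refine ⟨MvPolynomial.C ⟨a, ha⟩, ?_⟩
    simp
  · exact ⟨MvPolynomial.X (), by simp⟩
  · exact hA.mvPolynomial_unit.of_algEquiv (AlgEquiv.ofInjective _ hinj)

theorem step_algebraic (A : Subalgebra k K) (hA : Good k A) (e : K)
    (he : IsAlgebraic A e) : ∃ A' : Subalgebra k K, A ≤ A' ∧ e ∈ A' ∧ Good k A' := by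
  classical
  -- a relation of minimal degree
  have hex : ∃ n : ℕ, ∃ q : (A : Type u)[X], q ≠ 0 ∧ aeval e q = 0 ∧ q.natDegree = n := by
    obtain ⟨q, hq0, hq⟩ := he
    exact ⟨_, q, hq0, hq, rfl⟩
  obtain ⟨p, hp0, hpe, hpn⟩ := Nat.find_spec hex
  have hmin : ∀ q : (A : Type u)[X], q ≠ 0 → aeval e q = 0 → p.natDegree ≤ q.natDegree := by
    intro q hq0 hq
    rw [hpn]
    exact Nat.find_min' hex ⟨q, hq0, hq, rfl⟩
  have hg : p.leadingCoeff ≠ 0 := leadingCoeff_ne_zero.mpr hp0
  have hgK : IsUnit (algebraMap A K p.leadingCoeff) := by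
    rw [isUnit_iff_ne_zero]
    intro h
    apply hg
    exact Subtype.ext h
  letI : Algebra (Localization.Away p.leadingCoeff) K :=
    (IsLocalization.Away.lift (S := Localization.Away p.leadingCoeff) p.leadingCoeff
      (g := algebraMap A K) hgK).toAlgebra
  haveI : IsScalarTower A (Localization.Away p.leadingCoeff) K :=
    IsScalarTower.of_algebraMap_eq fun a => (IsLocalization.Away.lift_eq _ hgK a).symm
  haveI : IsScalarTower k (Localization.Away p.leadingCoeff) K := by
    refine IsScalarTower.of_algebraMap_eq fun x => ?_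
    rw [IsScalarTower.algebraMap_apply k A (Localization.Away p.leadingCoeff),
      ← IsScalarTower.algebraMap_apply A (Localization.Away p.leadingCoeff) K,
      ← IsScalarTower.algebraMap_apply k A K]
  haveI : IsDomain (Localization.Away p.leadingCoeff) :=
    IsLocalization.isDomain_of_le_nonZeroDivisors _
      (powers_le_nonZeroDivisors_of_noZeroDivisors hg)
  have hroot : eval₂ (Algebra.ofId (Localization.Away p.leadingCoeff) K) e
      (monicOf p (Localization.Away p.leadingCoeff)) = 0 :=
    aeval_monicOf e p hpe _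
  let φ : AdjoinRoot (monicOf p (Localization.Away p.leadingCoeff)) →ₐ[
      Localization.Away p.leadingCoeff] K :=
    AdjoinRoot.liftAlgHom _ (Algebra.ofId (Localization.Away p.leadingCoeff) K) e hroot
  have hφinj : Injective φ := by
    rw [injective_iff_map_eq_zero]
    intro x hx
    obtain ⟨q, rfl⟩ := AdjoinRoot.mk_surjective x
    rw [AdjoinRoot.mk_eq_zero]
    apply monicOf_dvd_of_aeval_eq_zero e p hp0 hpe hmin
    exact hx
  have hdeg : (monicOf p (Localization.Away p.leadingCoeff)).degree ≠ 0 := by
    rw [degree_eq_natDegree (monicOf_monic p hp0 _).ne_zero, natDegree_monicOf p hp0]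
    intro h
    have h0 : p.natDegree = 0 := by exact_mod_cast h
    rw [eq_C_of_natDegree_eq_zero h0, aeval_C] at hpe
    have : p.coeff 0 = 0 := Subtype.ext hpe
    apply hp0
    rw [eq_C_of_natDegree_eq_zero h0, this, C_0]
  refine ⟨(φ.restrictScalars k).range, ?_, ?_, ?_⟩
  · intro a ha
    refine ⟨AdjoinRoot.of _ (algebraMap A _ ⟨a, ha⟩), ?_⟩
    change φ (AdjoinRoot.of _ (algebraMap A _ ⟨a, ha⟩)) = a
    rw [AdjoinRoot.liftAlgHom_of]
    change algebraMap (Localization.Away p.leadingCoeff) K (algebraMap A _ ⟨a, ha⟩) = a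
    rw [← IsScalarTower.algebraMap_apply]
    rfl
  · exact ⟨AdjoinRoot.root _, AdjoinRoot.liftAlgHom_root _ _ _ hroot⟩
  · exact (hA.adjoinRoot_away p.leadingCoeff hg _ (monicOf_monic p hp0 _) hdeg).of_algEquiv
      (AlgEquiv.ofInjective (φ.restrictScalars k) hφinj)

theorem exists_good (E : Finset K) : ∃ A : Subalgebra k K, (↑E : Set K) ⊆ (A : Set K) ∧
    Good k A := by
  classical
  induction E using Finset.induction_on with
  | empty =>
    exact ⟨⊥, by simp, (good_self k).of_algEquiv (Algebra.botEquiv k K).symm⟩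
  | insert e E _ ih =>
    obtain ⟨A, hEA, hA⟩ := ih
    obtain ⟨A', hAA', heA', hA'⟩ : ∃ A' : Subalgebra k K, A ≤ A' ∧ e ∈ A' ∧ Good k A' := by
      by_cases he : IsAlgebraic A e
      · exact step_algebraic k K A hA e he
      · exact step_transcendental k K A hA e he
    refine ⟨A', ?_, hA'⟩
    rw [Finset.coe_insert, Set.insert_subset_iff]
    exact ⟨heA', hEA.trans hAA'⟩

end Main

end Groth.Agent.Lib.Helper62.GCIField

end
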