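import Mathlib
import Groth.Agent.S6075
import Groth.Agent.Lib.Helper60.AbGen
import Groth.Agent.Lib.Helper43.SubGrp
import Groth.Agent.Lib.Helper21.RedSubscheme

set_option autoImplicit false
universe u
open CategoryTheory CategoryTheory.Limits MonoidalCategory CartesianMonoidalCategory MonObj GrpObj AlgebraicGeometry
open SGA3

namespace Groth.Agent.Lib.Helper62.GenSub
open Groth.Agent.S6076 Groth.Agent.S6075

section Gen
variable {C : Type*} [Category C] [CartesianMonoidalCategory C] {G : C} [GrpObj G]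

/-- left translation by a point -/
noncomputable def La (a : 𝟙_ C ⟶ G) : G ⟶ G := (λ_ G).inv ≫ (a ▷ G) ≫ μ[G]

lemma comp_La {T : C} (t : T ⟶ G) (a : 𝟙_ C ⟶ G) : t ≫ La a = (toUnit T ≫ a) * t := by
  have h : (λ_ G).inv ≫ (a ▷ G) = lift (toUnit G ≫ a) (𝟙 G) := by
    ext <;> simp
  unfold La
  rw [← Category.assoc ((λ_ G).inv), h, Hom.mul_def, ← Category.assoc, comp_lift]
  congr 2
  · rw [← Category.assoc]
    congr 1
    exact toUnit_unique _ _
  · exact Category.comp_id t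

lemma La_eq (a : 𝟙_ C ⟶ G) : La a = (toUnit G ≫ a) * 𝟙 G := by
  rw [← comp_La, Category.id_comp]

lemma La_inv_cancel (a : 𝟙_ C ⟶ G) : La a ≫ La a⁻¹ = 𝟙 G := by
  rw [comp_La, La_eq a, GrpObj.comp_inv, inv_mul_cancel_left]

lemma La_inv_cancel' (a : 𝟙_ C ⟶ G) : La a⁻¹ ≫ La a = 𝟙 G := by
  rw [comp_La, La_eq a⁻¹, GrpObj.comp_inv, mul_inv_cancel_left]

lemma list_prod_comp {Γ : C} [GrpObj Γ] (i : Γ ⟶ G) [IsMonHom i] {T : C} (L : List (T ⟶ Γ)) :
    L.prod ≫ i = (L.map (fun a => a ≫ i)).prod := by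
  induction L with
  | nil => simp only [List.prod_nil, List.map_nil, MonObj.one_comp]
  | cons a L ih => simp only [List.prod_cons, List.map_cons, MonObj.mul_comp, ih]

end Gen

variable {S : Scheme.{u}}

lemma wd_factor {X Γ G : Over S} [GrpObj Γ] [GrpObj G] (i : Γ ⟶ G) [IsMonHom i] (f' : X ⟶ Γ)
    {T : Over S} (n : ℕ) (x : Fin n → (T ⟶ X)) (ε : Fin n → Bool) :
    wd (f' ≫ i) n x ε = wd f' n x ε ≫ i := by
  unfold wd
  rw [list_prod_comp, List.map_ofFn]
  refine congrArg List.prod (congrArg List.ofFn (funext fun j => ?_))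
  simp only [Function.comp_apply]
  split_ifs
  · rw [Category.assoc]
  · rw [GrpObj.inv_comp, Category.assoc]

/-- the letter attached to a pair -/
noncomputable def ψ {X G : Over S} [GrpObj G] (f : X ⟶ G) {T : Over S}
    (q : (T ⟶ X) × Bool) : T ⟶ G :=
  if q.2 then q.1 ≫ f else (q.1 ≫ f)⁻¹

lemma ψ_comp {X G : Over S} [GrpObj G] (f : X ⟶ G) {T T' : Over S} (t : T ⟶ T')
    (q : (T' ⟶ X) × Bool) : ψ f (t ≫ q.1, q.2) = t ≫ ψ f q := by
  obtain ⟨y, b⟩ := q
  cases b <;> simp [ψ, GrpObj.comp_inv]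

lemma exists_word_of_list {X G : Over S} [GrpObj G] (f : X ⟶ G) {T : Over S}
    (L : List ((T ⟶ X) × Bool)) (m : ℕ) (hlen : L.length = m) (p : T.left) :
    ∃ (T' : Over S) (p' : T'.left) (x : Fin m → (T' ⟶ X)) (ε : Fin m → Bool),
      ((List.ofFn fun j : Fin m => if ε j then x j ≫ f else (x j ≫ f)⁻¹).prod : T' ⟶ G).left.base p' =
        ((L.map (ψ f)).prod).left.base p := by
  subst hlen
  refine ⟨T, p, fun j => (L.get j).1, fun j => (L.get j).2, ?_⟩
  have : (List.ofFn fun j : Fin L.length =>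
      if (L.get j).2 then (L.get j).1 ≫ f else ((L.get j).1 ≫ f)⁻¹) = L.map (ψ f) := by
    have h1 : (fun j : Fin L.length =>
        if (L.get j).2 then (L.get j).1 ≫ f else ((L.get j).1 ≫ f)⁻¹) = (ψ f) ∘ L.get := rfl
    rw [h1, ← List.map_ofFn, List.ofFn_get]
  rw [this]

lemma exists_pairs_aux {X G : Over S} [GrpObj G] (f : X ⟶ G) {T : Over S} (l : List (T ⟶ G))
    (hch : ∀ y ∈ l, ∃ q : (T ⟶ X) × Bool, y = ψ f q) :
    ∃ L : List ((T ⟶ X) × Bool), l = L.map (ψ f) := by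
  induction l with
  | nil => exact ⟨[], rfl⟩
  | cons y l ih =>
    obtain ⟨q, hq⟩ := hch y (List.mem_cons_self ..)
    obtain ⟨L, hL⟩ := ih (fun z hz => hch z (List.mem_cons_of_mem _ hz))
    exact ⟨q :: L, by rw [List.map_cons, ← hL, ← hq]⟩

lemma exists_pairs_of_mem_closure (k : Type u) [Field k] [IsAlgClosed k]
    (G X : Over (Spec (CommRingCat.of k))) [GrpObj G] [LocallyOfFiniteType X.hom] (f : X ⟶ G)
    (a : 𝟙_ (Over (Spec (CommRingCat.of k))) ⟶ G)
    (ha : a ∈ Subgroup.closure {g : 𝟙_ (Over (Spec (CommRingCat.of k))) ⟶ G |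
      ∃ p₀ : (𝟙_ (Over (Spec (CommRingCat.of k)))).left, g.left.base p₀ ∈ Set.range f.left.base}) :
    ∃ L : List ((𝟙_ (Over (Spec (CommRingCat.of k))) ⟶ X) × Bool), a = (L.map (ψ f)).prod := by
  rw [← Subgroup.mem_toSubmonoid, Subgroup.closure_toSubmonoid] at ha
  obtain ⟨l, hl, rfl⟩ := Submonoid.exists_list_of_mem_closure ha
  have hch : ∀ y ∈ l, ∃ q : (𝟙_ (Over (Spec (CommRingCat.of k))) ⟶ X) × Bool, y = ψ f q := by
    intro y hy
    rcases hl y hy with hB | hB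
    · obtain ⟨p₀, x₀, hx₀⟩ := hB
      obtain ⟨xb, hxb⟩ := exists_lift_pt f y x₀ p₀ hx₀
      exact ⟨(xb, true), by simp [ψ, hxb]⟩
    · rw [Set.mem_inv] at hB
      obtain ⟨p₀, x₀, hx₀⟩ := hB
      obtain ⟨xb, hxb⟩ := exists_lift_pt f y⁻¹ x₀ p₀ hx₀
      exact ⟨(xb, false), by simp [ψ, hxb]⟩
  obtain ⟨L, hL⟩ := exists_pairs_aux f l hch
  exact ⟨L, by rw [hL]⟩

lemma forall_mem_of_kpoints (k : Type u) [Field k] [IsAlgClosed k]
    (Y : Over (Spec (CommRingCat.of k))) [LocallyOfFiniteType Y.hom]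
    (Zc : Set Y.left) (hZc : IsClosed Zc)
    (h : ∀ c : 𝟙_ (Over (Spec (CommRingCat.of k))) ⟶ Y,
      c.left.base (IsLocalRing.closedPoint k : ↥(Spec (CommRingCat.of k))) ∈ Zc) :
    ∀ q : Y.left, q ∈ Zc := by
  haveI : JacobsonSpace Y.left := LocallyOfFiniteType.jacobsonSpace Y.hom
  have hcl : closedPoints Y.left ⊆ Zc := by
    intro q hq
    have hq' : IsClosed ({q} : Set Y.left) := hq
    let c : 𝟙_ (Over (Spec (CommRingCat.of k))) ⟶ Y :=
      Over.homMk (pointOfClosedPoint Y.hom q hq') (pointOfClosedPoint_comp Y.hom q hq')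
    have hc := h c
    rwa [show c.left.base (IsLocalRing.closedPoint k : ↥(Spec (CommRingCat.of k))) = q from
      pointOfClosedPoint_apply Y.hom q hq' _] at hc
  intro q
  have hsub : closure (closedPoints Y.left) ⊆ Zc := hZc.closure_subset_iff.mpr hcl
  rw [closure_closedPoints] at hsub
  exact hsub (Set.mem_univ q)

end Groth.Agent.Lib.Helper62.GenSub
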