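import Mathlib.Algebra.Exact.Basic
import Mathlib.Algebra.Module.Projective
import Mathlib.LinearAlgebra.Quotient.Basic

/-! Covariant exactness properties of `Hom_B(X, -)` (helper62). -/

open Function

namespace Groth.Agent.Lib.Helper62.HomExact

variable {B : Type*} [CommRing B] {X M' M M'' : Type*}
  [AddCommGroup X] [Module B X] [AddCommGroup M'] [Module B M'] [AddCommGroup M] [Module B M]
  [AddCommGroup M''] [Module B M'']
variable (f : M' →ₗ[B] M) (g : M →ₗ[B] M'')

lemma comp_left_injective (hf : Injective f) {φ ψ : X →ₗ[B] M'} (h : f ∘ₗ φ = f ∘ₗ ψ) : φ = ψ := by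
  ext x
  exact hf (LinearMap.congr_fun h x)

lemma exists_factor (hf : Injective f) (hfg : Exact f g) (φ : X →ₗ[B] M) (h : g ∘ₗ φ = 0) :
    ∃ φ' : X →ₗ[B] M', f ∘ₗ φ' = φ := by
  have hr : ∀ x, φ x ∈ LinearMap.range f := fun x => (hfg (φ x)).mp (LinearMap.congr_fun h x)
  refine ⟨(LinearEquiv.ofInjective f hf).symm.toLinearMap ∘ₗ φ.codRestrict (LinearMap.range f) hr, ?_⟩
  ext x
  simp only [LinearMap.coe_comp, LinearEquiv.coe_coe, comp_apply]
  have := (LinearEquiv.ofInjective f hf).apply_symm_apply (φ.codRestrict (LinearMap.range f) hr x)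
  exact congrArg Subtype.val this

lemma exists_lift [Module.Projective B X] (hg : Surjective g) (φ'' : X →ₗ[B] M'') :
    ∃ φ : X →ₗ[B] M, g ∘ₗ φ = φ'' :=
  Module.projective_lifting_property g φ'' hg

lemma comp_comp_eq_zero (hfg : Exact f g) (φ : X →ₗ[B] M') : g ∘ₗ (f ∘ₗ φ) = 0 := by
  ext x
  exact hfg.apply_apply_eq_zero (φ x)

end Groth.Agent.Lib.Helper62.HomExact
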