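import Mathlib
import Groth.Agent.S5348

/-! Homogeneous spaces under group schemes over a field: orbits of the neutral component
(SGA3 VI_A 2.6.5 (iii)). -/

set_option autoImplicit false
set_option linter.style.haveILetI false
universe u
open CategoryTheory CategoryTheory.Limits MonoidalCategory CartesianMonoidalCategory MonObj GrpObj AlgebraicGeometry

namespace Groth.Agent.Lib.Helper62.HomogComp
open TopologicalSpace
open Groth.Agent.S0350 Groth.Agent.S5348 Groth.Agent.Lib.Helper95

section top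
variable {A B : Type*} [TopologicalSpace A] [TopologicalSpace B]

/-- a point is maximal if its closure is an irreducible component. -/
theorem max_of_generalizing [QuasiSober B] [T0Space A] {π : A → B} (hπ : Continuous π)
    (hg : GeneralizingMap π) {y : A} (hy : closure {y} ∈ irreducibleComponents A) :
    closure {π y} ∈ irreducibleComponents B := by
  have hW := irreducibleComponent_mem_irreducibleComponents (π y)
  have hWcl : IsClosed (irreducibleComponent (π y)) := isClosed_irreducibleComponent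
  have hξ : IsGenericPoint hW.1.genericPoint (irreducibleComponent (π y)) :=
    hW.1.isGenericPoint_genericPoint hWcl
  have hs : hW.1.genericPoint ⤳ π y := hξ.specializes mem_irreducibleComponent
  obtain ⟨y', hy', hπy'⟩ := hg hs
  have h1 : closure {y} ⊆ closure {y'} := by
    apply closure_minimal _ isClosed_closure
    rw [Set.singleton_subset_iff]
    exact specializes_iff_mem_closure.mp hy'
  have h2 : closure {y'} ⊆ closure {y} := hy.2 isIrreducible_singleton.closure h1
  have h3 : y' = y := by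
    have ha : IsGenericPoint y' (closure {y}) := Set.Subset.antisymm h2 h1
    exact ha.eq isGenericPoint_closure
  rw [h3] at hπy'
  rw [hπy', hξ.def]
  exact hW

theorem eq_of_max_of_mem [T0Space B] {ξ ξ' : B} (hξ' : closure {ξ'} ∈ irreducibleComponents B)
    (h : ξ' ∈ closure {ξ}) : ξ' = ξ := by
  have h1 : closure {ξ'} ⊆ closure {ξ} := by
    apply closure_minimal _ isClosed_closure
    rw [Set.singleton_subset_iff]; exact h
  have h2 : closure {ξ} ⊆ closure {ξ'} := hξ'.2 isIrreducible_singleton.closure h1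
  have ha : IsGenericPoint ξ' (closure {ξ}) := Set.Subset.antisymm h1 h2
  exact ha.eq isGenericPoint_closure

theorem subset_of_uniqueComp {x : B} (hx : UniqueComp x) {Z S : Set B}
    (hZ : Z ∈ irreducibleComponents B) (hxZ : x ∈ Z) (hS : IsIrreducible S) (hxS : x ∈ S) :
    S ⊆ Z := by
  obtain ⟨W, hW, hSW⟩ := exists_mem_irreducibleComponents_subset_of_isIrreducible S hS
  rw [hx Z hZ W hW hxZ (hSW hxS)]
  exact hSW

/-- over a surjective generalizing map, maximal points lift to maximal points. -/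
theorem exists_max_over [QuasiSober A] [T0Space B] {π : A → B} (hπ : Continuous π)
    (hs : Function.Surjective π) {ζ : B} (hζ : closure {ζ} ∈ irreducibleComponents B) :
    ∃ y : A, closure {y} ∈ irreducibleComponents A ∧ π y = ζ := by
  obtain ⟨y₀, hy₀⟩ := hs ζ
  have hW := irreducibleComponent_mem_irreducibleComponents y₀
  have hWcl : IsClosed (irreducibleComponent y₀) := isClosed_irreducibleComponent
  have hξ : IsGenericPoint hW.1.genericPoint (irreducibleComponent y₀) :=
    hW.1.isGenericPoint_genericPoint hWcl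
  refine ⟨hW.1.genericPoint, by rw [hξ.def]; exact hW, ?_⟩
  have h1 : hW.1.genericPoint ⤳ y₀ := hξ.specializes mem_irreducibleComponent
  have h2 : π hW.1.genericPoint ⤳ ζ := hy₀ ▸ h1.map hπ
  have h3 : ζ ∈ closure {π hW.1.genericPoint} := specializes_iff_mem_closure.mp h2
  exact (eq_of_max_of_mem hζ h3).symm

end top

section irr

/-- preimages of irreducible closed sets under base change from an algebraically closed field. -/
theorem isIrreducible_preimage_of_isPullback {M : Type u} [Field M] [IsAlgClosed M]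
    {W Y P : Scheme.{u}} [IrreducibleSpace Y]
    {f : W ⟶ Spec (CommRingCat.of M)} {hh : Y ⟶ Spec (CommRingCat.of M)} {ρ : P ⟶ W} {p : P ⟶ Y}
    (sq : IsPullback ρ p f hh) (C : Set W) (hC : IsClosed C) (hCi : IsIrreducible C) :
    IsIrreducible (ρ ⁻¹' C) := by
  obtain ⟨Zs, i, hi, _⟩ := exists_subscheme C hC hCi
  have : GeometricallyIrreducible (i ≫ f) := geomIrr_of_isAlgClosed _
  have hirr : IrreducibleSpace ↥(pullback (i ≫ f) hh) := inferInstance
  have sq2 : IsPullback (pullback.fst i ρ) (pullback.snd i ρ ≫ p) (i ≫ f) hh :=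
    (((IsPullback.of_hasPullback i ρ).flip).paste_horiz sq.flip).flip
  have hirr2 : IrreducibleSpace ↥(pullback i ρ) :=
    irreducibleSpace_of_surjective (Scheme.Hom.continuous sq2.isoPullback.inv)
      (Scheme.homeoOfIso sq2.isoPullback.symm).surjective
  rw [← hi, ← Scheme.Pullback.range_snd, ← Set.image_univ]
  exact (IrreducibleSpace.isIrreducible_univ _).image _
    (Scheme.Hom.continuous _).continuousOn

end irr

section act
variable {k : Type u} [Field k] {G X : Over (Spec (CommRingCat.of k))} [GrpObj G]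
  (a : AlgGrp.Action G X)

/-- the orbit-type map `g ↦ g⁻¹ • x` over `T`. -/
noncomputable def Ψ {T : Over (Spec (CommRingCat.of k))} (x : T ⟶ X) : G ⊗ T ⟶ X ⊗ T :=
  lift (psmul a (fst G T)⁻¹ (snd G T ≫ x)) (snd G T)

/-- right translation `g ↦ g d⁻¹` over `T`. -/
noncomputable def rmul {T : Over (Spec (CommRingCat.of k))} (d : T ⟶ G) : G ⊗ T ⟶ G ⊗ T :=
  lift (fst G T * (snd G T ≫ d)⁻¹) (snd G T)

lemma lift_rmul {T : Over (Spec (CommRingCat.of k))} (g d : T ⟶ G) :
    lift g (𝟙 T) ≫ rmul d = lift (g * d⁻¹) (𝟙 T) := by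
  rw [rmul, comp_lift, MonObj.comp_mul, GrpObj.comp_inv, lift_fst, lift_snd_assoc, lift_snd,
    Category.id_comp]

lemma lift_Ψ {T' T : Over (Spec (CommRingCat.of k))} (g : T' ⟶ G) (h : T' ⟶ T) (x : T ⟶ X) :
    lift g h ≫ Ψ a x = lift (psmul a g⁻¹ (h ≫ x)) h := by
  rw [Ψ, comp_lift, comp_psmul, GrpObj.comp_inv, lift_fst, lift_snd_assoc, lift_snd]

lemma Ψ_snd {T : Over (Spec (CommRingCat.of k))} (x : T ⟶ X) : Ψ a x ≫ snd X T = snd G T :=
  lift_snd _ _

lemma rmul_Ψ {T : Over (Spec (CommRingCat.of k))} (d : T ⟶ G) (x : T ⟶ X) :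
    rmul d ≫ Ψ a x = Ψ a x ≫ (tr a d).hom := by
  have htr : (tr a d).hom = lift (psmul a (snd X T ≫ d) (fst X T)) (snd X T) := rfl
  rw [rmul, lift_Ψ, htr, Ψ, comp_lift, comp_psmul, lift_snd_assoc, lift_fst, lift_snd, ← mul_psmul,
    _root_.mul_inv_rev, _root_.inv_inv]

lemma tower_sq (Y : Over (Spec (CommRingCat.of k))) {T' T : Over (Spec (CommRingCat.of k))}
    (h : T' ⟶ T) : IsPullback (Y ◁ h).left (snd Y T').left (snd Y T).left h.left :=
  tower Y.hom T.hom h.left T'.hom (Over.w h) (Y ◁ h).left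
    (by show ((Y ◁ h) ≫ fst Y T).left = (fst Y T').left; rw [whiskerLeft_fst])
    (by show ((Y ◁ h) ≫ snd Y T).left = (snd Y T' ≫ h).left; rw [whiskerLeft_snd])

lemma whisker_Ψ {T' T : Over (Spec (CommRingCat.of k))} (h : T' ⟶ T) (x : T ⟶ X) :
    (G ◁ h) ≫ Ψ a x = Ψ a (h ≫ x) ≫ (X ◁ h) := by
  apply CartesianMonoidalCategory.hom_ext
  · simp only [Ψ, Category.assoc, lift_fst, whiskerLeft_fst, comp_psmul, GrpObj.comp_inv,
      whiskerLeft_snd_assoc]
  · simp only [Ψ, Category.assoc, lift_snd, whiskerLeft_snd, lift_snd_assoc]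

lemma psi_tower {T' T : Over (Spec (CommRingCat.of k))} (h : T' ⟶ T) (x : T ⟶ X) :
    IsPullback (G ◁ h).left (Ψ a (h ≫ x)).left (Ψ a x).left (X ◁ h).left := by
  refine IsPullback.of_bot (v₂₁ := (snd X T').left) (v₂₂ := (snd X T).left) (h₃₁ := h.left)
    ?_ (congr(($(whisker_Ψ a h x)).left)) (tower_sq X h)
  have e1 : (Ψ a (h ≫ x)).left ≫ (snd X T').left = (snd G T').left :=
    congr(($(Ψ_snd a (h ≫ x))).left)
  have e2 : (Ψ a x).left ≫ (snd X T).left = (snd G T).left := congr(($(Ψ_snd a x)).left)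
  rw [e1, e2]
  exact tower_sq G h

end act

section trans
variable {k : Type u} [Field k] {G X : Over (Spec (CommRingCat.of k))} [GrpObj G]
  (a : AlgGrp.Action G X) (hΦ : Surjective (lift a.act (snd G X)).left)

include hΦ in
theorem exists_transporter (T : Over (Spec (CommRingCat.of k))) (p q : T ⟶ X) (t : T.left) :
    ∃ (N : Type u) (_ : Field N) (_ : IsAlgClosed N)
      (gN : Spec (CommRingCat.of N) ⟶ Spec (CommRingCat.of k))
      (h : Over.mk gN ⟶ T) (g : Over.mk gN ⟶ G),
      psmul a g (h ≫ q) = h ≫ p ∧ ∀ s, h.left s = t := by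
  let pq : T ⟶ X ⊗ X := lift p q
  let Φ : G ⊗ X ⟶ X ⊗ X := lift a.act (snd G X)
  have : Surjective Φ.left := hΦ
  obtain ⟨w, hw⟩ := (pullback.snd Φ.left pq.left).surjective t
  obtain ⟨N, _, _, d, hd⟩ := exists_geomPoint w
  let gN : Spec (CommRingCat.of N) ⟶ Spec (CommRingCat.of k) :=
    d ≫ pullback.snd Φ.left pq.left ≫ T.hom
  let h : Over.mk gN ⟶ T := Over.homMk (d ≫ pullback.snd Φ.left pq.left) (by simp [gN])
  let rO : Over.mk gN ⟶ G ⊗ X := Over.homMk (d ≫ pullback.fst Φ.left pq.left) (by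
    show (d ≫ pullback.fst Φ.left pq.left) ≫ (G ⊗ X).hom = d ≫ pullback.snd Φ.left pq.left ≫ T.hom
    rw [← Over.w Φ, ← Over.w pq, Category.assoc, pullback.condition_assoc])
  have hr : rO ≫ Φ = h ≫ pq := by
    apply Over.OverMorphism.ext
    show (d ≫ pullback.fst Φ.left pq.left) ≫ Φ.left = (d ≫ pullback.snd Φ.left pq.left) ≫ pq.left
    rw [Category.assoc, Category.assoc, pullback.condition]
  have h1 : rO ≫ a.act = h ≫ p := by
    have := congr($hr ≫ fst X X)
    simpa [Φ, pq] using this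
  have h2 : rO ≫ snd G X = h ≫ q := by
    have := congr($hr ≫ snd X X)
    simpa [Φ, pq] using this
  refine ⟨N, inferInstance, inferInstance, gN, h, rO ≫ fst G X, ?_, ?_⟩
  · rw [← h2, ← h1, psmul, ← comp_lift, lift_fst_snd, Category.comp_id]
  · intro s
    show (d ≫ pullback.snd Φ.left pq.left) s = t
    rw [Scheme.Hom.comp_apply, hd, hw]

include hΦ in
theorem psi_surjective {T : Over (Spec (CommRingCat.of k))} (x : T ⟶ X) (ζ : (X ⊗ T).left) :
    ∃ δ : (G ⊗ T).left, (Ψ a x).left δ = ζ := by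
  obtain ⟨N, _, _, c, hc⟩ := exists_geomPoint ζ
  let TN : Over (Spec (CommRingCat.of k)) := Over.mk (c ≫ (X ⊗ T).hom)
  let cO : TN ⟶ X ⊗ T := Over.homMk c rfl
  obtain ⟨N', _, _, gN', h', g, hg, -⟩ := exists_transporter a hΦ TN (cO ≫ fst X T)
    ((cO ≫ snd X T) ≫ x) (IsLocalRing.closedPoint N)
  refine ⟨(lift g⁻¹ (h' ≫ cO ≫ snd X T)).left (IsLocalRing.closedPoint N'), ?_⟩
  have e1 : lift g⁻¹ (h' ≫ cO ≫ snd X T) ≫ Ψ a x = h' ≫ cO := by
    rw [lift_Ψ, _root_.inv_inv]
    simp only [Category.assoc] at hg ⊢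
    apply CartesianMonoidalCategory.hom_ext
    · rw [lift_fst, Category.assoc, ← hg]
    · rw [lift_snd, Category.assoc]
  have := congr(($e1).left (IsLocalRing.closedPoint N'))
  rw [Over.comp_left, Over.comp_left, Scheme.Hom.comp_apply, Scheme.Hom.comp_apply] at this
  rw [this]
  exact hc _

end trans

section claimB
variable {k : Type u} [Field k] {G X : Over (Spec (CommRingCat.of k))} [GrpObj G]
  (a : AlgGrp.Action G X) (hΦ : Surjective (lift a.act (snd G X)).left)

include hΦ in
/-- the neutral component moves any point of a component into any open containing the generic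
point of that component. -/
theorem claimB (C0 : Set G.left) (hC0 : C0 ∈ irreducibleComponents G.left)
    (he : ∀ s, η[G].left s ∈ C0) (U : X.left.Opens) (x ξ : X.left) (hξU : ξ ∈ U)
    (hξ : closure {ξ} ∈ irreducibleComponents X.left) (hx : x ∈ closure {ξ}) :
    ∃ z : (G ⊗ X).left, (fst G X).left z ∈ C0 ∧ (snd G X).left z ∈ U ∧ a.act.left z = x := by
  -- step 1: a geometric point over x
  obtain ⟨K, _, _, cK, hcK⟩ := exists_geomPoint x
  let TK : Over (Spec (CommRingCat.of k)) := Over.mk (cK ≫ X.hom)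
  let xK : TK ⟶ X := Over.homMk cK rfl
  haveI : Subsingleton ↥TK.left := (inferInstance : Subsingleton (Spec (CommRingCat.of K)))
  haveI : IsIntegral TK.left := (inferInstance : IsIntegral (Spec (CommRingCat.of K)))
  obtain ⟨xs, hxs⟩ : ∃ xs : (X ⊗ TK).left,
    xs = (lift xK (𝟙 TK)).left (IsLocalRing.closedPoint K) := ⟨_, rfl⟩
  have hπxs : (fst X TK).left xs = x := by
    rw [hxs, ← Scheme.Hom.comp_apply, ← Over.comp_left, lift_fst]; exact hcK _
  -- step 2: a maximal point ζ above x
  have hZ' := irreducibleComponent_mem_irreducibleComponents xs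
  have hζg : IsGenericPoint hZ'.1.genericPoint (irreducibleComponent xs) :=
    hZ'.1.isGenericPoint_genericPoint isClosed_irreducibleComponent
  obtain ⟨ζ, hζdef⟩ : ∃ ζ, ζ = hZ'.1.genericPoint := ⟨_, rfl⟩
  rw [← hζdef] at hζg
  have hζmax : closure {ζ} ∈ irreducibleComponents (X ⊗ TK).left := by rw [hζg.def]; exact hZ'
  have hflatK : Flat (fst X TK).left := by
    have : Flat (cK ≫ X.hom) := inferInstance
    show Flat (pullback.fst X.hom (cK ≫ X.hom))
    infer_instance
  have hπζmax := max_of_generalizing (Scheme.Hom.continuous (fst X TK).left)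
    (Flat.generalizingMap _) hζmax
  have hπζ : (fst X TK).left ζ = ξ := by
    have h1 : (fst X TK).left ζ ⤳ x :=
      hπxs ▸ (hζg.specializes mem_irreducibleComponent).map (Scheme.Hom.continuous _)
    have h2 : x ∈ closure {(fst X TK).left ζ} := specializes_iff_mem_closure.mp h1
    have h3 := uniqueComp_X a hΦ x _ hπζmax _ hξ h2 hx
    have ha : IsGenericPoint ((fst X TK).left ζ) (closure {ξ}) := h3
    exact ha.eq isGenericPoint_closure
  -- step 3
  obtain ⟨δ, hδ⟩ := psi_surjective a hΦ xK ζ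
  -- step 4
  obtain ⟨L, _, _, cL, hcL⟩ := exists_geomPoint δ
  let TL : Over (Spec (CommRingCat.of k)) := Over.mk (cL ≫ (G ⊗ TK).hom)
  haveI : Subsingleton ↥TL.left := (inferInstance : Subsingleton (Spec (CommRingCat.of L)))
  haveI : IsIntegral TL.left := (inferInstance : IsIntegral (Spec (CommRingCat.of L)))
  haveI : IrreducibleSpace TL.left :=
    (inferInstance : IrreducibleSpace (Spec (CommRingCat.of L)))
  let dO : TL ⟶ G ⊗ TK := Over.homMk cL rfl
  let d : TL ⟶ G := dO ≫ fst G TK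
  let hLK : TL ⟶ TK := dO ≫ snd G TK
  let xL : TL ⟶ X := hLK ≫ xK
  have hxL : ∀ s, xL.left s = x := by
    intro s
    show (hLK.left ≫ cK) s = x
    rw [Scheme.Hom.comp_apply]; exact hcK _
  obtain ⟨ds, hds⟩ : ∃ ds : (G ⊗ TL).left,
    ds = (lift d (𝟙 TL)).left (IsLocalRing.closedPoint L) := ⟨_, rfl⟩
  have hρds : (G ◁ hLK).left ds = δ := by
    have e1 : lift d (𝟙 TL) ≫ (G ◁ hLK) = dO := by
      apply CartesianMonoidalCategory.hom_ext <;> simp [d, hLK]
    rw [hds, ← Scheme.Hom.comp_apply, ← Over.comp_left, e1]; exact hcL _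
  -- step 5
  have hDL : IsIrreducible ((G ◁ hLK).left ⁻¹' closure {δ}) :=
    isIrreducible_preimage_of_isPullback (M := K) (tower_sq G hLK) _ isClosed_closure
      isIrreducible_singleton.closure
  -- step 6
  have sqX := tower_sq X hLK
  have hsurjLK : Surjective hLK.left :=
    ⟨fun y => ⟨IsLocalRing.closedPoint L, Subsingleton.elim _ _⟩⟩
  have hsurjρ : Surjective (X ◁ hLK).left :=
    MorphismProperty.of_isPullback (P := @Surjective) sqX.flip hsurjLK
  obtain ⟨ζL, hζLmax, hζL⟩ := exists_max_over (Scheme.Hom.continuous (X ◁ hLK).left)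
    (X ◁ hLK).left.surjective hζmax
  -- step 7
  have sqΨ := psi_tower a hLK xK
  obtain ⟨g', hg'1, hg'2⟩ : ∃ g' : (G ⊗ TL).left,
      (G ◁ hLK).left g' = δ ∧ (Ψ a xL).left g' = ζL := by
    obtain ⟨z, hz1, hz2⟩ := Scheme.Pullback.exists_preimage_pullback
      (f := (Ψ a xK).left) (g := (X ◁ hLK).left) δ ζL (by rw [hδ, hζL])
    refine ⟨sqΨ.isoPullback.inv z, ?_, ?_⟩
    · rw [← Scheme.Hom.comp_apply, IsPullback.isoPullback_inv_fst]; exact hz1
    · rw [← Scheme.Hom.comp_apply, IsPullback.isoPullback_inv_snd]; exact hz2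
  -- step 8
  obtain ⟨S, hS⟩ : ∃ S : Set (G ⊗ TL).left,
    S = (rmul d).left '' ((G ◁ hLK).left ⁻¹' closure {δ}) := ⟨_, rfl⟩
  have hSirr : IsIrreducible S := hS ▸ hDL.image _ (Scheme.Hom.continuous _).continuousOn
  obtain ⟨es, hes⟩ : ∃ es : (G ⊗ TL).left,
    es = (lift (1 : TL ⟶ G) (𝟙 TL)).left (IsLocalRing.closedPoint L) := ⟨_, rfl⟩
  have hesS : es ∈ S := by
    rw [hS]
    refine ⟨ds, ?_, ?_⟩
    · show (G ◁ hLK).left ds ∈ closure {δ}
      rw [hρds]; exact subset_closure rfl
    · rw [hds, hes, ← Scheme.Hom.comp_apply, ← Over.comp_left, lift_rmul, mul_inv_cancel]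
  obtain ⟨g, hgdef⟩ : ∃ g, g = (rmul d).left g' := ⟨_, rfl⟩
  have hgS : g ∈ S := by
    rw [hS, hgdef]
    exact ⟨g', by show _ ∈ closure {δ}; rw [hg'1]; exact subset_closure rfl, rfl⟩
  have hfst : (fst G TL).left '' S ⊆ C0 := by
    have hirr : IsIrreducible ((fst G TL).left '' S) :=
      hSirr.image _ (Scheme.Hom.continuous _).continuousOn
    have hmem : η[G].left (IsLocalRing.closedPoint k) ∈ (fst G TL).left '' S := by
      refine ⟨es, hesS, ?_⟩
      rw [hes, ← Scheme.Hom.comp_apply, ← Over.comp_left, lift_fst, Hom.one_def, Over.comp_left,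
        Scheme.Hom.comp_apply]
      congr 1
      exact Subsingleton.elim (α := ↥(Spec (CommRingCat.of k))) _ _
    exact subset_of_uniqueComp (uniqueComp_all G _) hC0 (he _) hirr hmem
  -- step 9
  have hΨg : (Ψ a xL).left g = (tr a d).hom.left ζL := by
    rw [hgdef, ← Scheme.Hom.comp_apply, ← Over.comp_left, rmul_Ψ, Over.comp_left,
      Scheme.Hom.comp_apply, hg'2]
  have hmaxL' : closure {(tr a d).hom.left ζL} ∈ irreducibleComponents (X ⊗ TL).left := by
    let φ : (X ⊗ TL).left ≅ (X ⊗ TL).left := (Over.forget _).mapIso (tr a d)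
    exact max_of_generalizing (π := φ.hom) (Scheme.Hom.continuous _)
      (Scheme.homeoOfIso φ).isOpenEmbedding.generalizingMap hζLmax
  have hflatL : Flat (fst X TL).left := by
    have : Flat (cL ≫ (G ⊗ TK).hom) := inferInstance
    show Flat (pullback.fst X.hom (cL ≫ (G ⊗ TK).hom))
    infer_instance
  have hmaxX := max_of_generalizing (Scheme.Hom.continuous (fst X TL).left)
    (Flat.generalizingMap _) hmaxL'
  have hO : (Ψ a xL ≫ fst X TL).left '' S ⊆ closure {ξ} := by
    have hirr : IsIrreducible ((Ψ a xL ≫ fst X TL).left '' S) :=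
      hSirr.image _ (Scheme.Hom.continuous _).continuousOn
    have hmem : x ∈ (Ψ a xL ≫ fst X TL).left '' S := by
      refine ⟨es, hesS, ?_⟩
      have e1 : lift (1 : TL ⟶ G) (𝟙 TL) ≫ Ψ a xL ≫ fst X TL = xL := by
        rw [← Category.assoc, lift_Ψ, lift_fst, inv_one, one_psmul, Category.id_comp]
      rw [hes, ← Scheme.Hom.comp_apply, ← Over.comp_left, e1]
      exact hxL _
    exact subset_of_uniqueComp (uniqueComp_X a hΦ x) hξ hx hirr hmem
  have hπ : (fst X TL).left ((tr a d).hom.left ζL) = ξ := by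
    apply eq_of_max_of_mem hmaxX
    rw [← hΨg]
    apply hO
    exact ⟨g, hgS, by rw [Over.comp_left, Scheme.Hom.comp_apply]⟩
  -- step 10
  let ν : G ⊗ TL ⟶ G ⊗ X := lift (fst G TL) (Ψ a xL ≫ fst X TL)
  refine ⟨ν.left g, ?_, ?_, ?_⟩
  · rw [← Scheme.Hom.comp_apply, ← Over.comp_left, lift_fst]
    exact hfst ⟨g, hgS, rfl⟩
  · rw [← Scheme.Hom.comp_apply, ← Over.comp_left, lift_snd, Over.comp_left,
      Scheme.Hom.comp_apply, hΨg, hπ]
    exact hξU
  · have e0 : Ψ a xL ≫ fst X TL = psmul a (fst G TL)⁻¹ (snd G TL ≫ xL) := lift_fst _ _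
    have e1 : ν ≫ a.act = snd G TL ≫ xL := by
      rw [show ν ≫ a.act = psmul a (fst G TL) (Ψ a xL ≫ fst X TL) from rfl, e0, ← mul_psmul,
        mul_inv_cancel, one_psmul]
    rw [← Scheme.Hom.comp_apply, ← Over.comp_left, e1, Over.comp_left, Scheme.Hom.comp_apply]
    exact hxL _

end claimB

section sat
variable {B : Type*} [TopologicalSpace B]

/-- saturation: the union of the irreducible components meeting `S` -/
def sat (S : Set B) : Set B := {x | (irreducibleComponent x ∩ S).Nonempty}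

lemma subset_sat (S : Set B) : S ⊆ sat S := fun x hx => ⟨x, mem_irreducibleComponent, hx⟩

lemma sat_mono {S T : Set B} (h : S ⊆ T) : sat S ⊆ sat T := fun _ ⟨y, hy, hyS⟩ => ⟨y, hy, h hyS⟩

lemma sat_inter_sat_eq_empty {A C : Set B} (hA : IsOpen A) (hC : IsOpen C) (h : A ∩ C = ∅) :
    sat A ∩ sat C = ∅ := by
  rw [Set.eq_empty_iff_forall_notMem]
  rintro y ⟨⟨a, ha, haA⟩, ⟨b, hb, hbB⟩⟩
  obtain ⟨c, -, hcA, hcB⟩ := (isIrreducible_irreducibleComponent (x := y)).2 A C hA hC
    ⟨a, ha, haA⟩ ⟨b, hb, hbB⟩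
  have : c ∈ A ∩ C := ⟨hcA, hcB⟩
  rw [h] at this; exact this

lemma sat_subset_closure [QuasiSober B] {U : Set B} (hU : IsOpen U) : sat U ⊆ closure U := by
  rintro x ⟨s, hs, hsU⟩
  have hirr : IsIrreducible (irreducibleComponent x) := isIrreducible_irreducibleComponent
  have hgen : IsGenericPoint hirr.genericPoint (irreducibleComponent x) :=
    hirr.isGenericPoint_genericPoint isClosed_irreducibleComponent
  have h1 : hirr.genericPoint ∈ U := (hgen.specializes hs).mem_open hU hsU
  have h2 : x ∈ closure {hirr.genericPoint} := by rw [hgen.def]; exact mem_irreducibleComponent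
  exact closure_mono (Set.singleton_subset_iff.mpr h1) h2

end sat

section orb
variable {k : Type u} [Field k] {G X : Over (Spec (CommRingCat.of k))} [GrpObj G]
  (a : AlgGrp.Action G X) (hΦ : Surjective (lift a.act (snd G X)).left)
  (C0 : Set G.left) (hC0 : C0 ∈ irreducibleComponents G.left) (he : ∀ s, η[G].left s ∈ C0)

/-- `C⁰ · U`. -/
def orb (U : Set X.left) : Set X.left :=
  a.act.left '' {z : ↥(G ⊗ X).left | (fst G X).left z ∈ C0 ∧ (snd G X).left z ∈ U}

include hC0 he in
theorem isIrreducible_box (Z : Set X.left) (hZcl : IsClosed Z) (hZ : IsIrreducible Z) :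
    IsIrreducible ((fst G X).left ⁻¹' C0 ∩ (snd G X).left ⁻¹' Z) := by
  have hC0cl := isClosed_of_mem_irreducibleComponents C0 hC0
  let I := Scheme.IdealSheafData.vanishingIdeal ⟨C0, hC0cl⟩
  have hr : Set.range I.subschemeι = C0 := by
    rw [I.range_subschemeι]; simp [I]
  haveI : IrreducibleSpace I.subscheme :=
    irreducibleSpace_of_isInducing I.subschemeι.isEmbedding.isInducing (hr ▸ hC0.1)
  have hgi : GeometricallyIrreducible (I.subschemeι ≫ G.hom) :=
    Groth.Agent.S7517.result k G _ I.subschemeι (hr ▸ hC0) (hr ▸ he _)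
  obtain ⟨Zs, i, hi, _⟩ := exists_subscheme Z hZcl hZ
  have hirr : IrreducibleSpace ↥(pullback (I.subschemeι ≫ G.hom) (i ≫ X.hom)) := inferInstance
  let j := pullback.map (I.subschemeι ≫ G.hom) (i ≫ X.hom) G.hom X.hom I.subschemeι i (𝟙 _)
    (by simp) (by simp)
  have hj : Set.range j = pullback.fst G.hom X.hom ⁻¹' C0 ∩ pullback.snd G.hom X.hom ⁻¹' Z := by
    rw [Scheme.Pullback.range_map, hr, hi]
  show IsIrreducible (pullback.fst G.hom X.hom ⁻¹' C0 ∩ pullback.snd G.hom X.hom ⁻¹' Z)
  rw [← hj, ← Set.image_univ]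
  exact (IrreducibleSpace.isIrreducible_univ _).image _ (Scheme.Hom.continuous j).continuousOn

include hΦ hC0 he in
theorem claimA (z : ↥(G ⊗ X).left) (hz : (fst G X).left z ∈ C0) :
    a.act.left z ∈ irreducibleComponent ((snd G X).left z) := by
  obtain ⟨u, hu⟩ : ∃ u, u = (snd G X).left z := ⟨_, rfl⟩
  rw [← hu]
  have hZ := irreducibleComponent_mem_irreducibleComponents u
  have hbox := isIrreducible_box C0 hC0 he (irreducibleComponent u) isClosed_irreducibleComponent
    isIrreducible_irreducibleComponent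
  have hirr := hbox.image a.act.left (Scheme.Hom.continuous _).continuousOn
  let ι₀ : X ⟶ G ⊗ X := lift (toUnit X ≫ η[G]) (𝟙 X)
  have h1 : ι₀ ≫ a.act = 𝟙 X := by
    have := one_psmul a (𝟙 X)
    rwa [psmul, Hom.one_def] at this
  have hmem : u ∈ a.act.left '' ((fst G X).left ⁻¹' C0 ∩ (snd G X).left ⁻¹' irreducibleComponent u) := by
    refine ⟨ι₀.left u, ⟨?_, ?_⟩, ?_⟩
    · show (fst G X).left (ι₀.left u) ∈ C0
      rw [← Scheme.Hom.comp_apply, ← Over.comp_left, lift_fst, Over.comp_left,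
        Scheme.Hom.comp_apply]
      exact he _
    · show (snd G X).left (ι₀.left u) ∈ irreducibleComponent u
      rw [← Scheme.Hom.comp_apply, ← Over.comp_left, lift_snd]
      exact mem_irreducibleComponent
    · rw [← Scheme.Hom.comp_apply, ← Over.comp_left, h1]
      rfl
  have := subset_of_uniqueComp (uniqueComp_X a hΦ u) hZ mem_irreducibleComponent hirr hmem
  exact this ⟨z, ⟨hz, hu ▸ mem_irreducibleComponent⟩, rfl⟩

include hΦ hC0 he in
theorem orb_eq_sat (U : X.left.Opens) : orb a C0 (U : Set X.left) = sat (U : Set X.left) := by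
  apply Set.Subset.antisymm
  · rintro _ ⟨z, ⟨hz1, hz2⟩, rfl⟩
    have h1 := claimA a hΦ C0 hC0 he z hz1
    have h2 : irreducibleComponent (a.act.left z) = irreducibleComponent ((snd G X).left z) :=
      uniqueComp_X a hΦ (a.act.left z) _ (irreducibleComponent_mem_irreducibleComponents _) _
        (irreducibleComponent_mem_irreducibleComponents _) mem_irreducibleComponent h1
    exact ⟨(snd G X).left z, h2 ▸ mem_irreducibleComponent, hz2⟩
  · rintro x ⟨s, hs, hsU⟩
    have hirr : IsIrreducible (irreducibleComponent x) := isIrreducible_irreducibleComponent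
    have hgen : IsGenericPoint hirr.genericPoint (irreducibleComponent x) :=
      hirr.isGenericPoint_genericPoint isClosed_irreducibleComponent
    have h1 : hirr.genericPoint ∈ U := (hgen.specializes hs).mem_open U.isOpen hsU
    obtain ⟨z, hz1, hz2, hz3⟩ := claimB a hΦ C0 hC0 he U x hirr.genericPoint h1
      (by rw [hgen.def]; exact irreducibleComponent_mem_irreducibleComponents x)
      (by rw [hgen.def]; exact mem_irreducibleComponent)
    exact ⟨z, ⟨hz1, hz2⟩, hz3⟩

include hC0 in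
theorem isOpen_orb (U : X.left.Opens) : IsOpen (orb a C0 (U : Set X.left)) := by
  have hC0cl := isClosed_of_mem_irreducibleComponents C0 hC0
  let I := Scheme.IdealSheafData.vanishingIdeal ⟨C0, hC0cl⟩
  have hr : Set.range I.subschemeι = C0 := by
    rw [I.range_subschemeι]; simp [I]
  let j := pullback.map (I.subschemeι ≫ G.hom) X.hom G.hom X.hom I.subschemeι (𝟙 _) (𝟙 _)
    (by simp) (by simp)
  have hj : Set.range j = (fst G X).left ⁻¹' C0 := by
    have := Scheme.Pullback.range_map (I.subschemeι ≫ G.hom) X.hom G.hom X.hom I.subschemeι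
      (𝟙 _) (𝟙 _) (by simp) (by simp)
    rw [hr] at this
    rw [this]
    ext z
    simp
  let σ : (G ⊗ X).left ≅ (G ⊗ X).left := (Over.forget _).mapIso (shear a)
  have hσ1 : ∀ z, (fst G X).left (σ.hom z) = (fst G X).left z := by
    intro z
    have : (shear a).hom ≫ fst G X = fst G X := lift_fst _ _
    exact congr(($this).left z)
  have hσ2 : ∀ z, (snd G X).left (σ.hom z) = a.act.left z := by
    intro z
    exact congr(($(shear_hom_snd a)).left z)
  obtain ⟨Ω, hΩdef⟩ : ∃ Ω : Set (G ⊗ X).left, Ω = σ.hom '' ((snd G X).left ⁻¹' (U : Set X.left)) :=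
    ⟨_, rfl⟩
  have hΩ : IsOpen Ω := hΩdef ▸ (Scheme.homeoOfIso σ).isOpenMap _
    (U.isOpen.preimage (Scheme.Hom.continuous _))
  have hjs : j ≫ (snd G X).left = pullback.snd (I.subschemeι ≫ G.hom) X.hom := by
    show j ≫ pullback.snd G.hom X.hom = _
    rw [pullback.lift_snd, Category.comp_id]
  have hopen : IsOpenMap (j ≫ (snd G X).left) := by
    rw [hjs]
    have : UniversallyOpen (I.subschemeι ≫ G.hom) := inferInstance
    exact (pullback.snd (I.subschemeι ≫ G.hom) X.hom).isOpenMap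
  have key : orb a C0 (U : Set X.left) = (j ≫ (snd G X).left) '' (j ⁻¹' Ω) := by
    ext y
    constructor
    · rintro ⟨z, ⟨hz1, hz2⟩, rfl⟩
      obtain ⟨p, hp⟩ : σ.hom z ∈ Set.range j := by
        rw [hj]; show (fst G X).left (σ.hom z) ∈ C0
        rw [hσ1]; exact hz1
      refine ⟨p, ?_, ?_⟩
      · show j p ∈ Ω
        rw [hp, hΩdef]; exact ⟨z, hz2, rfl⟩
      · rw [Scheme.Hom.comp_apply, hp, hσ2]
    · rintro ⟨p, hp, rfl⟩
      rw [Set.mem_preimage, hΩdef] at hp
      obtain ⟨z, hz2, hz⟩ := hp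
      refine ⟨z, ⟨?_, hz2⟩, ?_⟩
      · rw [← hσ1, hz]
        have : j p ∈ Set.range j := ⟨p, rfl⟩
        rw [hj] at this; exact this
      · rw [← hσ2, hz, Scheme.Hom.comp_apply]
  rw [key]
  exact hopen _ (hΩ.preimage (Scheme.Hom.continuous j))

end orb

section closed
variable {k : Type u} [Field k] {G X : Over (Spec (CommRingCat.of k))} [GrpObj G]
  (a : AlgGrp.Action G X) (hΦ : Surjective (lift a.act (snd G X)).left)
  (C0 : Set G.left) (hC0 : C0 ∈ irreducibleComponents G.left) (he : ∀ s, η[G].left s ∈ C0)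

include hΦ hC0 he in
theorem isOpen_sat (U : X.left.Opens) : IsOpen (sat (U : Set X.left)) := by
  rw [← orb_eq_sat a hΦ C0 hC0 he U]; exact isOpen_orb a C0 hC0 U

include hΦ hC0 he in
theorem exists_open_disjoint_sat (U : X.left.Opens) (g : Γ(X.left, U)) {y : X.left} (hyU : y ∈ U)
    (hy : y ∉ sat (X.left.basicOpen g : Set X.left)) :
    ∃ O : Set X.left, IsOpen O ∧ y ∈ O ∧ O ∩ sat (X.left.basicOpen g : Set X.left) = ∅ := by
  have hirr : IsIrreducible (irreducibleComponent y) := isIrreducible_irreducibleComponent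
  have hcl : IsClosed (irreducibleComponent y) := isClosed_irreducibleComponent
  have hgen : IsGenericPoint hirr.genericPoint (irreducibleComponent y) :=
    hirr.isGenericPoint_genericPoint hcl
  have hγU : hirr.genericPoint ∈ U :=
    (hgen.mem_open_set_iff U.isOpen).mpr ⟨y, mem_irreducibleComponent, hyU⟩
  have hγg : hirr.genericPoint ∉ X.left.basicOpen g := fun h =>
    hy ⟨_, hgen.mem, h⟩
  have hmax : ∀ z, z ⤳ hirr.genericPoint → hirr.genericPoint ⤳ z :=
    Groth.Agent.Lib.Helper21.maximal_of_closure_singleton_mem_irreducibleComponents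
      (by rw [hgen.def]; exact irreducibleComponent_mem_irreducibleComponents y)
  obtain ⟨W, hγW, -, hWg⟩ :=
    Groth.Agent.Lib.Helper62.GrpComp.exists_open_disjoint_basicOpen hmax U hγU g hγg
  refine ⟨sat (W : Set X.left), isOpen_sat a hΦ C0 hC0 he W, ⟨_, hgen.mem, hγW⟩, ?_⟩
  exact sat_inter_sat_eq_empty W.isOpen (X.left.basicOpen g).isOpen hWg

include hΦ hC0 he in
theorem closure_subset_sat (U : X.left.Opens) (hU : IsRetrocompact (U : Set X.left)) :
    closure (U : Set X.left) ⊆ sat (U : Set X.left) := by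
  intro x hx
  by_contra hxV
  obtain ⟨U', hU', hxU', -⟩ := Opens.isBasis_iff_nbhd.mp X.left.isBasis_affineOpens
    (Opens.mem_top x)
  have hc : IsCompact ((U : Set X.left) ∩ (U' : Set X.left)) := hU hU'.isCompact U'.isOpen
  have hex : ∀ z (hz : z ∈ (U : Set X.left) ∩ (U' : Set X.left)), ∃ g : Γ(X.left, U'),
      X.left.basicOpen g ≤ U ∧ z ∈ X.left.basicOpen g := fun z hz =>
    hU'.exists_basicOpen_le (V := U) ⟨z, hz.1⟩ hz.2
  choose g hgV hzg using hex
  obtain ⟨t, ht⟩ := hc.elim_nhds_subcover'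
    (fun z hz => (X.left.basicOpen (g z hz) : Set X.left))
    (fun z hz => (X.left.basicOpen (g z hz)).isOpen.mem_nhds (hzg z hz))
  have hO : ∀ z : ↥((U : Set X.left) ∩ (U' : Set X.left)), ∃ O : Set X.left, IsOpen O ∧ x ∈ O ∧
      O ∩ sat (X.left.basicOpen (g z.1 z.2) : Set X.left) = ∅ := fun z =>
    exists_open_disjoint_sat a hΦ C0 hC0 he U' (g z.1 z.2) hxU'
      (fun h => hxV (sat_mono (hgV z.1 z.2) h))
  choose O hOo hxO hOd using hO
  have hopen : IsOpen ((U' : Set X.left) ∩ ⋂ z ∈ t, O z) :=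
    U'.isOpen.inter (isOpen_biInter_finset fun z _ => hOo z)
  have hxmem : x ∈ (U' : Set X.left) ∩ ⋂ z ∈ t, O z :=
    ⟨hxU', Set.mem_iInter₂.mpr fun z _ => hxO z⟩
  obtain ⟨v, ⟨hvU', hvO⟩, hvV⟩ := mem_closure_iff.mp hx _ hopen hxmem
  obtain ⟨z, hzt, hvz⟩ := Set.mem_iUnion₂.mp (ht ⟨hvV, hvU'⟩)
  have h1 : v ∈ O z := Set.mem_iInter₂.mp hvO z hzt
  have h2 : v ∈ sat (X.left.basicOpen (g z.1 z.2) : Set X.left) := subset_sat _ hvz
  have : v ∈ O z ∩ sat (X.left.basicOpen (g z.1 z.2) : Set X.left) := ⟨h1, h2⟩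
  rw [hOd z] at this; exact this

include hΦ in
theorem sat_eq_sUnion (U : X.left.Opens) : sat (U : Set X.left) =
    ⋃₀ {Z : Set X.left | Z ∈ irreducibleComponents ↥X.left ∧ ∃ ξ ∈ U, closure {ξ} = Z} := by
  ext x
  constructor
  · rintro ⟨s, hs, hsU⟩
    have hirr : IsIrreducible (irreducibleComponent x) := isIrreducible_irreducibleComponent
    have hgen : IsGenericPoint hirr.genericPoint (irreducibleComponent x) :=
      hirr.isGenericPoint_genericPoint isClosed_irreducibleComponent
    have h1 : hirr.genericPoint ∈ U := (hgen.specializes hs).mem_open U.isOpen hsU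
    exact ⟨irreducibleComponent x, ⟨irreducibleComponent_mem_irreducibleComponents x,
      hirr.genericPoint, h1, hgen.def⟩, mem_irreducibleComponent⟩
  · rintro ⟨Z, ⟨hZ, ξ, hξU, rfl⟩, hxZ⟩
    have := uniqueComp_X a hΦ x _ hZ _ (irreducibleComponent_mem_irreducibleComponents x) hxZ
      mem_irreducibleComponent
    exact ⟨ξ, this ▸ subset_closure rfl, hξU⟩

end closed

end Groth.Agent.Lib.Helper62.HomogComp
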