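import Groth.Agent.S19149
import Groth.Agent.Lib.Helper62.SmoothReg7

/-! Local Jacobian criterion for hypersurfaces in smooth algebras (helper62). -/

set_option linter.style.haveILetI false

universe u

open TensorProduct Function IsLocalRing KaehlerDifferential

noncomputable section

namespace Groth.Agent.Lib.Helper62.JacLoc

open Groth.Agent.Lib.Helper62.CotTCI Groth.Agent.Lib.Helper62.SmoothReg

section Local

variable (R A' B' : Type u) [CommRing R] [CommRing A'] [CommRing B']
    [Algebra R A'] [Algebra R B'] [Algebra A' B'] [IsScalarTower R A' B'] [IsLocalRing A']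
    [IsLocalRing B']
    [Algebra.FormallySmooth R A'] [Module.Free A' Ω[A'⁄R]] [Module.Finite A' Ω[A'⁄R]]

/-- Jacobian criterion for a local quotient `B' = A'/(g)` of a formally smooth local ring. -/
theorem formallySmooth_iff_of_ker_eq_span (h₁ : Surjective (algebraMap A' B')) (g : A')
    (hg : RingHom.ker (algebraMap A' B') = Ideal.span {g}) :
    Algebra.FormallySmooth R B' ↔
      g = 0 ∨ (1 : ResidueField B') ⊗ₜ[A'] D R A' g ≠ 0 := by
  have hsK : Surjective (algebraMap A' (ResidueField B')) := by
    rw [IsScalarTower.algebraMap_eq A' B' _]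
    exact residue_surjective.comp h₁
  have hgmem : g ∈ RingHom.ker (algebraMap A' B') := hg ▸ Ideal.mem_span_singleton_self g
  have hgK : algebraMap A' (ResidueField B') g = 0 := by
    rw [IsScalarTower.algebraMap_apply A' B' (ResidueField B'), hgmem, map_zero]
  have hfg : (RingHom.ker (algebraMap A' B')).FG := hg ▸ ⟨{g}, by simp⟩
  constructor
  · intro hfs
    by_contra hcon
    push Not at hcon
    obtain ⟨hg0, hD⟩ := hcon
    have hinj := (Algebra.FormallySmooth.iff_injective_cotangentComplexBaseChange_residueField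
      (R := R) A' h₁ hfg).mp hfs
    have h1 : cotangentComplexBaseChange R B' A' (ResidueField B')
        ((1 : ResidueField B') ⊗ₜ[A'] (⟨g, hgmem⟩ : RingHom.ker (algebraMap A' B'))) = 0 := by
      rw [cotangentComplexBaseChange_tmul, one_smul, kerToTensor_apply]
      exact hD
    have h2 := hinj (h1.trans (map_zero _).symm)
    have h3 := mem_smul_top_of_one_tmul_eq_zero hsK _ h2
    rw [Submodule.mem_smul_top_iff, IsLocalRing.ker_eq_maximalIdeal _ hsK] at h3
    change g ∈ maximalIdeal A' * RingHom.ker (algebraMap A' B') at h3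
    rw [hg, Ideal.mem_mul_span_singleton] at h3
    obtain ⟨z, hz, hzg⟩ := h3
    have hu : IsUnit (1 - z) := by
      by_contra hnu
      have : 1 - z ∈ maximalIdeal A' := (mem_maximalIdeal _).mpr hnu
      have h1 : (1 : A') ∈ maximalIdeal A' := by
        have := add_mem this hz
        rwa [sub_add_cancel] at this
      exact (Ideal.ne_top_iff_one _).mp (maximalIdeal.isMaximal A').ne_top h1
    apply hg0
    have : (1 - z) * g = 0 := by rw [sub_mul, one_mul, hzg, sub_self]
    exact (hu.mul_right_eq_zero).mp this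
  · rintro (hg0 | hD)
    · apply Groth.Agent.S19149.formallySmooth_of_forall_one_tmul R A' B' h₁ hfg
      intro j _
      have : j = 0 := by
        apply Subtype.ext
        have : (j : A') ∈ Ideal.span {g} := hg ▸ j.2
        rw [hg0, Ideal.mem_span_singleton'] at this
        obtain ⟨a, ha⟩ := this
        rw [← ha, mul_zero]
        rfl
      rw [this, TensorProduct.tmul_zero]
    · apply Groth.Agent.S19149.formallySmooth_of_forall_one_tmul R A' B' h₁ hfg
      intro j hj
      have hj2 : (j : A') ∈ Ideal.span {g} := hg ▸ j.2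
      rw [Ideal.mem_span_singleton'] at hj2
      obtain ⟨a, ha⟩ := hj2
      have hja : j = a • (⟨g, hgmem⟩ : RingHom.ker (algebraMap A' B')) := by
        apply Subtype.ext
        exact ha.symm
      rw [← ha, Derivation.leibniz, TensorProduct.tmul_add, TensorProduct.tmul_smul,
        TensorProduct.tmul_smul] at hj
      have e1 : g • ((1 : ResidueField B') ⊗ₜ[A'] D R A' a) = 0 := by
        rw [← algebraMap_smul (ResidueField B') g, hgK, zero_smul]
      rw [e1, add_zero] at hj
      have ha0 : algebraMap A' (ResidueField B') a = 0 := by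
        by_contra hne
        apply hD
        have := congrArg (fun z => (algebraMap A' (ResidueField B') a)⁻¹ • z) hj
        simp only [smul_zero] at this
        rw [← algebraMap_smul (ResidueField B') a, smul_smul, inv_mul_cancel₀ hne, one_smul] at this
        exact this
      rw [hja, TensorProduct.tmul_smul, ← algebraMap_smul (ResidueField B') a, ha0, zero_smul]

end Local

section Global

variable (R P : Type u) [CommRing R] [CommRing P] [Algebra R P] [Algebra.Smooth R P]
  (f : P) (𝔫 : Ideal (P ⧸ Ideal.span {f})) [𝔫.IsPrime]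

/-- Jacobian criterion for a hypersurface `P/(f)` in a smooth algebra at a prime `𝔫`. -/
theorem isSmoothAt_quotient_span_singleton_iff :
    Algebra.IsSmoothAt R 𝔫 ↔
      (algebraMap P (Localization.AtPrime (𝔫.comap (Ideal.Quotient.mk (Ideal.span {f})))) f = 0 ∨
        (1 : 𝔫.ResidueField) ⊗ₜ[P] D R P f ≠ 0) := by
  let P' : Ideal P := 𝔫.comap (Ideal.Quotient.mk (Ideal.span {f}))
  haveI : P'.IsPrime := Ideal.comap_isPrime _ _
  let φ : Localization.AtPrime P' →+* Localization.AtPrime 𝔫 :=
    Localization.localRingHom P' 𝔫 (Ideal.Quotient.mk (Ideal.span {f})) rfl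
  have hφ : Surjective φ :=
    RingHom.surjective_localRingHom_of_surjective (Ideal.Quotient.mk (Ideal.span {f}))
      Ideal.Quotient.mk_surjective 𝔫
  have hφmap : ∀ a : P, φ (algebraMap P (Localization.AtPrime P') a) =
      algebraMap (P ⧸ Ideal.span {f}) (Localization.AtPrime 𝔫) (Ideal.Quotient.mk (Ideal.span {f}) a) :=
    fun a => Localization.localRingHom_to_map P' 𝔫 (Ideal.Quotient.mk (Ideal.span {f})) rfl a
  letI : Algebra (Localization.AtPrime P') (Localization.AtPrime 𝔫) := φ.toAlgebra
  haveI : IsScalarTower P (Localization.AtPrime P') (Localization.AtPrime 𝔫) := by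
    refine IsScalarTower.of_algebraMap_eq fun a => ?_
    rw [IsScalarTower.algebraMap_apply P (P ⧸ Ideal.span {f}) (Localization.AtPrime 𝔫)]
    exact (hφmap a).symm
  haveI : IsScalarTower R (Localization.AtPrime P') (Localization.AtPrime 𝔫) := by
    refine IsScalarTower.of_algebraMap_eq fun r => ?_
    rw [IsScalarTower.algebraMap_apply R P (Localization.AtPrime P'),
      IsScalarTower.algebraMap_apply R (P ⧸ Ideal.span {f}) (Localization.AtPrime 𝔫),
      IsScalarTower.algebraMap_apply R P (P ⧸ Ideal.span {f})]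
    exact (hφmap _).symm
  haveI : IsScalarTower P (Localization.AtPrime 𝔫) 𝔫.ResidueField :=
    IsScalarTower.of_algebraMap_eq fun _ => rfl
  haveI : IsScalarTower P (Localization.AtPrime P') 𝔫.ResidueField :=
    IsScalarTower.to₁₂₄ P (Localization.AtPrime P') (Localization.AtPrime 𝔫) _
  have hker : ∀ j ∈ RingHom.ker (algebraMap (Localization.AtPrime P') (Localization.AtPrime 𝔫)),
      ∃ j₀ ∈ Ideal.span {f}, ∃ w ∈ P'.primeCompl,
        algebraMap P (Localization.AtPrime P') w * j = algebraMap P (Localization.AtPrime P') j₀ := by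
    intro j hj
    obtain ⟨⟨a, w⟩, h⟩ := IsLocalization.surj P'.primeCompl j
    have h0 : φ (algebraMap P (Localization.AtPrime P') a) = 0 := by
      rw [← h, map_mul]
      have : φ j = 0 := hj
      rw [this, zero_mul]
    rw [hφmap, IsLocalization.map_eq_zero_iff 𝔫.primeCompl] at h0
    obtain ⟨⟨v, hv⟩, hva⟩ := h0
    obtain ⟨v₀, rfl⟩ := Ideal.Quotient.mk_surjective v
    refine ⟨v₀ * a, ?_, v₀ * w, ?_, ?_⟩
    · rw [← Ideal.Quotient.eq_zero_iff_mem, map_mul]
      exact hva
    · exact P'.primeCompl.mul_mem hv w.2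
    · rw [map_mul, map_mul, mul_assoc, mul_comm _ j, h]
  have hkerle : (Ideal.span {f}).map (algebraMap P (Localization.AtPrime P')) ≤
      RingHom.ker (algebraMap (Localization.AtPrime P') (Localization.AtPrime 𝔫)) := by
    rw [Ideal.map_le_iff_le_comap]
    intro x hx
    change φ (algebraMap P (Localization.AtPrime P') x) = 0
    rw [hφmap, Ideal.Quotient.eq_zero_iff_mem.mpr hx, map_zero]
  have hkereq : RingHom.ker (algebraMap (Localization.AtPrime P') (Localization.AtPrime 𝔫)) =
      Ideal.span {algebraMap P (Localization.AtPrime P') f} := by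
    rw [← Set.image_singleton, ← Ideal.map_span]
    refine le_antisymm ?_ hkerle
    intro j hj
    obtain ⟨j₀, hj₀, w, hw, hjw⟩ := hker j hj
    have hu : IsUnit (algebraMap P (Localization.AtPrime P') w) :=
      IsLocalization.map_units _ (⟨w, hw⟩ : P'.primeCompl)
    have : j = ↑hu.unit⁻¹ * algebraMap P (Localization.AtPrime P') j₀ := by
      rw [← hjw, ← mul_assoc, IsUnit.val_inv_mul, one_mul]
    rw [this]
    exact Ideal.mul_mem_left _ _ (Ideal.mem_map_of_mem _ hj₀)
  haveI : Algebra.EssFiniteType R (Localization.AtPrime P') :=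
    Algebra.EssFiniteType.comp R P (Localization.AtPrime P')
  haveI : Module.Free (Localization.AtPrime P') Ω[Localization.AtPrime P'⁄R] :=
    Module.free_of_flat_of_isLocalRing
  change Algebra.FormallySmooth R (Localization.AtPrime 𝔫) ↔ _
  rw [formallySmooth_iff_of_ker_eq_span R (Localization.AtPrime P') (Localization.AtPrime 𝔫) hφ _
    hkereq]
  refine or_congr Iff.rfl (not_congr ?_)
  have e1 : (LinearEquiv.lTensor 𝔫.ResidueField
      (tensorKaehlerEquivOfFormallyEtale R P (Localization.AtPrime P')).symm)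
      ((1 : 𝔫.ResidueField) ⊗ₜ[Localization.AtPrime P']
        D R (Localization.AtPrime P') (algebraMap P (Localization.AtPrime P') f)) =
      (1 : 𝔫.ResidueField) ⊗ₜ[Localization.AtPrime P']
        ((1 : Localization.AtPrime P') ⊗ₜ[P] D R P f) := by
    rw [LinearEquiv.lTensor_tmul, tensorKaehlerEquivOfFormallyEtale_symm_D_algebraMap]
  rw [← LinearEquiv.map_eq_zero_iff (LinearEquiv.lTensor 𝔫.ResidueField
      (tensorKaehlerEquivOfFormallyEtale R P (Localization.AtPrime P')).symm), e1,
    ← LinearEquiv.map_eq_zero_iff (AlgebraTensorModule.cancelBaseChange P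
      (Localization.AtPrime P') 𝔫.ResidueField 𝔫.ResidueField Ω[P⁄R]),
    AlgebraTensorModule.cancelBaseChange_tmul, one_smul]

end Global

section GlobalMax

variable (R P : Type u) [CommRing R] [CommRing P] [Algebra R P] [Algebra.Smooth R P]
  (f : P) (𝔫 : Ideal (P ⧸ Ideal.span {f})) [𝔫.IsMaximal]

omit [Algebra.Smooth R P] in
theorem one_tmul_eq_zero_iff_mem_smul_top {N : Type*} [AddCommGroup N] [Module P N] (ω : N) :
    (1 : 𝔫.ResidueField) ⊗ₜ[P] ω = 0 ↔
      ω ∈ (𝔫.comap (Ideal.Quotient.mk (Ideal.span {f}))) • (⊤ : Submodule P N) := by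
  have hcomp : algebraMap P 𝔫.ResidueField =
      (algebraMap (P ⧸ Ideal.span {f}) 𝔫.ResidueField).comp (Ideal.Quotient.mk (Ideal.span {f})) :=
    RingHom.ext fun _ => rfl
  have hsK : Surjective (algebraMap P 𝔫.ResidueField) := by
    rw [hcomp]
    exact (Ideal.algebraMap_residueField_surjective 𝔫).comp Ideal.Quotient.mk_surjective
  have hker : RingHom.ker (algebraMap P 𝔫.ResidueField) =
      𝔫.comap (Ideal.Quotient.mk (Ideal.span {f})) := by
    rw [hcomp, ← RingHom.comap_ker, Ideal.ker_algebraMap_residueField]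
  constructor
  · intro h
    rw [← hker]
    exact mem_smul_top_of_one_tmul_eq_zero hsK ω h
  · intro h
    rw [← hker] at h
    exact one_tmul_eq_zero_of_mem (K := 𝔫.ResidueField) ω h

/-- Jacobian criterion for a hypersurface `P/(f)` in a smooth algebra at a maximal ideal. -/
theorem isSmoothAt_quotient_span_singleton_iff_of_isMaximal :
    Algebra.IsSmoothAt R 𝔫 ↔
      (algebraMap P (Localization.AtPrime (𝔫.comap (Ideal.Quotient.mk (Ideal.span {f})))) f = 0 ∨
        D R P f ∉ (𝔫.comap (Ideal.Quotient.mk (Ideal.span {f}))) •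
          (⊤ : Submodule P Ω[P⁄R])) := by
  rw [isSmoothAt_quotient_span_singleton_iff]
  exact or_congr Iff.rfl (not_congr (one_tmul_eq_zero_iff_mem_smul_top P f 𝔫 _))

end GlobalMax

section Max

/-- a finitely presented algebra is formally smooth as soon as it is at all maximal ideals. -/
theorem formallySmooth_of_forall_isMaximal (R S : Type u) [CommRing R] [CommRing S] [Algebra R S]
    [Algebra.FinitePresentation R S]
    (h : ∀ (m : Ideal S) [m.IsMaximal], Algebra.IsSmoothAt R m) : Algebra.FormallySmooth R S := by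
  rw [← Algebra.smoothLocus_eq_univ_iff, Set.eq_univ_iff_forall]
  intro p
  obtain ⟨m, hm, hpm⟩ := Ideal.exists_le_maximal p.asIdeal p.2.ne_top
  have h1 : (⟨m, hm.isPrime⟩ : PrimeSpectrum S) ∈ Algebra.smoothLocus R S := h m
  have h2 : p ⤳ ⟨m, hm.isPrime⟩ := (PrimeSpectrum.le_iff_specializes _ _).mp hpm
  exact h2.mem_open Algebra.isOpen_smoothLocus h1

end Max

section NZ

/-- nonzerodivisors stay nonzero in the local rings. -/
theorem algebraMap_ne_zero_of_mem_nonZeroDivisors {P : Type*} [CommRing P] (q : Ideal P)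
    [q.IsPrime] (f : P) (hf : f ∈ nonZeroDivisors P) :
    algebraMap P (Localization.AtPrime q) f ≠ 0 := by
  intro h0
  rw [IsLocalization.map_eq_zero_iff q.primeCompl] at h0
  obtain ⟨⟨w, hw⟩, hwf⟩ := h0
  have : w = 0 := (mul_right_mem_nonZeroDivisors_eq_zero_iff hf).mp hwf
  exact hw (this ▸ q.zero_mem)

/-- in a noetherian ring whose local rings are domains, an irreducible element is nonzero in the
local ring of every prime (it is in fact a nonzerodivisor). -/
theorem algebraMap_ne_zero_of_irreducible (A : Type*) [CommRing A] [IsNoetherianRing A]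
    (hdom : ∀ (m : Ideal A) [m.IsMaximal], IsDomain (Localization.AtPrime m))
    (s : A) (hs : Irreducible s) (p : Ideal A) [p.IsPrime] :
    algebraMap A (Localization.AtPrime p) s ≠ 0 := by
  intro h0
  rw [IsLocalization.map_eq_zero_iff p.primeCompl] at h0
  obtain ⟨⟨w, hw⟩, hws⟩ := h0
  change w * s = 0 at hws
  let 𝔞 : Ideal A := (Ideal.span {s}).annihilator
  let 𝔟 : Ideal A := Submodule.annihilator 𝔞
  have hmem𝔞 : ∀ a, a ∈ 𝔞 ↔ a * s = 0 := fun a =>
    Submodule.mem_annihilator_span_singleton s a
  have hsup : 𝔞 ⊔ 𝔟 = ⊤ := by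
    by_contra hne
    obtain ⟨m, hm, hle⟩ := Ideal.exists_le_maximal _ hne
    haveI := hdom m
    by_cases hsm : algebraMap A (Localization.AtPrime m) s = 0
    · rw [IsLocalization.map_eq_zero_iff m.primeCompl] at hsm
      obtain ⟨⟨u, hu⟩, hus⟩ := hsm
      exact hu (hle (Ideal.mem_sup_left ((hmem𝔞 u).mpr hus)))
    · have hex : ∀ a ∈ 𝔞, ∃ u, u ∉ m ∧ u * a = 0 := by
        intro a ha
        have h1 : algebraMap A (Localization.AtPrime m) a *
            algebraMap A (Localization.AtPrime m) s = 0 := by
          rw [← map_mul, (hmem𝔞 a).mp ha, map_zero]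
        have h2 : algebraMap A (Localization.AtPrime m) a = 0 :=
          (mul_eq_zero.mp h1).resolve_right hsm
        rw [IsLocalization.map_eq_zero_iff m.primeCompl] at h2
        obtain ⟨⟨u, hu⟩, hua⟩ := h2
        exact ⟨u, hu, hua⟩
      obtain ⟨T, hT⟩ := (IsNoetherian.noetherian 𝔞 : 𝔞.FG)
      have hTmem : ∀ t ∈ T, t ∈ 𝔞 := fun t ht => hT ▸ Ideal.subset_span ht
      choose! u hu using hex
      have hUm : (∏ t ∈ T, u t) ∉ m := by
        rw [Ideal.IsPrime.prod_mem_iff]
        rintro ⟨t, ht, htm⟩
        exact (hu t (hTmem t ht)).1 htm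
      have hU𝔟 : (∏ t ∈ T, u t) ∈ 𝔟 := by
        change _ ∈ Submodule.annihilator 𝔞
        rw [← hT]
        rw [Submodule.mem_annihilator_span]
        rintro ⟨t, ht⟩
        obtain ⟨c, hc⟩ := Finset.dvd_prod_of_mem u ht
        change (∏ t ∈ T, u t) * t = 0
        rw [hc, mul_comm (u t), mul_assoc, (hu t (hTmem t ht)).2, mul_zero]
      exact hUm (hle (Ideal.mem_sup_right hU𝔟))
  have h1 : (1 : A) ∈ 𝔞 ⊔ 𝔟 := hsup ▸ Submodule.mem_top
  obtain ⟨α, hα, β, hβ, hαβ⟩ := Submodule.mem_sup.mp h1
  have hsβ : s = β * s := by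
    have : (α + β) * s = s := by rw [hαβ, one_mul]
    rw [add_mul, (hmem𝔞 α).mp hα, zero_add] at this
    exact this.symm
  have hβu : IsUnit β := (hs.isUnit_or_isUnit hsβ).resolve_right hs.not_isUnit
  have hβw : β * w = 0 := (Submodule.mem_annihilator.mp hβ) w ((hmem𝔞 w).mpr hws)
  have hw0 : w = 0 := (hβu.mul_right_eq_zero).mp hβw
  exact hw (hw0 ▸ p.zero_mem)

/-- maximal ideals correspond under surjections. -/
theorem exists_isMaximal_comap_eq {S S' : Type*} [CommRing S] [CommRing S'] (π : S →+* S')
    (hπ : Surjective π) (M : Ideal S) [hM : M.IsMaximal] (hker : RingHom.ker π ≤ M) :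
    ∃ m : Ideal S', m.IsMaximal ∧ m.comap π = M := by
  have hcomap : (M.map π).comap π = M := by
    rw [Ideal.comap_map_of_surjective π hπ]
    exact sup_eq_left.mpr hker
  refine ⟨M.map π, ?_, hcomap⟩
  refine (Ideal.map_eq_top_or_isMaximal_of_surjective π hπ hM).resolve_left ?_
  intro htop
  rw [htop, Ideal.comap_top] at hcomap
  exact hM.ne_top hcomap.symm

end NZ

end Groth.Agent.Lib.Helper62.JacLoc

end
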