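import Mathlib
import Groth.Agent.Lib.Helper62.BCStalk

/-! Sections of a fibre product `X ×_k Y` over products of affine opens (helper62). -/

set_option autoImplicit false
set_option linter.style.haveILetI false

universe u

open CategoryTheory CategoryTheory.Limits AlgebraicGeometry TensorProduct

noncomputable section

namespace Groth.Agent.Lib.Helper62.ProdStalk

variable {k : Type u} [CommRing k] {X Y : Scheme.{u}} (f : X ⟶ Spec (CommRingCat.of k))
  (g : Y ⟶ Spec (CommRingCat.of k))

/-- the open `pr₁⁻¹ U ∩ pr₂⁻¹ V` of the fibre product. -/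
abbrev box (U : X.Opens) (V : Y.Opens) : (pullback f g).Opens :=
  (pullback.fst f g) ⁻¹ᵁ U ⊓ (pullback.snd f g) ⁻¹ᵁ V

variable {f g}

theorem isAffineOpen_box {U : X.Opens} (hU : IsAffineOpen U) {V : Y.Opens} (hV : IsAffineOpen V) :
    IsAffineOpen (box f g U V) := by
  have H : IsPullback (pullback.fst f g) (pullback.snd f g) f g := IsPullback.of_hasPullback _ _
  have : IsAffine _ := isAffineOpen_top (Spec (CommRingCat.of k))
  have : IsAffine _ := hU
  have : IsAffine _ := hV
  exact .of_isIso (Scheme.Hom.isPullback_resLE H (US := ⊤) (UT := V) (UX := U) le_top le_top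
    rfl).isoPullback.hom

theorem isPushout_sections {U : X.Opens} (hU : IsAffineOpen U) {V : Y.Opens}
    (hV : IsAffineOpen V) :
    IsPushout (CommRingCat.ofHom (BCStalk.toSection f U)) (CommRingCat.ofHom (BCStalk.toSection g V))
      ((pullback.fst f g).appLE U (box f g U V) inf_le_left)
      ((pullback.snd f g).appLE V (box f g U V) inf_le_right) := by
  have H : IsPullback (pullback.fst f g) (pullback.snd f g) f g := IsPullback.of_hasPullback _ _
  have h1 := isIso_pushoutSection_of_isAffineOpen H (US := ⊤) (UT := V) (UX := U) le_top le_top rfl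
    (isAffineOpen_top _) hV hU
  rw [isIso_pushoutSection_iff] at h1
  refine IsPushout.of_iso h1 (Scheme.ΓSpecIso (CommRingCat.of k)) (Iso.refl _)
    (Iso.refl _) (Iso.refl _) ?_ ?_ ?_ ?_
  · simp [BCStalk.toSection]
  · simp [BCStalk.toSection]
  · simp
  · simp

/-- sections of the fibre product over a box of affine opens are a tensor product. -/
theorem exists_ringEquiv_sections {U : X.Opens} (hU : IsAffineOpen U) {V : Y.Opens}
    (hV : IsAffineOpen V) :
    letI := (BCStalk.toSection f U).toAlgebra
    letI := (BCStalk.toSection g V).toAlgebra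
    ∃ φ : Γ(X, U) ⊗[k] Γ(Y, V) ≃+* Γ(pullback f g, box f g U V),
      (∀ a : Γ(X, U), φ (a ⊗ₜ 1) =
        ((pullback.fst f g).appLE U (box f g U V) inf_le_left).hom a) ∧
      (∀ b : Γ(Y, V), φ (1 ⊗ₜ b) =
        ((pullback.snd f g).appLE V (box f g U V) inf_le_right).hom b) := by
  have h := isPushout_sections (f := f) (g := g) hU hV
  letI : Algebra k Γ(X, U) := (BCStalk.toSection f U).toAlgebra
  letI : Algebra k Γ(Y, V) := (BCStalk.toSection g V).toAlgebra
  letI : Algebra Γ(X, U) Γ(pullback f g, box f g U V) :=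
    ((pullback.fst f g).appLE U (box f g U V) inf_le_left).hom.toAlgebra
  letI : Algebra Γ(Y, V) Γ(pullback f g, box f g U V) :=
    ((pullback.snd f g).appLE V (box f g U V) inf_le_right).hom.toAlgebra
  letI : Algebra k Γ(pullback f g, box f g U V) :=
    ((algebraMap Γ(X, U) Γ(pullback f g, box f g U V)).comp (algebraMap k Γ(X, U))).toAlgebra
  haveI : IsScalarTower k Γ(X, U) Γ(pullback f g, box f g U V) :=
    IsScalarTower.of_algebraMap_eq fun _ => rfl
  haveI : IsScalarTower k Γ(Y, V) Γ(pullback f g, box f g U V) := by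
    refine IsScalarTower.of_algebraMap_eq fun c => ?_
    have := congr($(h.w).hom c)
    exact this
  have h2 : Algebra.IsPushout k Γ(X, U) Γ(Y, V) Γ(pullback f g, box f g U V) :=
    CommRingCat.isPushout_iff_isPushout.mp h
  refine ⟨(Algebra.IsPushout.equiv k Γ(X, U) Γ(Y, V)
    Γ(pullback f g, box f g U V)).toRingEquiv, ?_, ?_⟩
  · intro a
    change Algebra.IsPushout.equiv k Γ(X, U) Γ(Y, V) Γ(pullback f g, box f g U V) (a ⊗ₜ 1) = _
    rw [Algebra.IsPushout.equiv_tmul, map_one, mul_one]
    rfl
  · intro b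
    change Algebra.IsPushout.equiv k Γ(X, U) Γ(Y, V) Γ(pullback f g, box f g U V) (1 ⊗ₜ b) = _
    rw [Algebra.IsPushout.equiv_tmul, map_one, one_mul]
    rfl

end Groth.Agent.Lib.Helper62.ProdStalk
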