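import Groth.Agent.Lib.Helper62.CotTCI2
import Mathlib.RingTheory.Ideal.Cotangent

/-! Tensoring the inclusion of ideals `J ≤ n` with `T/n` (helper62). -/

universe u

open TensorProduct Function

noncomputable section

namespace Groth.Agent.Lib.Helper62.SmoothReg

open Groth.Agent.Lib.Helper62.CotTCI

section G

variable {T : Type*} {K : Type*} [CommRing T] [CommRing K] [Algebra T K]
  (hs : Surjective (algebraMap T K))

lemma one_tmul_eq_zero_of_mem {N : Type*} [AddCommGroup N] [Module T N] (x : N)
    (hx : x ∈ (RingHom.ker (algebraMap T K)) • (⊤ : Submodule T N)) :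
    (1 : K) ⊗ₜ[T] x = 0 := by
  have : (RingHom.ker (algebraMap T K)) • (⊤ : Submodule T N) ≤
      LinearMap.ker (TensorProduct.mk T K N 1) := by
    rw [Submodule.smul_le]
    intro r hr n _
    simp only [LinearMap.mem_ker, map_smul, TensorProduct.mk_apply]
    rw [TensorProduct.smul_tmul', Algebra.smul_def, mul_one]
    have : algebraMap T K r = 0 := hr
    rw [this, TensorProduct.zero_tmul]
  exact this hx

include hs in
/-- for ideals `J ≤ n` with `K = T/n`: `K ⊗ J → K ⊗ n` is injective iff `J ∩ n² ⊆ nJ`. -/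
lemma injective_lTensor_inclusion_iff (J : Ideal T)
    (hJ : J ≤ RingHom.ker (algebraMap T K)) :
    Injective (LinearMap.lTensor K (Submodule.inclusion hJ)) ↔
      ∀ j ∈ J, j ∈ RingHom.ker (algebraMap T K) * RingHom.ker (algebraMap T K) →
        j ∈ RingHom.ker (algebraMap T K) * J := by
  constructor
  · intro hinj j hj hj2
    have h1 : (Submodule.inclusion hJ ⟨j, hj⟩) ∈ (RingHom.ker (algebraMap T K)) •
        (⊤ : Submodule T (RingHom.ker (algebraMap T K))) := by
      rw [Submodule.mem_smul_top_iff]
      exact hj2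
    have h2 := one_tmul_eq_zero_of_mem (K := K) _ h1
    have h3 : LinearMap.lTensor K (Submodule.inclusion hJ) ((1 : K) ⊗ₜ[T] (⟨j, hj⟩ : J)) = 0 := by
      rw [LinearMap.lTensor_tmul]
      exact h2
    have h4 := hinj (h3.trans (map_zero _).symm)
    have h5 := mem_smul_top_of_one_tmul_eq_zero hs (⟨j, hj⟩ : J) h4
    rw [Submodule.mem_smul_top_iff] at h5
    exact h5
  · intro h
    rw [injective_iff_map_eq_zero]
    intro z hz
    obtain ⟨j, rfl⟩ := exists_one_tmul' hs z
    rw [LinearMap.lTensor_tmul] at hz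
    have h1 := mem_smul_top_of_one_tmul_eq_zero hs _ hz
    rw [Submodule.mem_smul_top_iff] at h1
    have h2 := h j.1 j.2 h1
    apply one_tmul_eq_zero_of_mem
    rw [Submodule.mem_smul_top_iff]
    exact h2

end G

end Groth.Agent.Lib.Helper62.SmoothReg

end
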