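import Groth.Agent.Lib.Helper62.SmoothReg1
import Groth.Agent.Lib.Helper98.FixedReg
import Groth.Agent.S0561

/-! Quotients of regular local rings: `T/J` is regular iff `J ∩ 𝔪² ⊆ 𝔪J` (helper62). -/

universe u

open TensorProduct Function IsLocalRing

noncomputable section

namespace Groth.Agent.Lib.Helper62.SmoothReg

section Minimal

variable {T : Type u} [CommRing T] [IsLocalRing T] [IsNoetherianRing T]

omit [IsNoetherianRing T] in
/-- relations among a minimal system of generators of the maximal ideal have coefficients in the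
maximal ideal. -/
lemma coeff_mem_of_minimal {d : ℕ} (x : Fin d → T)
    (hx : Ideal.span (Set.range x) = maximalIdeal T) (hd : (maximalIdeal T).spanFinrank = d)
    (a : Fin d → T) (ha : ∑ i, a i * x i = 0) (j : Fin d) : a j ∈ maximalIdeal T := by
  by_contra hj
  have hu : IsUnit (a j) := IsLocalRing.notMem_maximalIdeal.mp hj
  obtain ⟨u, hu⟩ := hu
  set s : Set T := x '' {i | i ≠ j} with hs
  have hsfin : s.Finite := (Set.toFinite _).image _
  have hmem : ∀ i, i ≠ j → x i ∈ Ideal.span s := fun i hi =>
    Ideal.subset_span ⟨i, hi, rfl⟩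
  have h1 : a j * x j + ∑ k ∈ Finset.univ.erase j, a k * x k = 0 := by
    rw [Finset.add_sum_erase _ (fun k => a k * x k) (Finset.mem_univ j)]
    exact ha
  have h2 : x j = -(∑ k ∈ Finset.univ.erase j, a k * x k) * (↑u⁻¹ : T) := by
    have h3 : a j * x j = -(∑ k ∈ Finset.univ.erase j, a k * x k) :=
      eq_neg_of_add_eq_zero_left h1
    rw [← h3, ← hu, mul_comm (↑u : T) (x j), mul_assoc, Units.mul_inv, mul_one]
  have hxj : x j ∈ Ideal.span s := by
    rw [h2]
    refine Ideal.mul_mem_right _ _ ((Ideal.neg_mem_iff _).mpr ?_)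
    refine Ideal.sum_mem _ fun k hk => ?_
    exact Ideal.mul_mem_left _ _ (hmem k (Finset.ne_of_mem_erase hk))
  have hspan : Ideal.span s = maximalIdeal T := by
    apply le_antisymm
    · rw [← hx]
      exact Ideal.span_mono (Set.image_subset_range _ _)
    · rw [← hx, Ideal.span_le]
      rintro _ ⟨i, rfl⟩
      by_cases hi : i = j
      · rw [hi]; exact hxj
      · exact hmem i hi
  have h4 : (maximalIdeal T).spanFinrank ≤ s.ncard := by
    rw [← hspan]
    exact Submodule.spanFinrank_span_le_ncard_of_finite hsfin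
  have h5 : s.ncard ≤ ({i | i ≠ j} : Set (Fin d)).ncard := Set.ncard_image_le (Set.toFinite _)
  have h6 : ({i | i ≠ j} : Set (Fin d)).ncard = d - 1 := by
    have : ({i | i ≠ j} : Set (Fin d)) = ({j} : Set (Fin d))ᶜ := by
      ext i; simp
    rw [this, Set.ncard_compl, Set.ncard_singleton, Nat.card_fin]
  have hdpos : 0 < d := Fin.pos j
  omega

end Minimal

section R2

variable (T : Type u) [CommRing T] [IsRegularLocalRing T]

/-- if `T` and `T/J` are regular local rings then `J ∩ 𝔪² ⊆ 𝔪J`. -/
theorem mem_mul_of_isRegularLocalRing_quotient (J : Ideal T) [IsRegularLocalRing (T ⧸ J)]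
    (j : T) (hj : j ∈ J) (hj2 : j ∈ maximalIdeal T * maximalIdeal T) :
    j ∈ maximalIdeal T * J := by
  set d := (maximalIdeal T).spanFinrank with hd
  have hdim : ringKrullDim T = d := IsRegularLocalRing.spanFinrank_maximalIdeal.symm
  obtain ⟨x, c, hc, hx, hJ⟩ := Groth.Agent.S0561.result T d hdim J
  -- write `j` in terms of the first `c` generators
  rw [hJ] at hj
  obtain ⟨a, ha⟩ := (Ideal.mem_span_range_iff_exists_fun).mp hj
  -- write `j` as a combination with coefficients in the maximal ideal
  rw [← hx] at hj2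
  nth_rewrite 1 [hx] at hj2
  have hj2' : j ∈ maximalIdeal T • Ideal.span (Set.range x) := hj2
  rw [Submodule.mem_ideal_smul_span_iff_exists_sum] at hj2'
  obtain ⟨b, hb, hbj⟩ := hj2'
  -- the extended coefficient vector
  let a' : Fin d → T := fun i => if h : (i : ℕ) < c then a ⟨i, h⟩ else 0
  have ha'e : ∀ i : Fin c, a' (Fin.castLE hc i) = a i := by
    intro i
    have : ((Fin.castLE hc i : Fin d) : ℕ) < c := i.2
    simp only [a', this, dif_pos]
    rfl
  have ha'0 : ∀ i : Fin d, ¬ (i : ℕ) < c → a' i = 0 := by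
    intro i hi
    simp only [a', hi, dif_neg, not_false_eq_true]
  have ha' : ∑ i, a' i * x i = j := by
    rw [← ha]
    have h1 : ∑ i ∈ (Finset.univ : Finset (Fin c)).map (Fin.castLEEmb hc), a' i * x i =
        ∑ i : Fin d, a' i * x i := by
      apply Finset.sum_subset (Finset.subset_univ _)
      intro i _ hi
      have : ¬ (i : ℕ) < c := by
        intro hlt
        apply hi
        rw [Finset.mem_map]
        exact ⟨⟨i, hlt⟩, Finset.mem_univ _, Fin.ext rfl⟩
      rw [ha'0 i this, zero_mul]
    rw [← h1, Finset.sum_map]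
    apply Finset.sum_congr rfl
    intro i _
    rw [Fin.castLEEmb_apply, ha'e]
  -- relation with coefficients `a' - b`
  have hrel : ∑ i, (a' i - b i) * x i = 0 := by
    have hb' : ∑ i, b i * x i = j := by
      rw [← hbj, Finsupp.sum_fintype _ _ (by simp)]
      exact Finset.sum_congr rfl fun i _ => (smul_eq_mul _ _).symm
    simp only [sub_mul, Finset.sum_sub_distrib, ha', hb', sub_self]
  have hmem : ∀ i, a' i ∈ maximalIdeal T := by
    intro i
    have := coeff_mem_of_minimal x hx rfl _ hrel i
    have h2 := Ideal.add_mem _ this (hb i)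
    rwa [sub_add_cancel] at h2
  rw [← ha]
  refine Ideal.sum_mem _ fun i _ => ?_
  refine Ideal.mul_mem_mul ?_ ?_
  · rw [← ha'e]; exact hmem _
  · rw [hJ]
    exact Ideal.subset_span ⟨i, rfl⟩

end R2

end Groth.Agent.Lib.Helper62.SmoothReg

end
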