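import Groth.Agent.Lib.Helper62.SmoothReg3
import Mathlib.RingTheory.Smooth.Local

/-! Local criterion: quotient of a formally smooth regular local ring with formally smooth residue
field is formally smooth iff regular (helper62). -/

universe u

open TensorProduct Function IsLocalRing KaehlerDifferential

noncomputable section

namespace Groth.Agent.Lib.Helper62.SmoothReg

section Iff

variable (T : Type u) [CommRing T] [IsRegularLocalRing T]

theorem isRegularLocalRing_quotient_iff (J : Ideal T) (hJ : J ≤ maximalIdeal T) :
    IsRegularLocalRing (T ⧸ J) ↔
      ∀ j ∈ J, j ∈ maximalIdeal T * maximalIdeal T → j ∈ maximalIdeal T * J :=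
  ⟨fun _ => mem_mul_of_isRegularLocalRing_quotient T J,
    isRegularLocalRing_quotient_of_mem_mul T J hJ⟩

end Iff

section L

variable {k : Type u} [CommRing k] (T : Type u) [CommRing T] [IsRegularLocalRing T] [Algebra k T]
  [Algebra.FormallySmooth k T] [Module.Free T Ω[T⁄k]] [Module.Finite T Ω[T⁄k]]
  (A : Type u) [CommRing A] [IsLocalRing A] [Algebra k A] [Algebra T A] [IsScalarTower k T A]

include T in
theorem formallySmooth_iff_isRegularLocalRing (hs : Surjective (algebraMap T A))
    [Algebra.FormallySmooth k (ResidueField A)] :
    Algebra.FormallySmooth k A ↔ IsRegularLocalRing A := by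
  have hsK : Surjective (algebraMap T (ResidueField A)) := by
    rw [IsScalarTower.algebraMap_eq T A (ResidueField A)]
    exact residue_surjective.comp hs
  have hn : RingHom.ker (algebraMap T (ResidueField A)) = maximalIdeal T :=
    IsLocalRing.ker_eq_maximalIdeal _ hsK
  have hle : RingHom.ker (algebraMap T A) ≤ RingHom.ker (algebraMap T (ResidueField A)) := by
    intro x hx
    rw [RingHom.mem_ker] at hx ⊢
    rw [IsScalarTower.algebraMap_apply T A (ResidueField A), hx, map_zero]
  have h₃ : maximalIdeal (ResidueField A) ≤
      RingHom.ker (algebraMap (ResidueField A) (ResidueField A)) := by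
    rw [(IsLocalRing.isField_iff_maximalIdeal_eq.mp (Field.toIsField (ResidueField A)))]
    exact bot_le
  have h2 := (Algebra.FormallySmooth.iff_injective_cotangentComplexBaseChange (R := k)
    (S := ResidueField A) T (ResidueField A) hsK (IsNoetherian.noetherian _) h₃).mp inferInstance
  rw [Algebra.FormallySmooth.iff_injective_cotangentComplexBaseChange_residueField (R := k) T hs
    (IsNoetherian.noetherian _)]
  have hcomp : ∀ z, cotangentComplexBaseChange k A T (ResidueField A) z =
      cotangentComplexBaseChange k (ResidueField A) T (ResidueField A)
        (LinearMap.lTensor (ResidueField A) (Submodule.inclusion hle) z) := by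
    intro z
    induction z using TensorProduct.induction_on with
    | zero => simp only [map_zero]
    | tmul a b => rfl
    | add x y hx hy => simp only [map_add, hx, hy]
  have h3 : Injective (cotangentComplexBaseChange k A T (ResidueField A)) ↔
      Injective (LinearMap.lTensor (ResidueField A) (Submodule.inclusion hle)) := by
    rw [← Function.Injective.of_comp_iff h2]
    exact iff_of_eq (congrArg _ (funext hcomp))
  rw [h3, injective_lTensor_inclusion_iff hsK _ hle, hn,
    ← isRegularLocalRing_quotient_iff T _ (hn ▸ hle)]
  exact ⟨fun h => IsRegularLocalRing.of_ringEquiv (RingHom.quotientKerEquivOfSurjective hs),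
    fun h => IsRegularLocalRing.of_ringEquiv (RingHom.quotientKerEquivOfSurjective hs).symm⟩

end L

end Groth.Agent.Lib.Helper62.SmoothReg

end
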