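import Groth.Agent.Lib.Helper62.HomExact
import Mathlib.Algebra.Module.SnakeLemma
import Mathlib.LinearAlgebra.BilinearMap

/-! The cohomology of `Hom_B(X•, -)` for a three term complex `X2 → X1 → X0` with `X0`, `X1`
projective: long exact sequence in the coefficient module (helper62).
The definitions mirror those of `CotT` in the prelude, for abstract modules. -/

open Function

namespace Groth.Agent.Lib.Helper62.ThreeTermHom

open Groth.Agent.Lib.Helper62.HomExact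

universe v x0 x1 x2 m m'

variable {B : Type v} [CommRing B] {X0 : Type x0} {X1 : Type x1} {X2 : Type x2}
  [AddCommGroup X0] [Module B X0] [AddCommGroup X1] [Module B X1] [AddCommGroup X2] [Module B X2]
variable (d1 : X1 →ₗ[B] X0) (d2 : X2 →ₗ[B] X1)

section Defs

variable (M : Type m) [AddCommGroup M] [Module B M]

def s1 : (X0 →ₗ[B] M) →ₗ[B] (X1 →ₗ[B] M) := LinearMap.lcomp B M d1

def s2 : (X1 →ₗ[B] M) →ₗ[B] (X2 →ₗ[B] M) := LinearMap.lcomp B M d2

variable {M} in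
@[simp] lemma s1_apply (φ : X0 →ₗ[B] M) : s1 d1 M φ = φ ∘ₗ d1 := rfl

variable {M} in
@[simp] lemma s2_apply (φ : X1 →ₗ[B] M) : s2 d2 M φ = φ ∘ₗ d2 := rfl

abbrev GT0 : Type (max x0 m) := LinearMap.ker (s1 d1 M)

abbrev Z1 : Submodule B (X1 →ₗ[B] M) := LinearMap.ker (s2 d2 M)

abbrev B1 : Submodule B (Z1 d2 M) := (LinearMap.range (s1 d1 M)).comap (Z1 d2 M).subtype

abbrev GT1 : Type (max x1 m) := Z1 d2 M ⧸ B1 d1 d2 M

abbrev GT2 : Type (max x2 m) := (X2 →ₗ[B] M) ⧸ LinearMap.range (s2 d2 M)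

end Defs

section Maps

variable {M : Type m} {N : Type m'} [AddCommGroup M] [Module B M] [AddCommGroup N] [Module B N]
  (g : M →ₗ[B] N)

def GT0map : GT0 d1 M →ₗ[B] GT0 d1 N :=
  (LinearMap.llcomp B X0 M N g).restrict (p := LinearMap.ker (s1 d1 M))
    (q := LinearMap.ker (s1 d1 N)) (fun φ hφ => by
      rw [LinearMap.mem_ker, s1_apply] at hφ ⊢
      change (g ∘ₗ φ) ∘ₗ d1 = 0
      rw [LinearMap.comp_assoc, hφ, LinearMap.comp_zero])

def Z1map : Z1 d2 M →ₗ[B] Z1 d2 N :=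
  (LinearMap.llcomp B X1 M N g).restrict (p := Z1 d2 M) (q := Z1 d2 N) (fun φ hφ => by
      rw [LinearMap.mem_ker, s2_apply] at hφ ⊢
      change (g ∘ₗ φ) ∘ₗ d2 = 0
      rw [LinearMap.comp_assoc, hφ, LinearMap.comp_zero])

def GT1map : GT1 d1 d2 M →ₗ[B] GT1 d1 d2 N :=
  Submodule.mapQ (B1 d1 d2 M) (B1 d1 d2 N) (Z1map d2 g) (by
    rintro φ ⟨ψ, hψ⟩
    refine ⟨g ∘ₗ ψ, ?_⟩
    change (g ∘ₗ ψ) ∘ₗ d1 = g ∘ₗ (φ : X1 →ₗ[B] M)
    have h' : ψ ∘ₗ d1 = (φ : X1 →ₗ[B] M) := hψ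
    rw [LinearMap.comp_assoc, h'])

def GT2map : GT2 d2 M →ₗ[B] GT2 d2 N :=
  Submodule.mapQ _ _ (LinearMap.llcomp B X2 M N g) (by
    rintro _ ⟨ψ, rfl⟩
    exact ⟨g ∘ₗ ψ, by rw [s2_apply, LinearMap.comp_assoc]; rfl⟩)

lemma GT0map_coe (φ : GT0 d1 M) : ((GT0map d1 g φ : GT0 d1 N) : X0 →ₗ[B] N) =
    g ∘ₗ (φ : X0 →ₗ[B] M) := rfl

lemma Z1map_coe (c : Z1 d2 M) :
    ((Z1map d2 g c : Z1 d2 N) : X1 →ₗ[B] N) = g ∘ₗ (c : X1 →ₗ[B] M) := rfl

lemma GT1map_mk (c : Z1 d2 M) :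
    GT1map d1 d2 g (Submodule.Quotient.mk c) = Submodule.Quotient.mk (Z1map d2 g c) := rfl

lemma GT2map_mk (ψ : X2 →ₗ[B] M) :
    GT2map d2 g (Submodule.Quotient.mk ψ) = Submodule.Quotient.mk (g ∘ₗ ψ) := rfl

end Maps

section Exactness

variable {M' M M'' : Type m} [AddCommGroup M'] [Module B M'] [AddCommGroup M] [Module B M]
  [AddCommGroup M''] [Module B M'']
  (f : M' →ₗ[B] M) (g : M →ₗ[B] M'')

lemma GT0map_injective (hf : Injective f) : Injective (GT0map d1 f) := by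
  intro φ ψ h
  apply Subtype.ext
  apply comp_left_injective f hf
  have := congrArg Subtype.val h
  exact this

lemma GT0_exact (hf : Injective f) (hfg : Exact f g) : Exact (GT0map d1 f) (GT0map d1 g) := by
  intro φ
  constructor
  · intro h
    have h0 : g ∘ₗ (φ : X0 →ₗ[B] M) = 0 := congrArg Subtype.val h
    obtain ⟨φ', hφ'⟩ := exists_factor f g hf hfg _ h0
    have hmem : φ' ∈ LinearMap.ker (s1 d1 M') := by
      rw [LinearMap.mem_ker, s1_apply]
      apply comp_left_injective f hf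
      rw [← LinearMap.comp_assoc, hφ', LinearMap.comp_zero]
      exact φ.2
    exact ⟨⟨φ', hmem⟩, Subtype.ext hφ'⟩
  · rintro ⟨φ', rfl⟩
    apply Subtype.ext
    rw [GT0map_coe, GT0map_coe]
    exact comp_comp_eq_zero f g hfg _

variable (h12 : d1 ∘ₗ d2 = 0)

include h12 in
lemma GT1_exact [Module.Projective B X0] (hf : Injective f) (hg : Surjective g) (hfg : Exact f g) :
    Exact (GT1map d1 d2 f) (GT1map d1 d2 g) := by
  intro t
  constructor
  · intro h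
    obtain ⟨c, rfl⟩ := Submodule.Quotient.mk_surjective _ t
    rw [GT1map_mk, Submodule.Quotient.mk_eq_zero, Submodule.mem_comap, LinearMap.mem_range] at h
    obtain ⟨ψ'', hψ''⟩ := h
    obtain ⟨ψ, hψ⟩ := exists_lift g hg ψ''
    have h0 : g ∘ₗ ((c : X1 →ₗ[B] M) - ψ ∘ₗ d1) = 0 := by
      rw [LinearMap.comp_sub, ← LinearMap.comp_assoc, hψ]
      rw [sub_eq_zero]
      exact hψ''.symm
    obtain ⟨c', hc'⟩ := exists_factor f g hf hfg _ h0
    have hmem : c' ∈ Z1 d2 M' := by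
      rw [LinearMap.mem_ker, s2_apply]
      apply comp_left_injective f hf
      rw [← LinearMap.comp_assoc, hc', LinearMap.comp_zero, LinearMap.sub_comp,
        LinearMap.comp_assoc, h12, LinearMap.comp_zero, sub_zero]
      exact c.2
    refine ⟨Submodule.Quotient.mk ⟨c', hmem⟩, ?_⟩
    rw [GT1map_mk, Submodule.Quotient.eq, Submodule.mem_comap, LinearMap.mem_range]
    refine ⟨-ψ, ?_⟩
    rw [s1_apply]
    change (-ψ) ∘ₗ d1 = f ∘ₗ c' - (c : X1 →ₗ[B] M)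
    rw [hc', LinearMap.neg_comp]
    abel
  · rintro ⟨t', rfl⟩
    obtain ⟨c', rfl⟩ := Submodule.Quotient.mk_surjective _ t'
    rw [GT1map_mk, GT1map_mk]
    have : Z1map d2 g (Z1map d2 f c') = 0 := by
      apply Subtype.ext
      rw [Z1map_coe, Z1map_coe]
      exact comp_comp_eq_zero f g hfg _
    rw [this, Submodule.Quotient.mk_zero]

lemma GT2_exact [Module.Projective B X1] (hf : Injective f) (hg : Surjective g) (hfg : Exact f g) :
    Exact (GT2map d2 f) (GT2map d2 g) := by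
  intro t
  constructor
  · intro h
    obtain ⟨ψ, rfl⟩ := Submodule.Quotient.mk_surjective _ t
    rw [GT2map_mk, Submodule.Quotient.mk_eq_zero, LinearMap.mem_range] at h
    obtain ⟨χ'', hχ''⟩ := h
    obtain ⟨χ, hχ⟩ := exists_lift g hg χ''
    have h0 : g ∘ₗ (ψ - χ ∘ₗ d2) = 0 := by
      rw [LinearMap.comp_sub, ← LinearMap.comp_assoc, hχ, sub_eq_zero]
      exact hχ''.symm
    obtain ⟨ψ', hψ'⟩ := exists_factor f g hf hfg _ h0
    refine ⟨Submodule.Quotient.mk ψ', ?_⟩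
    rw [GT2map_mk, Submodule.Quotient.eq, LinearMap.mem_range]
    refine ⟨-χ, ?_⟩
    rw [s2_apply, hψ', LinearMap.neg_comp]
    abel
  · rintro ⟨t', rfl⟩
    obtain ⟨ψ', rfl⟩ := Submodule.Quotient.mk_surjective _ t'
    rw [GT2map_mk, GT2map_mk, comp_comp_eq_zero f g hfg, Submodule.Quotient.mk_zero]

end Exactness

section Connecting

variable (h12 : d1 ∘ₗ d2 = 0)

section
variable (N : Type m) [AddCommGroup N] [Module B N]

/-- `d1^*` with values in the cocycles. -/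
def toZ1 : (X0 →ₗ[B] N) →ₗ[B] Z1 d2 N :=
  LinearMap.codRestrict (Z1 d2 N) (s1 d1 N) (fun φ => by
    rw [LinearMap.mem_ker, s2_apply, s1_apply, LinearMap.comp_assoc, h12, LinearMap.comp_zero])

lemma toZ1_coe (φ : X0 →ₗ[B] N) : ((toZ1 d1 d2 h12 N φ : Z1 d2 N) : X1 →ₗ[B] N) = φ ∘ₗ d1 := rfl

lemma exact_subtype_toZ1 : Exact (LinearMap.ker (s1 d1 N)).subtype (toZ1 d1 d2 h12 N) := by
  intro φ
  constructor
  · intro h
    refine ⟨⟨φ, ?_⟩, rfl⟩
    rw [LinearMap.mem_ker]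
    exact congrArg Subtype.val h
  · rintro ⟨ψ, rfl⟩
    apply Subtype.ext
    exact ψ.2

lemma exact_toZ1_mkQ : Exact (toZ1 d1 d2 h12 N) (B1 d1 d2 N).mkQ := by
  intro z
  rw [Submodule.mkQ_apply, Submodule.Quotient.mk_eq_zero, Submodule.mem_comap, LinearMap.mem_range]
  constructor
  · rintro ⟨φ, hφ⟩
    exact ⟨φ, Subtype.ext hφ⟩
  · rintro ⟨φ, rfl⟩
    exact ⟨φ, rfl⟩

/-- `C^1 / B^1`. -/
abbrev Q1 : Type (max x1 m) := (X1 →ₗ[B] N) ⧸ LinearMap.range (s1 d1 N)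

/-- the map `C^1/B^1 → C^2` induced by `d2^*`. -/
def fromQ1 : Q1 d1 N →ₗ[B] (X2 →ₗ[B] N) :=
  Submodule.liftQ _ (s2 d2 N) (by
    rintro _ ⟨φ, rfl⟩
    rw [LinearMap.mem_ker, s2_apply, s1_apply, LinearMap.comp_assoc, h12, LinearMap.comp_zero])

lemma fromQ1_mk (c : X1 →ₗ[B] N) : fromQ1 d1 d2 h12 N (Submodule.Quotient.mk c) = c ∘ₗ d2 := rfl

/-- the inclusion `T1 → C^1/B^1`. -/
def T1toQ1 : GT1 d1 d2 N →ₗ[B] Q1 d1 N :=
  Submodule.mapQ (B1 d1 d2 N) (LinearMap.range (s1 d1 N)) (Z1 d2 N).subtype le_rfl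

lemma T1toQ1_mk (c : Z1 d2 N) :
    T1toQ1 d1 d2 N (Submodule.Quotient.mk c) = Submodule.Quotient.mk (c : X1 →ₗ[B] N) := rfl

lemma T1toQ1_injective : Injective (T1toQ1 d1 d2 N) := by
  rw [← LinearMap.ker_eq_bot, LinearMap.ker_eq_bot']
  intro t ht
  obtain ⟨c, rfl⟩ := Submodule.Quotient.mk_surjective _ t
  rw [T1toQ1_mk, Submodule.Quotient.mk_eq_zero] at ht
  rw [Submodule.Quotient.mk_eq_zero]
  exact ht

lemma exact_T1toQ1_fromQ1 : Exact (T1toQ1 d1 d2 N) (fromQ1 d1 d2 h12 N) := by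
  intro y
  obtain ⟨c, rfl⟩ := Submodule.Quotient.mk_surjective _ y
  rw [fromQ1_mk]
  constructor
  · intro h
    exact ⟨Submodule.Quotient.mk ⟨c, h⟩, rfl⟩
  · rintro ⟨t, ht⟩
    obtain ⟨z, rfl⟩ := Submodule.Quotient.mk_surjective _ t
    rw [T1toQ1_mk, Submodule.Quotient.eq] at ht
    obtain ⟨φ, hφ⟩ := ht
    have hc : c = (z : X1 →ₗ[B] N) - φ ∘ₗ d1 := by
      rw [s1_apply] at hφ
      rw [hφ]; abel
    rw [hc, LinearMap.sub_comp, LinearMap.comp_assoc, h12, LinearMap.comp_zero, sub_zero]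
    exact z.2

lemma exact_fromQ1_mkQ : Exact (fromQ1 d1 d2 h12 N) (LinearMap.range (s2 d2 N)).mkQ := by
  intro ψ
  rw [Submodule.mkQ_apply, Submodule.Quotient.mk_eq_zero, LinearMap.mem_range]
  constructor
  · rintro ⟨c, hc⟩
    exact ⟨Submodule.Quotient.mk c, hc⟩
  · rintro ⟨y, hy⟩
    obtain ⟨c, rfl⟩ := Submodule.Quotient.mk_surjective _ y
    exact ⟨c, hy⟩

end

variable {M' M M'' : Type m} [AddCommGroup M'] [Module B M'] [AddCommGroup M] [Module B M]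
  [AddCommGroup M''] [Module B M'']
  (f : M' →ₗ[B] M) (g : M →ₗ[B] M'')

/-- `C^1/B^1` is functorial. -/
def Q1map {M N : Type m} [AddCommGroup M] [Module B M] [AddCommGroup N] [Module B N]
    (g : M →ₗ[B] N) : Q1 d1 M →ₗ[B] Q1 d1 N :=
  Submodule.mapQ _ _ (LinearMap.llcomp B X1 M N g) (by
    rintro _ ⟨ψ, rfl⟩
    exact ⟨g ∘ₗ ψ, by rw [s1_apply, LinearMap.comp_assoc]; rfl⟩)

lemma Q1map_mk {M N : Type m} [AddCommGroup M] [Module B M] [AddCommGroup N] [Module B N]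
    (g : M →ₗ[B] N) (c : X1 →ₗ[B] M) :
    Q1map d1 g (Submodule.Quotient.mk c) = Submodule.Quotient.mk (g ∘ₗ c) := rfl

/-- postcomposition. -/
abbrev post (X : Type*) [AddCommGroup X] [Module B X] {M N : Type*} [AddCommGroup M] [Module B M]
    [AddCommGroup N] [Module B N] (g : M →ₗ[B] N) : (X →ₗ[B] M) →ₗ[B] (X →ₗ[B] N) :=
  LinearMap.llcomp B X M N g

lemma exact_llcomp (X : Type*) [AddCommGroup X] [Module B X] (hf : Injective f) (hfg : Exact f g) :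
    Exact (post X f) (post X g) := by
  intro φ
  constructor
  · intro h
    have h0 : g ∘ₗ φ = 0 := h
    obtain ⟨φ', hφ'⟩ := exists_factor f g hf hfg φ h0
    refine ⟨φ', ?_⟩
    exact hφ'
  · rintro ⟨φ', rfl⟩
    exact comp_comp_eq_zero f g hfg φ'

lemma llcomp_surjective (X : Type*) [AddCommGroup X] [Module B X] [Module.Projective B X]
    (hg : Surjective g) : Surjective (post X g) := by
  intro φ''
  obtain ⟨φ, hφ⟩ := exists_lift g hg φ''
  refine ⟨φ, ?_⟩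
  exact hφ

lemma llcomp_injective (X : Type*) [AddCommGroup X] [Module B X]
    (hf : Injective f) : Injective (post X f) := by
  intro φ ψ h
  have h' : f ∘ₗ φ = f ∘ₗ ψ := h
  exact comp_left_injective f hf h'

lemma Z1map_injective (hf : Injective f) : Injective (Z1map d2 f) := by
  intro φ ψ h
  apply Subtype.ext
  apply comp_left_injective f hf
  exact congrArg Subtype.val h

lemma exact_Z1map (hf : Injective f) (hfg : Exact f g) : Exact (Z1map d2 f) (Z1map d2 g) := by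
  intro c
  constructor
  · intro h
    have h0 : g ∘ₗ (c : X1 →ₗ[B] M) = 0 := congrArg Subtype.val h
    obtain ⟨c', hc'⟩ := exists_factor f g hf hfg _ h0
    have hmem : c' ∈ Z1 d2 M' := by
      rw [LinearMap.mem_ker, s2_apply]
      apply comp_left_injective f hf
      rw [← LinearMap.comp_assoc, hc', LinearMap.comp_zero]
      exact c.2
    exact ⟨⟨c', hmem⟩, Subtype.ext hc'⟩
  · rintro ⟨c', rfl⟩
    apply Subtype.ext
    rw [Z1map_coe, Z1map_coe]
    exact comp_comp_eq_zero f g hfg _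

lemma exact_Q1map [Module.Projective B X0] (hf : Injective f) (hg : Surjective g)
    (hfg : Exact f g) : Exact (Q1map d1 f) (Q1map d1 g) := by
  intro y
  constructor
  · intro h
    obtain ⟨c, rfl⟩ := Submodule.Quotient.mk_surjective _ y
    rw [Q1map_mk, Submodule.Quotient.mk_eq_zero, LinearMap.mem_range] at h
    obtain ⟨ψ'', hψ''⟩ := h
    obtain ⟨ψ, hψ⟩ := exists_lift g hg ψ''
    have h0 : g ∘ₗ (c - ψ ∘ₗ d1) = 0 := by
      rw [LinearMap.comp_sub, ← LinearMap.comp_assoc, hψ, sub_eq_zero]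
      exact hψ''.symm
    obtain ⟨c', hc'⟩ := exists_factor f g hf hfg _ h0
    refine ⟨Submodule.Quotient.mk c', ?_⟩
    rw [Q1map_mk, Submodule.Quotient.eq, LinearMap.mem_range]
    refine ⟨-ψ, ?_⟩
    rw [s1_apply, hc', LinearMap.neg_comp]
    abel
  · rintro ⟨y', rfl⟩
    obtain ⟨c', rfl⟩ := Submodule.Quotient.mk_surjective _ y'
    rw [Q1map_mk, Q1map_mk, comp_comp_eq_zero f g hfg, Submodule.Quotient.mk_zero]

lemma Q1map_surjective [Module.Projective B X1] (hg : Surjective g) : Surjective (Q1map d1 g) := by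
  intro y
  obtain ⟨c'', rfl⟩ := Submodule.Quotient.mk_surjective _ y
  obtain ⟨c, hc⟩ := exists_lift g hg c''
  exact ⟨Submodule.Quotient.mk c, by rw [Q1map_mk, hc]⟩

variable [Module.Projective B X0] [Module.Projective B X1]
variable (hf : Injective f) (hg : Surjective g) (hfg : Exact f g)

/-- the first connecting map. -/
noncomputable def δ0 : GT0 d1 M'' →ₗ[B] GT1 d1 d2 M' :=
  SnakeLemma.δ' (toZ1 d1 d2 h12 M') (toZ1 d1 d2 h12 M) (toZ1 d1 d2 h12 M'')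
    (post X0 f) (post X0 g) (exact_llcomp f g X0 hf hfg)
    (Z1map d2 f) (Z1map d2 g) (exact_Z1map d2 f g hf hfg)
    (by ext φ x; rfl) (by ext φ x; rfl)
    (LinearMap.ker (s1 d1 M'')).subtype (exact_subtype_toZ1 d1 d2 h12 M'')
    (B1 d1 d2 M').mkQ (exact_toZ1_mkQ d1 d2 h12 M')
    (llcomp_surjective g X0 hg) (Z1map_injective d2 f hf)

omit [Module.Projective B X1] in
lemma exact_GT0map_δ0 : Exact (GT0map d1 g) (δ0 d1 d2 h12 f g hf hg hfg) :=
  SnakeLemma.exact_δ'_right _ _ _ _ _ _ _ _ _ _ _ (LinearMap.ker (s1 d1 M)).subtype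
    (exact_subtype_toZ1 d1 d2 h12 M) _ _ _ _ _ _ (GT0map d1 g) (by ext φ x; rfl)
    (Submodule.subtype_injective _)

omit [Module.Projective B X1] in
lemma exact_δ0_GT1map : Exact (δ0 d1 d2 h12 f g hf hg hfg) (GT1map d1 d2 f) :=
  SnakeLemma.exact_δ'_left _ _ _ _ _ _ _ _ _ _ _ _ _ _ _ (B1 d1 d2 M).mkQ
    (exact_toZ1_mkQ d1 d2 h12 M) _ _ (GT1map d1 d2 f) (by ext φ; rfl)
    (Submodule.mkQ_surjective _)

/-- the second connecting map. -/
noncomputable def δ1 : GT1 d1 d2 M'' →ₗ[B] GT2 d2 M' :=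
  SnakeLemma.δ' (fromQ1 d1 d2 h12 M') (fromQ1 d1 d2 h12 M) (fromQ1 d1 d2 h12 M'')
    (Q1map d1 f) (Q1map d1 g) (exact_Q1map d1 f g hf hg hfg)
    (post X2 f) (post X2 g) (exact_llcomp f g X2 hf hfg)
    (by apply Submodule.linearMap_qext; ext φ x; rfl) (by apply Submodule.linearMap_qext; ext φ x; rfl)
    (T1toQ1 d1 d2 M'') (exact_T1toQ1_fromQ1 d1 d2 h12 M'')
    (LinearMap.range (s2 d2 M')).mkQ (exact_fromQ1_mkQ d1 d2 h12 M')
    (Q1map_surjective d1 g hg) (llcomp_injective f X2 hf)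

lemma exact_GT1map_δ1 : Exact (GT1map d1 d2 g) (δ1 d1 d2 h12 f g hf hg hfg) :=
  SnakeLemma.exact_δ'_right _ _ _ _ _ _ _ _ _ _ _ (T1toQ1 d1 d2 M)
    (exact_T1toQ1_fromQ1 d1 d2 h12 M) _ _ _ _ _ _ (GT1map d1 d2 g)
    (by apply Submodule.linearMap_qext; ext φ; rfl)
    (T1toQ1_injective d1 d2 M'')

lemma exact_δ1_GT2map : Exact (δ1 d1 d2 h12 f g hf hg hfg) (GT2map d2 f) :=
  SnakeLemma.exact_δ'_left _ _ _ _ _ _ _ _ _ _ _ _ _ _ _ (LinearMap.range (s2 d2 M)).mkQ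
    (exact_fromQ1_mkQ d1 d2 h12 M) _ _ (GT2map d2 f) (by ext φ; rfl)
    (Submodule.mkQ_surjective _)

end Connecting

end Groth.Agent.Lib.Helper62.ThreeTermHom
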